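import Cfsg.Agent.S5566
import Cfsg.Agent.S5567
import Cfsg.Agent.S5568
import Cfsg.Agent.J4Local.CentT.Main
import Cfsg.Agent.J4Local.Order.Lin

/-!
A simple group of Janko-four type has exactly two classes of involutions.
-/

set_option autoImplicit false
set_option maxRecDepth 100000

namespace CfsgLib.J4Type

open Cfsg CfsgLib.J4CentT

theorem not_comm {G : Type*} [Group G] [Finite G] [IsSimpleGroup G] {z : G}
    (hJ : Cfsg.IsOfJankoFourTypeAt z) : ¬ IsMulCommutative G := by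
  intro hG
  letI : CommGroup G := { (inferInstance : Group G) with mul_comm := fun a b => hG.is_comm.comm a b }
  obtain ⟨P, hz, -, hcard, -⟩ := hJ
  have hp : (Nat.card G).Prime := IsSimpleGroup.prime_card
  have h : Nat.card ↥(Cfsg.twoCoreOfCentralizer z) ∣ Nat.card G := Subgroup.card_subgroup_dvd_card _
  have h2 : orderOf z ∣ Nat.card G := orderOf_dvd_natCard z
  rw [hz] at h2
  rw [hcard, ← (Nat.prime_dvd_prime_iff_eq Nat.prime_two hp).1 h2] at h
  norm_num at h

theorem two_classes {G : Type*} [Group G] [Finite G] [IsSimpleGroup G] {z : G}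
    (hJ : Cfsg.IsOfJankoFourTypeAt z) :
    ∃ x y : G, orderOf x = 2 ∧ orderOf y = 2 ∧ ¬ IsConj x y ∧
      ∀ w : G, orderOf w = 2 → IsConj w x ∨ IsConj w y := by
  have hG := not_comm hJ
  have hU : UniqueEleven G := Cfsg.Agent.S5566.result hG ⟨z, hJ⟩
  obtain ⟨T⟩ := (inferInstance : Nonempty (Sylow 2 G))
  obtain ⟨V0, ⟨-, hV, hcard⟩, -⟩ := hU T
  obtain ⟨F⟩ := exists_fr (z := z) V0 hV hcard (Cfsg.Agent.S5567.result hG ⟨z, hJ⟩ V0 hV hcard).2
    (Cfsg.Agent.S5568.result hG z hJ V0 hV hcard)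
  obtain ⟨E, hE⟩ := exists_eData hJ F.zconj
  haveI : Fact (Nat.Prime 2) := ⟨Nat.prime_two⟩
  obtain ⟨z', t, -, ht, ht1, -, hzt, -, -, -⟩ := Cfsg.Agent.S5568.result hG z hJ V0 hV hcard
  obtain ⟨P, hz, -⟩ := hJ
  have ht2 : orderOf t = 2 := orderOf_eq_prime (hV.2 t ht) ht1
  refine ⟨z, t, hz, ht2, hzt, fun w hw => ?_⟩
  by_cases h : IsConj z w
  · exact Or.inl h.symm
  · exact Or.inr ((CfsgLib.J4Order.second_class hE hU hw h).symm.trans
      (CfsgLib.J4Order.second_class hE hU ht2 hzt))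

end CfsgLib.J4Type
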