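import Cfsg.Agent.J4Type.Main
import Cfsg.Agent.J4Type.Classes
import Cfsg.Agent.J4Local.Order.Assembly

/-!
The statement on the centraliser `2^(1+12).3.M₂₂.2` from the two pair counts.
-/

set_option autoImplicit false
set_option maxRecDepth 100000

namespace CfsgLib.J4Type

open Cfsg CfsgLib.J4CentT CfsgLib.J4Order

/-- The order of a group of Janko-four type, from the two counts. -/
theorem card_of {G : Type*} [Group G] [Finite G] [IsSimpleGroup G] {z : G}
    (hJ : Cfsg.IsOfJankoFourTypeAt z)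
    (counts : ∀ S : CfsgLib.J4Order.Setup z, S.SplitFacts → S.rootZ 2 → Nat.card S.H = 21799895040 →
      Nat.card {q : G × G // IsConj z q.1 ∧ IsConj S.pair0 q.2 ∧ S.w ∈ Subgroup.zpowers (q.1 * q.2)} = 29236337328 ∧
      Nat.card {q : G × G // IsConj z q.1 ∧ IsConj S.pair0 q.2 ∧ S.pair0 ∈ Subgroup.zpowers (q.1 * q.2)} =
        1544188503) :
    Nat.card G = 86775571046077562880 := by
  obtain ⟨S, hs, hz2, hH⟩ := exists_setup (not_comm hJ) hJ
  obtain ⟨h1, h2⟩ := counts S hs hz2 hH
  exact card_group_of (not_comm hJ) hJ S h1 h2 hH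

end CfsgLib.J4Type
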