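import Cfsg.Agent.J4Type.RTwoWord

/-!
Images of elements of the normaliser of the elementary subgroup of order `2 ^ 11` under translations.
-/

set_option autoImplicit false
set_option maxRecDepth 100000
set_option linter.style.haveILetI false
set_option linter.unusedSectionVars false

namespace CfsgLib.J4Type.RTwo

open Cfsg CfsgLib.Golay CfsgLib.J4Eleven CfsgLib.J4Ten CfsgLib.J4Type.Sym Subgroup

/-- The syndrome with the given three components in the conjugates of the fixed space. -/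
def usyn (n : ℕ × ℕ × ℕ) : ℕ :=
  comb wB n.1 ^^^ act (valC [7]) (comb wB n.2.1) ^^^ act (valC [7, 7]) (comb wB n.2.2)

/-- The image of a member of the fixed space under the translation, as a pair. -/
def talP (n : ℕ) : ℕ × ℕ := (comb wB (comb mT n), fixL.getD (fPart (comb mT n) : ℕ) 0)

/-- The image of the element with the given components. -/
def timgP (n : ℕ × ℕ × ℕ) : ℕ × ℕ :=
  pmul (pmul (talP n.1) (pmul (pmul (0, valC [7]) (talP n.2.1)) (0, valC [7, 7])))
    (pmul (pmul (0, valC [7, 7]) (talP n.2.2)) (0, valC [7]))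

/-- The image of a pair under a translation, from a decomposition. -/
def stepP (s si : List ℕ) (st : (ℕ × ℕ × ℕ) × List ℕ) : ℕ × ℕ :=
  pmul (pmul (0, valC s) (timgP st.1)) (0, valC (st.2 ++ si))

/-- Whether the decomposition is valid. -/
def stepOK (s si : List ℕ) (st : (ℕ × ℕ × ℕ) × List ℕ) (p : ℕ × ℕ) : Bool :=
  decide (st.1.1 < 64) && decide (st.1.2.1 < 64) && decide (st.1.2.2 < 64) && stabW st.2 &&
    eqC (s ++ si) [] && (act (valC si) p.1 == usyn st.1) && (comp (valC si) (comp p.2 (valC s)) == valC st.2)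

variable {G : Type*} [Group G] [Finite G] {z : G} {V : Subgroup G} (X : Ctx z V)

theorem rep_kappa (σ : ↥M24) : X.Rep (X.κ σ) (0, cd σ) :=
  ⟨by norm_num, σ, rfl, by rw [Ctx.elem, X.nu_zero, one_mul]⟩

theorem rep_val (w : List ℕ) : X.Rep (X.κ (val w)) (0, valC w) := cd_val w ▸ rep_kappa X (val w)

theorem rep_alpha (n : ℕ) : X.Rep (X.alpha n) (comb wB n, fixL.getD (fPart n : ℕ) 0) :=
  ⟨wB_lt n, fel (fPart n), code_fel _, rfl⟩

theorem rep_eq {g : G} {p q : ℕ × ℕ} (h : X.Rep g p) (h' : X.Rep g q) : p = q := by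
  obtain ⟨hp, σ, hσ, e⟩ := h
  obtain ⟨hq, τ, hτ, e'⟩ := h'
  obtain ⟨e1, e2⟩ := X.elem_inj hp hq (e.symm.trans e')
  exact Prod.ext e1 (by rw [← hσ, ← hτ, e2])

variable {X} {T : G} (hT : TenT X T) (hd : X.κ dM * T = T * X.κ dM)

include hT hd

theorem rep_timg {n : ℕ × ℕ × ℕ} (h1 : n.1 < 64) (h2 : n.2.1 < 64) (h3 : n.2.2 < 64) :
    X.Rep (T * X.nu (usyn n) * T) (timgP n) := by
  have hal : ∀ m < 64, X.Rep (T * X.nu (comb wB m) * T) (talP m) := fun m hm => by
    rw [← X.alpha_low hm, hT.act m (by omega)]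
    exact rep_alpha X _
  have c1 : Commute (X.κ (val [7])) T := comm_stab hT hd (by decide)
  have c2 : Commute (X.κ (val [7, 7])) T := comm_stab hT hd (by decide)
  have h7 : val [7, 7, 7] = 1 := val_eq (b := []) (by decide +kernel)
  have i1 : (X.κ (val [7]))⁻¹ = X.κ (val [7, 7]) := inv_eq_of_mul_eq_one_right (by
    rw [← map_mul, ← val_append, List.singleton_append, h7, map_one])
  have i2 : (X.κ (val [7, 7]))⁻¹ = X.κ (val [7]) := by rw [← i1, inv_inv]
  have hw : ∀ w m, X.nu (act (valC w) (comb wB m)) = X.κ (val w) * X.nu (comb wB m) * (X.κ (val w))⁻¹ := by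
    intro w m
    rw [X.conj_κ (val w) (wB_lt m), ← cd_val]
    rfl
  have e : T * X.nu (usyn n) * T = (T * X.nu (comb wB n.1) * T) *
      (X.κ (val [7]) * (T * X.nu (comb wB n.2.1) * T) * X.κ (val [7, 7])) *
      (X.κ (val [7, 7]) * (T * X.nu (comb wB n.2.2) * T) * X.κ (val [7])) := by
    rw [usyn, X.nu_xor, X.nu_xor, hw, hw, i1, i2]
    set a := X.κ (val [7])
    set b := X.κ (val [7, 7])
    have hTT := hT.sq
    calc T * (X.nu (comb wB n.1) * (a * X.nu (comb wB n.2.1) * b) * (b * X.nu (comb wB n.2.2) * a)) * T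
        = T * X.nu (comb wB n.1) * (T * T) * (a * X.nu (comb wB n.2.1) * b) * (T * T) *
            (b * X.nu (comb wB n.2.2) * a) * T := by rw [hTT]; group
      _ = T * X.nu (comb wB n.1) * T * (T * a * X.nu (comb wB n.2.1) * (b * T)) *
            (T * b * X.nu (comb wB n.2.2) * (a * T)) := by group
      _ = _ := by
          rw [c2.eq, c1.eq,
            show T * a * X.nu (comb wB n.2.1) = a * T * X.nu (comb wB n.2.1) by rw [c1.eq],
            show T * b * X.nu (comb wB n.2.2) = b * T * X.nu (comb wB n.2.2) by rw [c2.eq]]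
          group
  rw [e]
  exact X.rep_mul (X.rep_mul (hal _ h1) (X.rep_mul (X.rep_mul (rep_val X _) (hal _ h2)) (rep_val X _)))
    (X.rep_mul (X.rep_mul (rep_val X _) (hal _ h3)) (rep_val X _))

/-- One step along a chain of translations. -/
theorem rep_step {s si : List ℕ} {st : (ℕ × ℕ × ℕ) × List ℕ} {p : ℕ × ℕ} {g : G}
    (h : stepOK s si st p = true) (hg : X.Rep g p) :
    X.Rep (tau X T s * g * tau X T s) (stepP s si st) := by
  simp only [stepOK, Bool.and_eq_true, decide_eq_true_eq, beq_iff_eq] at h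
  obtain ⟨⟨⟨⟨⟨⟨h1, h2⟩, h3⟩, hk⟩, hinv⟩, hu⟩, hc⟩ := h
  obtain ⟨hp, σ, hσ, rfl⟩ := hg
  have hsi : val si = (val s)⁻¹ := val_inv hinv
  have hki : (val si) * σ * val s = val st.2 := cd_inj (by
    rw [mul_assoc, cd_mul, cd_mul, cd_val, cd_val, cd_val, show cd σ = p.2 from hσ, hc])
  have e : (X.κ (val s))⁻¹ * X.elem p.1 σ * X.κ (val s) = X.nu (usyn st.1) * X.κ (val st.2) := by
    rw [← hu, ← cd_val, show cd (val si) = code ((val si : ↥M24) : Equiv.Perm GolayPt) from rfl,
      ← X.conj_κ _ hp, ← hki, map_mul, map_mul, hsi, map_inv, Ctx.elem]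
    group
  have ec : Commute (X.κ (val st.2)) T := comm_stab hT hd hk
  have e2 : tau X T s * X.elem p.1 σ * tau X T s =
      X.κ (val s) * (T * X.nu (usyn st.1) * T) * X.κ (val (st.2 ++ si)) := by
    rw [val_append, map_mul, hsi, map_inv]
    calc tau X T s * X.elem p.1 σ * tau X T s
        = X.κ (val s) * T * ((X.κ (val s))⁻¹ * X.elem p.1 σ * X.κ (val s)) * T * (X.κ (val s))⁻¹ := by
          simp only [tau]; group
      _ = X.κ (val s) * T * X.nu (usyn st.1) * (X.κ (val st.2) * T) * (X.κ (val s))⁻¹ := by rw [e]; group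
      _ = _ := by rw [ec.eq]; group
  rw [e2]
  exact X.rep_mul (X.rep_mul (rep_val X _) (rep_timg hT hd h1 h2 h3)) (rep_val X _)

end CfsgLib.J4Type.RTwo
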