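import Cfsg.Agent.J4Type.Main

/-!
The extraspecial centraliser setting with a non-complemented normal subgroup of order three modulo the core
and automorphism group of M₂₂ on top has the shape `2^(1+12).3.M₂₂.2`, hence Janko-four type.
-/

set_option autoImplicit false
set_option maxRecDepth 100000
set_option linter.style.haveILetI false

namespace CfsgLib.J4Type

open Subgroup
open scoped commutatorElement

theorem exists_type_of_setting {G : Type*} [Group G] [Finite G] (τ : G)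
    (Q N : Subgroup ↥(centralizer ({τ} : Set G))) [hQn : Q.Normal] [hNn : N.Normal]
    (hS : Cfsg.IsExtraspecialCentralizerSetting τ Q 6) (hQN : Q ≤ N) (hN3 : Nat.card ↥N = 3 * Nat.card ↥Q)
    (hns : ∀ K : Subgroup ↥(centralizer ({τ} : Set G)), K ⊓ N = Q → K ⊔ N = ⊤ → False)
    (hAut : Nonempty (↥(centralizer ({τ} : Set G)) ⧸ N ≃* MulAut ↥Cfsg.Spor.M22)) :
    Cfsg.IsOfJankoFourTypeAt τ := by
  classical
  obtain ⟨hτ, hF, hQ, hcard, -⟩ := hS
  obtain ⟨e⟩ := hAut
  haveI := CfsgLib.J4Local.isSimple_m22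
  let f : ↥(centralizer ({τ} : Set G)) →* MulAut ↥Cfsg.Spor.M22 := e.toMonoidHom.comp (QuotientGroup.mk' N)
  have hfs : Function.Surjective f := e.surjective.comp (QuotientGroup.mk'_surjective N)
  have hfk : ∀ h : ↥(centralizer ({τ} : Set G)), f h = 1 ↔ h ∈ N := fun h =>
    (map_eq_one_iff e e.injective).trans (QuotientGroup.eq_one_iff h)
  obtain ⟨M, hMd⟩ : ∃ M, M = (Cfsg.Inn ↥Cfsg.Spor.M22).comap f := ⟨_, rfl⟩
  have hM : M.index = 2 := by
    rw [hMd, index_comap_of_surjective _ hfs]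
    exact CfsgLib.Golay.Cert.out_m22
  haveI hMn : M.Normal := normal_of_index_eq_two hM
  have hNM : N ≤ M := fun n hn => by rw [hMd, mem_comap, (hfk n).2 hn]; exact one_mem _
  have hconj : Function.Injective (MulAut.conj : ↥Cfsg.Spor.M22 →* MulAut ↥Cfsg.Spor.M22) := by
    rw [← MonoidHom.ker_eq_bot_iff, eq_bot_iff, ← CfsgLib.J4Local.center_m22]
    intro a ha
    refine mem_center_iff.mpr fun b => ?_
    have h := congrArg (fun f : MulAut ↥Cfsg.Spor.M22 => f b) (MonoidHom.mem_ker.mp ha)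
    simp only [MulAut.conj_apply, MulAut.one_apply] at h
    exact (mul_inv_eq_iff_eq_mul.mp h).symm
  let ci : ↥Cfsg.Spor.M22 ≃* ↥(Cfsg.Inn ↥Cfsg.Spor.M22) := MonoidHom.ofInjective hconj
  let ρ : ↥M →* ↥Cfsg.Spor.M22 := ci.symm.toMonoidHom.comp
    ((f.comp M.subtype).codRestrict (Cfsg.Inn ↥Cfsg.Spor.M22) fun m =>
      (show f (m : ↥(centralizer ({τ} : Set G))) ∈ Cfsg.Inn ↥Cfsg.Spor.M22 from mem_comap.1 (hMd.le m.2)))
  have hρ : ∀ m : ↥M, MulAut.conj (ρ m) = f (m : ↥(centralizer ({τ} : Set G))) := fun m =>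
    congrArg Subtype.val (ci.apply_symm_apply ⟨f (m : ↥(centralizer ({τ} : Set G))), mem_comap.1 (hMd.le m.2)⟩)
  have hρk : ρ.ker = N.subgroupOf M := by
    ext m
    rw [MonoidHom.mem_ker, mem_subgroupOf, ← hfk, ← hρ]
    exact ⟨fun h => by rw [h, map_one], fun h => hconj (h.trans (map_one _).symm)⟩
  have hρs : Function.Surjective ρ := by
    intro x
    obtain ⟨h, hh⟩ := hfs (MulAut.conj x)
    have hm : h ∈ M := by rw [hMd, mem_comap, hh]; exact ⟨x, rfl⟩
    exact ⟨⟨h, hm⟩, hconj ((hρ _).trans hh)⟩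
  haveI : (N.subgroupOf M).Normal := normal_subgroupOf
  have hM22 : Cfsg.Spor.IsoM22 (↥M ⧸ N.subgroupOf M) :=
    ⟨(QuotientGroup.quotientMulEquivOfEq hρk.symm).trans (QuotientGroup.quotientKerEquivOfSurjective ρ hρs)⟩
  have hout : ∀ c : ↥(centralizer ({τ} : Set G)), (∀ m ∈ M, c * m * c⁻¹ * m⁻¹ ∈ N) → c ∈ M := by
    intro c hc
    refine hNM ((hfk c).1 (MulEquiv.ext fun x => ?_))
    obtain ⟨⟨m, hm⟩, hx⟩ := hρs x
    have h1 := (hfk _).2 (hc m hm)
    rw [map_mul, map_mul, map_mul, map_inv, map_inv, mul_inv_eq_one,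
      show f m = MulAut.conj x by rw [← hx]; exact (hρ ⟨m, hm⟩).symm] at h1
    have h2 : MulAut.conj (f c x) = MulAut.conj x := by
      rw [← h1]
      ext y
      simp
    exact hconj h2
  have h2c : centralizer (Q : Set ↥(centralizer ({τ} : Set G))) ≤ Q := by
    rw [← hF]; exact CfsgLib.Comp.centralizer_Fstar_le
  have hcNQ : Nat.card (↥N ⧸ Q.subgroupOf N) = 3 := by
    have h := card_eq_card_quotient_mul_card_subgroup (Q.subgroupOf N)
    rw [hN3, Nat.card_congr (subgroupOfEquivOfLe hQN).toEquiv] at h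
    exact Nat.eq_of_mul_eq_mul_right Nat.card_pos h.symm
  haveI : Fact (Nat.Prime 3) := ⟨Nat.prime_three⟩
  haveI hQN' : (Q.subgroupOf N).Normal := normal_subgroupOf
  haveI : IsCyclic (↥N ⧸ Q.subgroupOf N) := isCyclic_of_prime_card hcNQ
  -- the action of `M` on `N / Q` is trivial
  let q : ↥N →* ↥N ⧸ Q.subgroupOf N := QuotientGroup.mk' _
  have hqk : ∀ n : ↥N, q n = 1 ↔ (n : ↥(centralizer ({τ} : Set G))) ∈ Q := fun n => (QuotientGroup.eq_one_iff n).trans mem_subgroupOf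
  have hlift : ∀ m : ↥(centralizer ({τ} : Set G)), Q.subgroupOf N ≤ (Q.subgroupOf N).comap (MulAut.conjNormal m : ↥N ≃* ↥N).toMonoidHom :=
    fun m n hn => by
      rw [mem_comap, mem_subgroupOf] at *
      exact hQn.conj_mem _ hn m
  let act : ↥(centralizer ({τ} : Set G)) → (↥N ⧸ Q.subgroupOf N →* ↥N ⧸ Q.subgroupOf N) := fun m =>
    QuotientGroup.map _ _ (MulAut.conjNormal m : ↥N ≃* ↥N).toMonoidHom (hlift m)
  have hact : ∀ (m : ↥(centralizer ({τ} : Set G))) (n : ↥N), act m (q n) = q (MulAut.conjNormal m n) := fun m n => rfl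
  have hcomp : ∀ (a b : ↥(centralizer ({τ} : Set G))) (x : ↥N ⧸ Q.subgroupOf N), act (a * b) x = act a (act b x) := by
    intro a b x
    obtain ⟨n, rfl⟩ := QuotientGroup.mk'_surjective _ x
    rw [hact, hact, hact, map_mul]; rfl
  have hactone : ∀ x, act 1 x = x := by
    intro x
    obtain ⟨n, rfl⟩ := QuotientGroup.mk'_surjective _ x
    rw [hact, map_one]; rfl
  let Act : ↥(centralizer ({τ} : Set G)) →* MulAut (↥N ⧸ Q.subgroupOf N) :=
    { toFun := fun m =>
        { toFun := act m, invFun := act m⁻¹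
          left_inv := fun x => by rw [← hcomp, inv_mul_cancel, hactone]
          right_inv := fun x => by rw [← hcomp, mul_inv_cancel, hactone]
          map_mul' := map_mul (act m) }
      map_one' := MulEquiv.ext hactone
      map_mul' := fun a b => MulEquiv.ext (hcomp a b) }
  have habel : ∀ a b : MulAut (↥N ⧸ Q.subgroupOf N), a * b = b * a := by
    intro a b
    refine (IsCyclic.mulAutMulEquiv (↥N ⧸ Q.subgroupOf N)).injective ?_
    rw [map_mul, map_mul, mul_comm]
  have hcomm_le : ⁅M, M⁆ ≤ Act.ker := commutator_le.2 fun a _ b _ => by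
    rw [MonoidHom.mem_ker, map_commutatorElement, commutatorElement_eq_one_iff_mul_comm]
    exact habel _ _
  have hN_le : N ≤ Act.ker := fun n hn => MonoidHom.mem_ker.2 (MulEquiv.ext fun x => by
    obtain ⟨n', rfl⟩ := QuotientGroup.mk'_surjective _ x
    show act n (q n') = q n'
    rw [hact, show MulAut.conjNormal n n' = (⟨n, hn⟩ : ↥N) * n' * (⟨n, hn⟩ : ↥N)⁻¹ from Subtype.ext rfl,
      map_mul, map_mul, (IsCyclic.commGroup (α := ↥N ⧸ Q.subgroupOf N)).mul_comm (q ⟨n, hn⟩), map_inv,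
      mul_inv_cancel_right])
  have hsupN : M ≤ ⁅M, M⁆ ⊔ N := by
    intro m hm
    have h1 : ρ ⟨m, hm⟩ ∈ Subgroup.map ρ ⁅(⊤ : Subgroup ↥M), (⊤ : Subgroup ↥M)⁆ := by
      rw [map_commutator, ← MonoidHom.range_eq_map, MonoidHom.range_eq_top.2 hρs, ← commutator_def,
        CfsgLib.J4Local.perfect_m22]
      exact mem_top _
    obtain ⟨d, hd, hde⟩ := mem_map.1 h1
    have hdN : d⁻¹ * ⟨m, hm⟩ ∈ N.subgroupOf M := by
      rw [← hρk, MonoidHom.mem_ker, map_mul, map_inv, hde, inv_mul_cancel]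
    have hdm : (d : ↥(centralizer ({τ} : Set G))) ∈ ⁅M, M⁆ := by
      have := mem_map_of_mem M.subtype hd
      rwa [map_commutator, ← MonoidHom.range_eq_map, range_subtype] at this
    rw [show m = (d : ↥(centralizer ({τ} : Set G))) * ((d⁻¹ * ⟨m, hm⟩ : ↥M) : ↥(centralizer ({τ} : Set G))) by simp]
    exact mul_mem (mem_sup_left hdm) (mem_sup_right (mem_subgroupOf.1 hdN))
  have hMker : M ≤ Act.ker := hsupN.trans (sup_le hcomm_le hN_le)
  have hcent : ⁅M, N⁆ ≤ Q := by
    refine commutator_le.2 fun m hm n hn => ?_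
    have h1 := MonoidHom.mem_ker.1 (hMker hm)
    have h2 : act m (q ⟨n, hn⟩) = q ⟨n, hn⟩ := DFunLike.congr_fun h1 (q ⟨n, hn⟩)
    rw [hact, ← inv_mul_eq_one, ← map_inv, ← map_mul, hqk] at h2
    have h3 := inv_mem (hQn.conj_mem _ h2 (m * n * m⁻¹))
    simp only [Subgroup.coe_mul, Subgroup.coe_inv, MulAut.conjNormal_apply] at h3
    rw [commutatorElement_def]
    convert h3 using 1
    group
  -- `M` is perfect modulo `Q`
  have hperf : M ≤ ⁅M, M⁆ ⊔ Q := by
    obtain ⟨L, hLd⟩ : ∃ L, L = ⁅M, M⁆ ⊔ Q := ⟨_, rfl⟩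
    rw [← hLd]
    haveI hLn : L.Normal := by rw [hLd]; infer_instance
    have hQL : Q ≤ L := hLd ▸ le_sup_right
    have hLM : L ≤ M := hLd ▸ sup_le (commutator_le.2 fun a ha b hb =>
      mul_mem (mul_mem (mul_mem ha hb) (inv_mem ha)) (inv_mem hb)) (hQN.trans hNM)
    have hLN : M ≤ L ⊔ N := hsupN.trans (sup_le_sup_right (hLd ▸ le_sup_left) N)
    by_cases hNL : N ≤ L
    · exact hLN.trans (sup_le le_rfl hNL)
    exfalso
    have hLiN : L ⊓ N = Q := by
      refine le_antisymm (fun x hx => ?_) (le_inf hQL hQN)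
      by_contra hxQ
      refine hNL fun n hn => ?_
      obtain ⟨hxL, hxN⟩ := mem_inf.1 hx
      obtain ⟨k, hk⟩ : ∃ k : ℤ, q ⟨x, hxN⟩ ^ k = q ⟨n, hn⟩ := by
        refine mem_zpowers_iff.1 ?_
        rw [zpowers_eq_top_of_prime_card hcNQ fun e => hxQ ((hqk _).1 e)]
        exact mem_top _
      rw [← map_zpow, ← inv_mul_eq_one, ← map_inv, ← map_mul, hqk] at hk
      simp only [Subgroup.coe_mul, Subgroup.coe_inv, Subgroup.coe_zpow] at hk
      rw [show n = x ^ k * ((x ^ k)⁻¹ * n) by group]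
      exact mul_mem (zpow_mem hxL k) (hQL hk)
    obtain ⟨h₀, hh₀⟩ : ∃ h : ↥(centralizer ({τ} : Set G)), h ∉ M := by
      by_contra hc
      push Not at hc
      rw [(eq_top_iff' M).2 hc, index_top] at hM
      omega
    -- the two-part of an element outside `M`
    obtain ⟨a, b, hb, hab⟩ : ∃ a b : ℕ, Odd b ∧ orderOf h₀ = 2 ^ a * b := by
      have h0 : orderOf h₀ ≠ 0 := (orderOf_pos h₀).ne'
      exact ⟨_, _, Nat.odd_iff.2 (Nat.two_dvd_ne_zero.1 (Nat.not_dvd_ordCompl Nat.prime_two h0)),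
        (Nat.ordProj_mul_ordCompl_eq_self _ 2).symm⟩
    obtain ⟨h, hhd⟩ : ∃ h, h = h₀ ^ b := ⟨_, rfl⟩
    obtain ⟨c, hc⟩ := hb
    have hsqM : ∀ g : ↥(centralizer ({τ} : Set G)), g * g ∈ M := fun g => mul_self_mem_of_index_two hM g
    have hhM : h ∉ M := fun hm => by
      rw [hhd, hc, pow_succ, pow_mul, pow_two] at hm
      exact hh₀ ((mul_mem_cancel_left (pow_mem (hsqM h₀) c)).1 hm)
    have h2pow : h ^ (2 ^ a) = 1 := by rw [hhd, ← pow_mul, mul_comm, ← hab, pow_orderOf_eq_one]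
    have hsqL : h * h ∈ L := by
      obtain ⟨l, hl, n, hn, e'⟩ : ∃ l ∈ L, ∃ n ∈ N, l * n = h * h := mem_sup_of_normal_left.1 (hLN (hsqM h))
      have hcub : (h * h) ^ 3 ∈ L := by
        have hn3 : n ^ 3 ∈ Q := by
          have h5 := pow_card_eq_one' (x := q ⟨n, hn⟩)
          rw [hcNQ, ← map_pow, hqk] at h5
          simpa using h5
        rw [← e', ← QuotientGroup.eq_one_iff, QuotientGroup.mk_pow, QuotientGroup.mk_mul,
          (QuotientGroup.eq_one_iff l).2 hl, one_mul, ← QuotientGroup.mk_pow, QuotientGroup.eq_one_iff]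
        exact hQL hn3
      have hcop : Nat.Coprime (orderOf (h * h)) 3 := by
        refine Nat.Coprime.coprime_dvd_left (orderOf_dvd_of_pow_eq_one (n := 2 ^ a) ?_) (Nat.Coprime.pow_left a (by norm_num))
        rw [← pow_two, ← pow_mul, mul_comm, pow_mul, h2pow, one_pow]
      obtain ⟨m, hm⟩ := exists_pow_eq_self_of_coprime hcop.symm
      rw [← hm]
      exact pow_mem hcub m
    refine hns (L ⊔ zpowers h) ?_ ?_
    · refine le_antisymm (fun x hx => ?_) (le_inf (hQL.trans le_sup_left) hQN)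
      obtain ⟨hxK, hxN⟩ := mem_inf.1 hx
      obtain ⟨l, hl, w, hw, rfl⟩ := mem_sup_of_normal_left.1 hxK
      obtain ⟨i, rfl⟩ := mem_zpowers_iff.1 hw
      have hwM : h ^ i ∈ M := (mul_mem_cancel_left (hLM hl)).1 (hNM hxN)
      rcases Int.even_or_odd' i with ⟨k, rfl | rfl⟩
      · rw [← hLiN]
        refine mem_inf.2 ⟨mul_mem hl ?_, hxN⟩
        rw [zpow_mul, zpow_two]
        exact zpow_mem hsqL k
      · exfalso
        rw [zpow_add_one, zpow_mul, zpow_two] at hwM
        exact hhM ((mul_mem_cancel_left (zpow_mem (hLM hsqL) k)).1 hwM)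
    · rw [eq_top_iff]
      intro g _
      have hMle : M ≤ L ⊔ zpowers h ⊔ N := hLN.trans (sup_le_sup_right le_sup_left N)
      by_cases hg : g ∈ M
      · exact hMle hg
      · rw [show g = g * h * h⁻¹ by group]
        exact mul_mem (hMle ((mul_mem_iff_of_index_two hM).2 (iff_of_false hg hhM)))
          (inv_mem (mem_sup_left (mem_sup_right (mem_zpowers h))))
  exact exists_type τ hτ Q N M hQN hNM hM hQ (hcard.trans (by norm_num)) hN3 hcent hperf h2c hout hM22

end CfsgLib.J4Type
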