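import Cfsg.Agent.Coset.J4.Model

/-!
The two generators inside the Mathieu group on the Golay points and the seven relators among them.
-/

set_option autoImplicit false
set_option maxRecDepth 100000

namespace CfsgLib.J4Type

open Subgroup
open CfsgLib.Coset.J4 (ePhi Xp Yp W0p M24m map_le Xp_mem Yp_mem W0p_mem card_M24m trio_le)

/-- The inclusion of the model. -/
noncomputable def toM24 : ↥M24m →* ↥Cfsg.M24 :=
  (ePhi.permCongrHom.toMonoidHom.comp M24m.subtype).codRestrict Cfsg.M24 fun g =>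
    map_le (mem_map_of_mem _ g.2)

/-- The first generator. -/
noncomputable def gX : ↥Cfsg.M24 := toM24 ⟨Xp, Xp_mem⟩

/-- The second generator. -/
noncomputable def gY : ↥Cfsg.M24 := toM24 ⟨Yp, Yp_mem⟩

/-- The word centralised by the third generator. -/
noncomputable def gW : ↥Cfsg.M24 := gY * gX * gY * (gX * gY⁻¹) ^ 2 * (gX * gY) ^ 3

theorem toM24_inj : Function.Injective toM24 := fun g h e =>
  Subtype.ext (ePhi.permCongrHom.injective (congrArg Subtype.val e))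

theorem gW_eq : gW = toM24 ⟨W0p, W0p_mem⟩ := by
  rw [gW, gX, gY, ← map_inv, ← map_mul, ← map_mul, ← map_mul, ← map_mul, ← map_pow, ← map_pow, ← map_mul,
    ← map_mul]
  rfl

theorem toM24_surj : Function.Surjective toM24 := by
  have h := CfsgLib.Golay.card_M24
  haveI : Finite ↥Cfsg.M24 := Nat.finite_of_card_ne_zero (by rw [h]; norm_num)
  exact ((Nat.bijective_iff_injective_and_card toM24).2 ⟨toM24_inj, card_M24m.trans h.symm⟩).2

theorem generate : closure ({gX, gY} : Set ↥Cfsg.M24) = ⊤ := by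
  refine eq_top_iff.2 fun σ _ => ?_
  obtain ⟨⟨g, hg⟩, rfl⟩ := toM24_surj σ
  have : ∀ g (hg : g ∈ closure ({Xp, Yp} : Set (Equiv.Perm (Fin 24)))),
      toM24 ⟨g, hg⟩ ∈ closure ({gX, gY} : Set ↥Cfsg.M24) := by
    intro g hg
    induction hg using Subgroup.closure_induction with
    | mem a ha =>
      rcases ha with rfl | rfl
      exacts [subset_closure (Set.mem_insert _ _), subset_closure (Set.mem_insert_of_mem _ rfl)]
    | one => exact (map_one toM24).symm ▸ one_mem _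
    | mul a b ha hb iha ihb =>
      have := mul_mem iha ihb
      rwa [← map_mul] at this
    | inv a ha iha =>
      have := inv_mem iha
      rwa [← map_inv] at this
  exact this g hg

theorem model_relators :
    Xp ^ 2 = 1 ∧ Yp ^ 3 = 1 ∧ (Xp * Yp) ^ 23 = 1 ∧ (Xp⁻¹ * Yp⁻¹ * Xp * Yp) ^ 12 = 1 ∧
      (Xp⁻¹ * (Yp * Xp * Yp)⁻¹ * Xp * (Yp * Xp * Yp)) ^ 5 = 1 ∧
      (Xp * Yp * ((Xp * Yp * Xp * Yp⁻¹) ^ 3)) ^ 4 = 1 ∧
      (Xp * Yp * Xp * Yp * Xp * Yp⁻¹) ^ 3 * (Xp * Yp * Xp * Yp⁻¹ * Xp * Yp⁻¹) ^ 3 = 1 := by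
  decide +kernel

/-- The seven relators of the presentation of the Mathieu group. -/
theorem relators :
    gX ^ 2 = 1 ∧ gY ^ 3 = 1 ∧ (gX * gY) ^ 23 = 1 ∧ (gX⁻¹ * gY⁻¹ * gX * gY) ^ 12 = 1 ∧
      (gX⁻¹ * (gY * gX * gY)⁻¹ * gX * (gY * gX * gY)) ^ 5 = 1 ∧
      (gX * gY * ((gX * gY * gX * gY⁻¹) ^ 3)) ^ 4 = 1 ∧
      (gX * gY * gX * gY * gX * gY⁻¹) ^ 3 * (gX * gY * gX * gY⁻¹ * gX * gY⁻¹) ^ 3 = 1 := by
  obtain ⟨h1, h2, h3, h4, h5, h6, h7⟩ := model_relators
  simp only [gX, gY, ← map_inv, ← map_mul, ← map_pow]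
  refine ⟨?_, ?_, ?_, ?_, ?_, ?_, ?_⟩ <;> rw [map_eq_one_iff _ toM24_inj]
  exacts [Subtype.ext h1, Subtype.ext h2, Subtype.ext h3, Subtype.ext h4, Subtype.ext h5, Subtype.ext h6,
    Subtype.ext h7]

theorem gX_ne_one : gX ≠ 1 := fun e => by
  have h : Xp = 1 := congrArg Subtype.val ((map_eq_one_iff _ toM24_inj).1 e)
  revert h
  decide +kernel

end CfsgLib.J4Type
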