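import Cfsg.Agent.J4Type.Present
import Cfsg.Agent.J4Type.Gens
import Cfsg.Agent.J4Type.Bridge

/-!
The twelve relators from a homomorphism of the Mathieu group, an involution centralised by the trio stabiliser
and the two symmetric relations; the recognition of the fourth Janko group.
-/

set_option autoImplicit false
set_option maxRecDepth 100000

namespace CfsgLib.J4Type

open Cfsg Cfsg.Spor

/-- The element conjugating the third generator in the first symmetric relation. -/
noncomputable def gA : ↥Cfsg.M24 := gY * gX * gY⁻¹ * gX * gY * gX * gY⁻¹ * gX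

/-- The Mathieu element of the second symmetric relation. -/
noncomputable def gK : ↥Cfsg.M24 := (gY * gX * gY * gX * gY * gX * gY) ^ 3

/-- The conjugating element of the second symmetric relation. -/
noncomputable def gR : ↥Cfsg.M24 := (gX * gY) ^ 3 * gY * (gX * gY) ^ 6 * gY

/-- The twelve relators hold at the images. -/
theorem extra_of_kap {G : Type*} [Group G] (κ : ↥Cfsg.M24 →* G) (T : G) (hT : T * T = 1)
    (hX : T * κ gX = κ gX * T) (hW : T * κ gW = κ gW * T)
    (r1 : (κ gY * ((κ gA)⁻¹ * T * κ gA)) ^ 3 = 1)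
    (r2 : (κ gK * T * ((κ gR)⁻¹ * T * κ gR)) ^ 2 = 1) :
    ∀ r ∈ J4.extra, FreeGroup.lift (gens3 (κ gX) (κ gY) T) r = 1 := by
  obtain ⟨h1, h2, h3, h4, h5, h6, h7⟩ := relators
  have e : ∀ {a : ↥Cfsg.M24}, a = 1 → κ a = 1 := fun h => by rw [h, map_one]
  intro r hr
  simp only [J4.extra, List.mem_cons, List.not_mem_nil, or_false] at hr
  rcases hr with rfl | rfl | rfl | rfl | rfl | rfl | rfl | rfl | rfl | rfl | rfl | rfl <;>
    simp only [J4.x, J4.y, J4.t, map_mul, map_pow, map_inv, FreeGroup.lift_apply_of, gens3]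
  · simpa only [map_mul, map_pow, map_inv] using e h1
  · simpa only [map_mul, map_pow, map_inv] using e h2
  · simpa only [map_mul, map_pow, map_inv] using e h3
  · simpa only [map_mul, map_pow, map_inv] using e h4
  · simpa only [map_mul, map_pow, map_inv] using e h5
  · simpa only [map_mul, map_pow, map_inv] using e h6
  · simpa only [map_mul, map_pow, map_inv] using e h7
  · rw [pow_two, hT]
  · have hW' : κ gY * κ gX * κ gY * (κ gX * (κ gY)⁻¹) ^ 2 * (κ gX * κ gY) ^ 3 = κ gW := by
      simp only [gW, map_mul, map_pow, map_inv]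
    rw [hW', mul_assoc, hW]
    group
  · rw [mul_assoc, hX]
    group
  · simpa only [gA, map_mul, map_pow, map_inv] using r1
  · simpa only [gK, gR, map_mul, map_pow, map_inv] using r2

/-- The data produced by the uniqueness argument. -/
def HasSymPres (G : Type*) [Group G] : Prop :=
  ∃ (κ : ↥Cfsg.M24 →* G) (T : G), T ≠ 1 ∧ T * T = 1 ∧ T * κ gX = κ gX * T ∧ T * κ gW = κ gW * T ∧
    (κ gY * ((κ gA)⁻¹ * T * κ gA)) ^ 3 = 1 ∧ (κ gK * T * ((κ gR)⁻¹ * T * κ gR)) ^ 2 = 1

/-- Recognition of the fourth Janko group. -/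
theorem iso_of_symPres {G : Type*} [Group G] [Finite G] (hJ4 : IsJ4 Spor.J4)
    (hG : Nat.card G = 86775571046077562880) (h : HasSymPres G) : Spor.IsoJ4 G := by
  obtain ⟨κ, T, hT1, hT, hX, hW, r1, r2⟩ := h
  exact iso_of_relators hJ4 hG (κ gX) (κ gY) T (extra_of_kap κ T hT hX hW r1 r2) (Or.inr (Or.inr hT1))

end CfsgLib.J4Type
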