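import Cfsg.Agent.J4Type.RTwoCore
import Cfsg.Agent.J4Type.RTwoChain
import Cfsg.Agent.J4Type.Relators

/-!
The second long relator of the presentation of the fourth Janko group, and with it the symmetric presentation
in a simple group of Janko-four type.
-/

set_option autoImplicit false
set_option maxRecDepth 100000
set_option linter.style.haveILetI false
set_option linter.unusedSectionVars false

namespace CfsgLib.J4Type.RTwo

open Cfsg CfsgLib.Golay CfsgLib.J4Eleven CfsgLib.J4Ten CfsgLib.J4Type.Sym Subgroup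
open CfsgLib.J4Local (cH cE mem_cH)

/-- A member of the basis. -/
def rW (i : ℕ) : List ℕ := rhoWs.getD (2 ^ i) []

/-- The word of an element of the subgroup of order 64. -/
def rhoW (n : ℕ) : List ℕ := rhoWs.getD n []

/-- One of the six elements. -/
def qW (i : ℕ) : List ℕ := qWs.getD i []

/-- The word of a translation of a dual element. -/
def kaW (i : ℕ) : List ℕ := kaWs.getD i []

/-- A flip certificate. -/
abbrev FlipCert := Bool × List ℕ × List ℕ × List ℕ

/-- The default certificate. -/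
def noFlip : FlipCert := (false, [], [], [])

/-- The certificate of a first member. -/
def fA (i j : ℕ) : FlipCert := (flA.getD i []).getD j noFlip

/-- The certificate of a second member. -/
def fB (i j : ℕ) : FlipCert := (flB.getD i []).getD j noFlip

theorem basis_ok : ((List.range 6).all fun i =>
    stabW (qW i) && eqC (qW i ++ qW i) [] && stabW (rW i) &&
      eqC (qW i ++ (7 :: qW i ++ [7, 7])) (7 :: qW i ++ [7, 7] ++ qW i) &&
      eqC (rW i) (qW i ++ (7 :: qW i ++ [7, 7])) && eqC (rW i ++ rW i) [] &&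
      (List.range 6).all fun j => eqC (rW i ++ rW j) (rW j ++ rW i)) = true := by decide +kernel

theorem rho_ok : ((List.range 64).all fun n =>
    stabW (rhoW n) && eqC (rhoW n ++ rhoW n) [] &&
      (List.range 6).all fun i => eqC (rW i ++ rhoW n) (rhoW (n ^^^ 2 ^ i))) = true ∧
    eqC (rhoW 0) [] = true ∧ eqC (rhoW eIx) eW = true ∧ eIx < 64 := by decide +kernel

theorem dual_ok : ((List.range 6).all fun i => stabW (kaW i) && (List.range 6).all fun j =>
    flipOK (kaW i ++ swOne) (rW j) (fA i j) && flipOK (7 :: kaW i ++ swOne) (rW j) (fB i j) &&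
      ((fA i j).1 ^^ (fB i j).1) == (i == j)) = true := by decide +kernel

theorem flips_ok : ((List.range 6).all fun j =>
    flipOK swOne (rW j) (flOne.getD j noFlip) && flipOK swTwo (rW j) (flTwo.getD j noFlip)) = true := by
  decide +kernel

theorem com_ok :
    (tripC [] swOne comOne.1 comOne.2 && tripC [] swTwo comTwo.1 comTwo.2 &&
      tripC swOne (7 :: 7 :: swTwo) comPre.1 comPre.2) = true ∧
    (stabW sgW.1 && stabW sgW.2.1 && tripC swOne (sgW.1 ++ swOne) (sgW.2.1 ++ swOne) sgW.2.2) = true ∧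
    (stabW sgTwo.1 && stabW sgTwo.2 && eqC (sgTwo.1 ++ swOne ++ sgTwo.2) swTwo && eqC [7, 7, 7] []) = true := by
  decide +kernel

theorem frame_ok :
    (eqC (kgI ++ kgL) [] && eqC (kgL ++ kgL) eW && stabW eW && eqC (eW ++ eW) [] && stabW kgK &&
      eqC (swOne ++ kgK) (kgL ++ swOne) && tripC [] swTwo (kgI ++ swTwo) lastT) = true ∧
    (eqC (gwI ++ gwL) [] && eqC (rrL ++ rrI) []) = true ∧
    swOne = gwI ∧ swTwo = gwI ++ rrI ∧ kgL = gwI ++ krL ++ gwL := by decide +kernel

theorem pair_ok :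
    (stabW pairFix.1 && stabW pairFix.2.1 && stabW pairFix.2.2 &&
      eqC (swOne ++ pairFix.2.1) (pairFix.1 ++ swOne) && eqC (swTwo ++ pairFix.2.2) (pairFix.1 ++ swTwo)) = true ∧
    (stabW pairSwap.1 && stabW pairSwap.2.1 && stabW pairSwap.2.2 &&
      eqC (swTwo ++ pairSwap.2.1) (pairSwap.1 ++ swOne) &&
      eqC (swOne ++ pairSwap.2.2) (pairSwap.1 ++ swTwo)) = true ∧
    ((List.range 64).all fun n => !(eqC (pairFix.1 ++ rhoW n) (rhoW n ++ pairFix.1)) ||
      !(eqC (pairSwap.1 ++ rhoW n) (rhoW n ++ pairSwap.1)) || n == 0 || n == eIx) = true := by decide +kernel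

/-- The line of three translations. -/
def lineW (i : ℕ) : List ℕ × List ℕ :=
  [(lineKs.1, lineFs.1), (lineKs.2.1, lineFs.2.1), (lineKs.2.2, lineFs.2.2)].getD i ([], [])

theorem line_ok : ((List.range 3).all fun i => stabW (lineW i).1 && stabW (lineW i).2 &&
      eqC (swOne ++ (lineW i).2) ((lineW i).1 ++ swOne)) = true ∧
    tripC ((lineW 0).1 ++ swTwo) ((lineW 1).1 ++ swTwo) ((lineW 2).1 ++ swTwo) lineT = true := by
  decide +kernel

/-- A decomposition along the test. -/
def tS (i : ℕ) : (ℕ × ℕ × ℕ) × List ℕ := testS.getD i ((0, 0, 0), [])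

/-- The test pairs. -/
def testP : ℕ → ℕ × ℕ
  | 0 => (testV, oneCode)
  | 1 => stepP swOne siOne (tS 0)
  | 2 => stepP swTwo siTwo (tS 1)
  | 3 => stepP swOne siOne (tS 2)
  | 4 => stepP swTwo siTwo (tS 3)
  | _ => pmul (pmul (0, valC eW) (stepP swTwo siTwo (tS 3))) (0, valC eW)

theorem test_ok :
    (stepOK swOne siOne (tS 0) (testP 0) && stepOK swTwo siTwo (tS 1) (testP 1) &&
      stepOK swOne siOne (tS 2) (testP 2) && stepOK swTwo siTwo (tS 3) (testP 0) &&
      decide (testV < 2048) && testP 3 != testP 4 && testP 3 != testP 5) = true := by decide +kernel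

variable {G : Type*} [Group G] [Finite G] {z : G} {V : Subgroup G} {X : Ctx z V} {T : G}
  (hT : TenT X T) (hd : X.κ dM * T = T * X.κ dM)
  (hJ : Cfsg.IsOfJankoFourTypeWith T (zpowers (X.κ dM)))

include hT hd hJ

theorem kappa_dM : X.κ (val [7]) = X.κ dM ∧ X.κ (val [7, 7]) = (X.κ dM)⁻¹ := by
  have h1 : val [7] = dM := by simp [val, base]
  refine ⟨by rw [h1], ?_⟩
  have h := com_ok.2.2
  simp only [Bool.and_eq_true] at h
  refine (inv_eq_of_mul_eq_one_right ?_).symm
  rw [← h1, ← map_mul, ← val_append, List.singleton_append, val_eq h.2]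
  simp [val]

theorem basis_mem {i : ℕ} (hi : i < 6) : X.κ (val (rW i)) ∈ cE T := by
  have h := List.all_eq_true.1 basis_ok i (List.mem_range.2 hi)
  simp only [Bool.and_eq_true] at h
  obtain ⟨⟨⟨⟨⟨⟨hq, hq2⟩, -⟩, hcom⟩, hr⟩, -⟩, -⟩ := h
  obtain ⟨e1, e2⟩ := kappa_dM hT hd hJ
  have hd' : ∀ w, X.κ (val (7 :: w ++ [7, 7])) = X.κ dM * X.κ (val w) * (X.κ dM)⁻¹ := fun w => by
    rw [← List.singleton_append, val_append, val_append, map_mul, map_mul, e1, e2]
  rw [val_eq hr, val_append, map_mul, hd']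
  refine pair_mem hJ (stab_mem hT hd hq) ?_ ?_
  · rw [← map_mul, ← val_append, val_eq hq2]; simp [val]
  · rw [← hd', ← map_mul, ← map_mul, ← val_append, ← val_append]
    exact congrArg X.κ (val_eq hcom)

theorem one_mem_H : tau X T swOne ∈ cH T ∧ tau X T swTwo ∈ cH T := by
  have h := com_ok.1
  simp only [Bool.and_eq_true] at h
  have key : ∀ {a c : List ℕ} {k : List ℕ × List ℕ × List ℕ}, tripC [] a c k = true → tau X T a ∈ cH T :=
    fun h => tau_mem hT hd h
  exact ⟨key h.1.1, key h.1.2⟩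

theorem sgn_one_tau : Sgn T (X.κ dM) (tau X T swOne) 1 := by
  have h := com_ok.2.1
  simp only [Bool.and_eq_true] at h
  refine inner_of_triple hJ (one_mem_H hT hd hJ).1 (stab_mem hT hd h.1.1) (stab_mem hT hd h.1.2) ?_
  rw [tau_conj, tau_conj]
  exact tau_trip hT hd h.2

theorem conj_facts {k : List ℕ} (hk : stabW k = true) :
    tau X T (k ++ swOne) ∈ cH T ∧ Sgn T (X.κ dM) (tau X T (k ++ swOne)) 1 := by
  rw [← tau_conj]
  have hm := stab_mem hT hd hk
  exact ⟨mul_mem (mul_mem hm (one_mem_H hT hd hJ).1) (inv_mem hm),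
    sgn_conj hJ hm (one_mem_H hT hd hJ).1 (sgn_one_tau hT hd hJ)⟩

theorem dual_mem {k : List ℕ} (hk : stabW k = true) :
    tau X T (k ++ swOne) * tau X T (7 :: k ++ swOne) ∈ cE T := by
  have h := mul_conj_mem hJ (tau_sq hT _) (conj_facts hT hd hJ hk).2
  rwa [← (kappa_dM hT hd hJ).1, tau_conj] at h

/-- The square of the product of two translations with a common partner. -/
noncomputable def cee (X : Ctx z V) (T : G) : G := tau X T swOne * tau X T swTwo * tau X T swOne * tau X T swTwo

theorem cee_mem : cee X T ∈ cE T := by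
  have hc := com_ok.1
  simp only [Bool.and_eq_true] at hc
  have h2 := com_ok.2.2
  simp only [Bool.and_eq_true] at h2
  obtain ⟨⟨⟨hk, hk'⟩, he⟩, -⟩ := h2
  obtain ⟨e1, e2⟩ := kappa_dM hT hd hJ
  have hu : tau X T swTwo = tau X T (sgTwo.1 ++ swOne) := (tau_congr hT hd hk' he).symm
  have hsg : Sgn T (X.κ dM) (tau X T swTwo) 1 := by rw [hu]; exact (conj_facts hT hd hJ hk).2
  have hE := mul_conj_mem hJ (tau_sq hT swTwo) hsg
  have hs : tau X T (7 :: 7 :: swTwo) = (X.κ dM)⁻¹ * tau X T swTwo * X.κ dM := by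
    rw [show 7 :: 7 :: swTwo = [7, 7] ++ swTwo from rfl, ← tau_conj, e2, inv_inv]
  have ht := one_mem_H hT hd hJ
  have hcomm : Commute (tau X T swOne) (tau X T (7 :: 7 :: swTwo)) := tau_comm hT hd hc.2
  have hdm : X.κ dM ∈ cH T := mem_cH.2 hd
  have hsH : tau X T (7 :: 7 :: swTwo) ∈ cH T := by rw [hs]; exact mul_mem (mul_mem (inv_mem hdm) ht.2) hdm
  have he1 : tau X T (7 :: 7 :: swTwo) * tau X T swTwo ∈ cE T := by
    have h := norm_E hJ (inv_mem hdm) hE
    rwa [inv_inv, show (X.κ dM)⁻¹ * (tau X T swTwo * (X.κ dM * tau X T swTwo * (X.κ dM)⁻¹)) * X.κ dM =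
      (X.κ dM)⁻¹ * tau X T swTwo * X.κ dM * tau X T swTwo by group, ← hs] at h
  have ht2 := tau_sq hT swOne
  have hu2 := tau_sq hT swTwo
  have hs2 := tau_sq hT (7 :: 7 :: swTwo)
  rw [cee]
  generalize tau X T swOne = t at *
  generalize tau X T swTwo = u at *
  generalize tau X T (7 :: 7 :: swTwo) = s at *
  have hinv : u * s ∈ cE T := by
    have h := inv_mem he1
    rwa [mul_inv_rev, inv_eq_of_mul_eq_one_right hu2, inv_eq_of_mul_eq_one_right hs2] at h
  have := mul_mem (norm_E hJ ht.1 hinv) (norm_E hJ hsH hinv)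
  rw [inv_eq_of_mul_eq_one_right ht2, inv_eq_of_mul_eq_one_right hs2] at this
  rwa [show t * (u * s) * t * (s * (u * s) * s) = t * u * (s * t * s) * u * (s * s) by group, hs2, mul_one,
    show s * t * s = t * (s * s) by rw [← hcomm.eq]; group, hs2, mul_one] at this

theorem cee_comm {j : ℕ} (hj : j < 6) : cee X T * X.κ (val (rW j)) = X.κ (val (rW j)) * cee X T := by
  have h := List.all_eq_true.1 flips_ok j (List.mem_range.2 hj)
  have hb := List.all_eq_true.1 basis_ok j (List.mem_range.2 hj)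
  simp only [Bool.and_eq_true] at h hb
  have ht := one_mem_H hT hd hJ
  have f1 := tau_flip hT hd h.1 (mem_cH.1 ht.1) hb.1.1.1.1.2 hb.1.2
  have f2 := tau_flip hT hd h.2 (mem_cH.1 ht.2) hb.1.1.1.1.2 hb.1.2
  have hrT : Commute (X.κ (val (rW j))) T := comm_stab hT hd hb.1.1.1.1.2
  have t2 := tau_sq hT swOne
  have u2 := tau_sq hT swTwo
  have htT : Commute (tau X T swOne) T := mem_cH.1 ht.1
  have huT : Commute (tau X T swTwo) T := mem_cH.1 ht.2
  have hTT := hT.sq
  rw [cee]
  generalize X.κ (val (rW j)) = r at *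
  generalize tau X T swOne = t at *
  generalize tau X T swTwo = u at *
  obtain ⟨x, hx, f1⟩ : ∃ x, (x = 1 ∨ x = T) ∧ t * r * t = r * x := by
    cases hb1 : (flOne.getD j noFlip).1 <;> simp only [hb1, Bool.false_eq_true, if_false, if_true] at f1
    exacts [⟨1, Or.inl rfl, by rw [f1, mul_one]⟩, ⟨T, Or.inr rfl, f1⟩]
  obtain ⟨y, hy, f2⟩ : ∃ y, (y = 1 ∨ y = T) ∧ u * r * u = r * y := by
    cases hb1 : (flTwo.getD j noFlip).1 <;> simp only [hb1, Bool.false_eq_true, if_false, if_true] at f2
    exacts [⟨1, Or.inl rfl, by rw [f2, mul_one]⟩, ⟨T, Or.inr rfl, f2⟩]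
  have hx1 : x * x = 1 := by rcases hx with rfl | rfl <;> simp [hTT]
  have hy1 : y * y = 1 := by rcases hy with rfl | rfl <;> simp [hTT]
  have cxu : x * u = u * x := by rcases hx with rfl | rfl <;> simp [huT.eq]
  have cyt : y * t = t * y := by rcases hy with rfl | rfl <;> simp [htT.eq]
  have cxy : y * x = x * y := by rcases hx with rfl | rfl <;> rcases hy with rfl | rfl <;> simp
  have e1 : t * r = r * x * t := by rw [← f1, mul_assoc, t2, mul_one]
  have e2 : u * r = r * y * u := by rw [← f2, mul_assoc, u2, mul_one]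
  have cxt : x * t = t * x := by rcases hx with rfl | rfl <;> simp [htT.eq]
  have cyu : y * u = u * y := by rcases hy with rfl | rfl <;> simp [huT.eq]
  calc t * u * t * u * r = t * u * t * (u * r) := by group
    _ = t * u * (t * r) * (y * u) := by rw [e2]; group
    _ = t * (u * r) * (x * t) * (y * u) := by rw [e1]; group
    _ = (t * r) * (y * (u * x)) * (t * (y * u)) := by rw [e2]; group
    _ = r * x * t * (y * (x * u)) * (t * (y * u)) := by rw [e1, cxu]
    _ = r * x * t * (y * x) * u * (t * y) * u := by group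
    _ = r * x * (t * (x * y)) * u * (y * t) * u := by rw [cxy, cyt]; group
    _ = r * (x * (t * x)) * (y * (u * y)) * t * u := by group
    _ = r * (x * (x * t)) * (y * (y * u)) * t * u := by rw [cxt, cyu]
    _ = r * (t * u * t * u) := by rw [← mul_assoc x x, hx1, ← mul_assoc y y, hy1]; group

theorem cee_form : ∃ n < 64, cee X T = X.κ (val (rhoW n)) ∨ cee X T = X.κ (val (rhoW n)) * T := by
  classical
  have hb : ∀ i : Fin 6, X.κ (val (rW i)) ∈ cE T := fun i => basis_mem hT hd hJ i.2
  let ε : Fin 6 → G := fun i => tau X T (kaW i ++ swOne) * tau X T (7 :: kaW i ++ swOne)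
  have hdual : ∀ i : Fin 6, stabW (kaW i) = true := fun i => by
    have h := List.all_eq_true.1 dual_ok i (List.mem_range.2 i.2)
    simp only [Bool.and_eq_true] at h
    exact h.1
  have hrr : ∀ i j : Fin 6, X.κ (val (rW i)) * X.κ (val (rW j)) = X.κ (val (rW j)) * X.κ (val (rW i)) := by
    intro i j
    have h := List.all_eq_true.1 basis_ok i (List.mem_range.2 i.2)
    simp only [Bool.and_eq_true] at h
    rw [← map_mul, ← map_mul, ← val_append, ← val_append,
      val_eq (List.all_eq_true.1 h.2 j (List.mem_range.2 j.2))]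
  have hpair : ∀ i j : Fin 6, ε i * X.κ (val (rW j)) * (ε i)⁻¹ =
      if i = j then X.κ (val (rW j)) * T else X.κ (val (rW j)) := by
    intro i j
    have h := List.all_eq_true.1 dual_ok i (List.mem_range.2 i.2)
    simp only [Bool.and_eq_true] at h
    have h' := List.all_eq_true.1 h.2 j (List.mem_range.2 j.2)
    have hbj := List.all_eq_true.1 basis_ok j (List.mem_range.2 j.2)
    simp only [Bool.and_eq_true, beq_iff_eq] at h' hbj
    have hA := (conj_facts hT hd hJ (hdual i)).1
    have hB : tau X T (7 :: kaW i ++ swOne) ∈ cH T :=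
      (conj_facts hT hd hJ (k := 7 :: kaW i) (by
        rw [stabW, List.all_cons, Bool.and_eq_true]; exact ⟨by decide, hdual i⟩)).1
    have f1 := tau_flip hT hd h'.1.1 (mem_cH.1 hA) hbj.1.1.1.1.2 hbj.1.2
    have f2 := tau_flip hT hd h'.1.2 (mem_cH.1 hB) hbj.1.1.1.1.2 hbj.1.2
    have hAT : Commute (tau X T (kaW i ++ swOne)) T := mem_cH.1 hA
    have hx := h'.2
    have a2 := tau_sq hT (kaW i ++ swOne)
    have hTT := hT.sq
    simp only [ε, mul_inv_rev, inv_eq_of_mul_eq_one_right (tau_sq hT _)]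
    generalize X.κ (val (rW j)) = r at *
    generalize tau X T (kaW i ++ swOne) = A at *
    generalize tau X T (7 :: kaW i ++ swOne) = B at *
    rw [show A * B * r * (B * A) = A * (B * r * B) * A by group, f2]
    have hij : (i = j) ↔ ((fA i j).1 ^^ (fB i j).1) = true := by
      rw [hx, beq_iff_eq]; exact Fin.ext_iff
    have hArT : A * (r * T) * A = A * r * A * T := by
      rw [show A * (r * T) * A = A * r * (T * A) by group, ← hAT.eq]; group
    cases ha : (fA i j).1 <;> cases hb' : (fB i j).1 <;>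
      simp [ha, hb', hArT, mul_assoc r T T, hTT] at hij f1 ⊢ <;> simp [hij, f1, mul_assoc, hTT]
  have hc : cee X T ∈ S T (fun i : Fin 6 => X.κ (val (rW i))) :=
    mem_S_of_comm hJ hb (fun i => dual_mem hT hd hJ (hdual i)) hrr hpair (cee_mem hT hd hJ)
      fun j => cee_comm hT hd hJ j.2
  have hrho := rho_ok
  have hstab : ∀ n < 64, Commute (X.κ (val (rhoW n))) T := fun n hn => by
    have h := List.all_eq_true.1 hrho.1 n (List.mem_range.2 hn)
    simp only [Bool.and_eq_true] at h
    exact comm_stab hT hd h.1.1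
  let P : G → Prop := fun g => ∃ n < 64, g = X.κ (val (rhoW n)) ∨ g = X.κ (val (rhoW n)) * T
  have hone : P 1 := ⟨0, by norm_num, Or.inl (by rw [val_eq hrho.2.1]; simp [val])⟩
  have hT' : ∀ g, P g → P (T * g) := by
    rintro g ⟨n, hn, rfl | rfl⟩
    · exact ⟨n, hn, Or.inr (hstab n hn).eq.symm⟩
    · exact ⟨n, hn, Or.inl (by rw [← mul_assoc, ← (hstab n hn).eq, mul_assoc, hT.sq, mul_one])⟩
  have hr' : ∀ (i : Fin 6) g, P g → P (X.κ (val (rW i)) * g) := by
    intro i g hg
    obtain ⟨n, hn, hg⟩ := hg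
    have h := List.all_eq_true.1 hrho.1 n (List.mem_range.2 hn)
    simp only [Bool.and_eq_true] at h
    have e : X.κ (val (rW i)) * X.κ (val (rhoW n)) = X.κ (val (rhoW (n ^^^ 2 ^ (i : ℕ)))) := by
      rw [← map_mul, ← val_append, val_eq (List.all_eq_true.1 h.2 i (List.mem_range.2 i.2))]
    refine ⟨n ^^^ 2 ^ (i : ℕ), Nat.xor_lt_two_pow (n := 6) hn (Nat.pow_lt_pow_right (by norm_num) i.2), ?_⟩
    rcases hg with rfl | rfl
    · exact Or.inl e
    · exact Or.inr (by rw [← mul_assoc, e])
  have hinv : ∀ i : Fin 6, (X.κ (val (rW i)))⁻¹ = X.κ (val (rW i)) := fun i => by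
    have h := List.all_eq_true.1 basis_ok i (List.mem_range.2 i.2)
    simp only [Bool.and_eq_true] at h
    refine inv_eq_of_mul_eq_one_right ?_
    rw [← map_mul, ← val_append, val_eq h.1.2]
    simp [val]
  show P (cee X T)
  generalize cee X T = g at hc ⊢
  induction hc using Subgroup.closure_induction_left with
  | one => exact hone
  | mul_left x hx y hy ih =>
    rcases hx with rfl | ⟨i, rfl⟩
    exacts [hT' _ ih, hr' i _ ih]
  | inv_mul_cancel x hx y hy ih =>
    rcases hx with rfl | ⟨i, rfl⟩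
    · rw [inv_eq_of_mul_eq_one_right hT.sq]; exact hT' _ ih
    · rw [hinv i]; exact hr' i _ ih

theorem cee_index : ∃ n, (n = 0 ∨ n = eIx) ∧
    (cee X T = X.κ (val (rhoW n)) ∨ cee X T = X.κ (val (rhoW n)) * T) := by
  obtain ⟨n, hn, hc⟩ := cee_form hT hd hJ
  refine ⟨n, ?_, hc⟩
  have h := List.all_eq_true.1 rho_ok.1 n (List.mem_range.2 hn)
  simp only [Bool.and_eq_true] at h
  have hrT : Commute (X.κ (val (rhoW n))) T := comm_stab hT hd h.1.1
  have hr2 : X.κ (val (rhoW n)) * X.κ (val (rhoW n)) = 1 := by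
    rw [← map_mul, ← val_append, val_eq h.1.2]; simp [val]
  have hc2 : cee X T * cee X T = 1 := by
    rcases hc with e | e <;> rw [e]
    · exact hr2
    · calc X.κ (val (rhoW n)) * T * (X.κ (val (rhoW n)) * T)
          = X.κ (val (rhoW n)) * (T * X.κ (val (rhoW n))) * T := by group
        _ = X.κ (val (rhoW n)) * X.κ (val (rhoW n)) * (T * T) := by rw [← hrT.eq]; group
        _ = 1 := by rw [hr2, hT.sq, one_mul]
  obtain ⟨hp, hs, hall⟩ := pair_ok
  simp only [Bool.and_eq_true] at hp hs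
  have hfix : ∀ k : List ℕ, stabW k = true → X.κ (val k) * cee X T * (X.κ (val k))⁻¹ = cee X T →
      eqC (k ++ rhoW n) (rhoW n ++ k) = true := by
    intro k hk he
    have hkT : Commute (X.κ (val k)) T := comm_stab hT hd hk
    have e2 : X.κ (val k) * X.κ (val (rhoW n)) * (X.κ (val k))⁻¹ = X.κ (val (rhoW n)) := by
      rcases hc with e | e <;> rw [e] at he
      · exact he
      · rw [← J4Eleven.conj_mul, show X.κ (val k) * T * (X.κ (val k))⁻¹ = T by
          rw [hkT.eq, mul_inv_cancel_right]] at he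
        exact mul_right_cancel he
    rw [mul_inv_eq_iff_eq_mul, ← map_mul, ← map_mul, ← val_append, ← val_append] at e2
    rw [eqC, beq_iff_eq, ← cd_val, ← cd_val, X.κ_injective e2]
  obtain ⟨⟨⟨⟨hk, hk1⟩, hk2⟩, e1⟩, e2⟩ := hp
  obtain ⟨⟨⟨⟨hl, hl1⟩, hl2⟩, g1⟩, g2⟩ := hs
  have a1 : eqC (pairFix.1 ++ rhoW n) (rhoW n ++ pairFix.1) = true := hfix _ hk (by
    simp only [cee, ← J4Eleven.conj_mul, tau_conj, ← tau_congr hT hd hk1 e1, ← tau_congr hT hd hk2 e2])
  have a2 : eqC (pairSwap.1 ++ rhoW n) (rhoW n ++ pairSwap.1) = true := hfix _ hl (by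
    conv_rhs => rw [← inv_eq_of_mul_eq_one_right hc2]
    simp only [cee, ← J4Eleven.conj_mul, tau_conj, ← tau_congr hT hd hl1 g1, ← tau_congr hT hd hl2 g2,
      mul_inv_rev, inv_eq_of_mul_eq_one_right (tau_sq hT _)]
    group)
  have := List.all_eq_true.1 hall n (List.mem_range.2 hn)
  simp only [a1, a2, Bool.not_true, Bool.false_or, Bool.or_eq_true, beq_iff_eq] at this
  exact this

theorem chain_ne : cee X T ≠ 1 ∧ cee X T ≠ X.κ (val eW) := by
  have h := test_ok
  simp only [Bool.and_eq_true, decide_eq_true_eq, bne_iff_ne] at h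
  obtain ⟨⟨⟨⟨⟨⟨s1, s2⟩, s3⟩, s4⟩, hv⟩, n4⟩, n5⟩ := h
  obtain ⟨g, r0⟩ : ∃ g, X.Rep g (testP 0) := ⟨X.elem testV 1, hv, 1, code_one, rfl⟩
  have r1 : X.Rep _ (testP 1) := rep_step hT hd s1 r0
  have r2 : X.Rep _ (testP 2) := rep_step hT hd s2 r1
  have r3 : X.Rep _ (testP 3) := rep_step hT hd s3 r2
  have q1 : X.Rep _ (testP 4) := rep_step hT hd s4 r0
  have q2 : X.Rep _ (testP 5) := X.rep_mul (X.rep_mul (rep_val X eW) q1) (rep_val X eW)
  have hf := frame_ok.1
  simp only [Bool.and_eq_true] at hf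
  have he2 : X.κ (val eW) * X.κ (val eW) = 1 := by
    rw [← map_mul, ← val_append, val_eq hf.1.1.1.2]; simp [val]
  have t2 := tau_sq hT swOne
  have u2 := tau_sq hT swTwo
  unfold cee
  generalize tau X T swOne = t at *
  generalize tau X T swTwo = u at *
  have key : ∀ y : G, t * u * t * u = y →
      t * (u * (t * g * t) * u) * t = y * (u * g * u) * y⁻¹ := by
    rintro y rfl
    rw [mul_inv_rev, mul_inv_rev, mul_inv_rev, inv_eq_of_mul_eq_one_right t2, inv_eq_of_mul_eq_one_right u2]
    calc t * (u * (t * g * t) * u) * t = t * u * t * (u * u) * g * (u * u) * (t * u * t) := by rw [u2]; group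
      _ = _ := by group
  constructor
  · intro e
    refine n4 (rep_eq X r3 ?_)
    rw [key _ e, one_mul, inv_one, mul_one]
    exact q1
  · intro e
    refine n5 (rep_eq X r3 ?_)
    rw [key _ e, inv_eq_of_mul_eq_one_right he2]
    exact q2

theorem line_ne : cee X T ≠ T := by
  intro e
  obtain ⟨hl, htr⟩ := line_ok
  have ht := one_mem_H hT hd hJ
  have step : ∀ i < 3, tau X T swOne * tau X T ((lineW i).1 ++ swTwo) * tau X T swOne =
      T * tau X T ((lineW i).1 ++ swTwo) := by
    intro i hi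
    have h := List.all_eq_true.1 hl i (List.mem_range.2 hi)
    simp only [Bool.and_eq_true] at h
    have hk : Commute (X.κ (val (lineW i).1)) T := comm_stab hT hd h.1.1
    have hc := congrArg (fun x => X.κ (val (lineW i).1) * x * (X.κ (val (lineW i).1))⁻¹) e
    simp only [cee, ← J4Eleven.conj_mul, tau_conj, ← tau_congr hT hd h.1.2 h.2] at hc
    rw [hk.eq, mul_inv_cancel_right] at hc
    calc tau X T swOne * tau X T ((lineW i).1 ++ swTwo) * tau X T swOne
        = tau X T swOne * tau X T ((lineW i).1 ++ swTwo) * tau X T swOne * tau X T ((lineW i).1 ++ swTwo) *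
          tau X T ((lineW i).1 ++ swTwo) := by
          rw [mul_assoc (tau X T swOne * tau X T ((lineW i).1 ++ swTwo) * tau X T swOne), tau_sq hT, mul_one]
      _ = _ := by rw [hc]
  have hABC := tau_trip hT hd htr
  have hAT : Commute (tau X T ((lineW 0).1 ++ swTwo)) T := by
    have h := List.all_eq_true.1 hl 0 (List.mem_range.2 (by norm_num))
    simp only [Bool.and_eq_true] at h
    rw [← tau_conj]
    have hm := stab_mem hT hd h.1.1
    exact mem_cH.1 (mul_mem (mul_mem hm ht.2) (inv_mem hm))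
  have h0 := step 0 (by norm_num)
  have h1 := step 1 (by norm_num)
  have h2 := step 2 (by norm_num)
  rw [← hABC] at h2
  have t2 := tau_sq hT swOne
  have hTT := hT.sq
  generalize tau X T swOne = t at *
  generalize tau X T ((lineW 0).1 ++ swTwo) = A at *
  generalize tau X T ((lineW 1).1 ++ swTwo) = B at *
  refine hT.ne ?_
  have h3 : t * (A * B) * t = A * B := by
    calc t * (A * B) * t = t * A * t * (t * B * t) := by
          rw [show t * A * t * (t * B * t) = t * A * (t * t) * B * t by group, t2]; group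
      _ = T * A * (T * B) := by rw [h0, h1]
      _ = T * (A * T) * B := by group
      _ = A * B := by rw [hAT.eq, ← mul_assoc, hTT]; group
  rw [h3] at h2
  exact mul_eq_right.1 h2.symm

theorem cee_eq : cee X T = X.κ (val eW) * T := by
  obtain ⟨n, hn, hc⟩ := cee_index hT hd hJ
  obtain ⟨-, h0, he, -⟩ := rho_ok
  obtain ⟨n1, n2⟩ := chain_ne hT hd hJ
  rcases hn with rfl | rfl
  · rw [val_eq h0] at hc
    simp only [val, map_one, one_mul] at hc
    exact (hc.elim n1 (line_ne hT hd hJ)).elim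
  · rw [val_eq he] at hc
    exact hc.resolve_left n2

/-- The second long relator. -/
theorem relator_two :
    (kap X gK * T * ((kap X gR)⁻¹ * T * kap X gR)) ^ 2 = 1 := by
  obtain ⟨hf, hi, hw0, hw2, hkg⟩ := frame_ok
  simp only [Bool.and_eq_true] at hf hi
  obtain ⟨⟨⟨⟨⟨⟨hwi, hww⟩, hes⟩, -⟩, hk⟩, hwt⟩, hlast⟩ := hf
  have hc := cee_eq hT hd hJ
  have ht := one_mem_H hT hd hJ
  have hK : g0 * gK * g0⁻¹ = val krL := by
    simp only [gK, krL, val, base, List.getD_cons_zero, List.getD_cons_succ, pow_succ, pow_zero, one_mul, mul_one]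
    group
  have hR : g0 * gR * g0⁻¹ = val rrL := by
    simp only [gR, rrL, val, base, List.getD_cons_zero, List.getD_cons_succ, pow_succ, pow_zero, one_mul, mul_one]
    group
  have hg : val gwI = (val gwL)⁻¹ := (inv_eq_of_mul_eq_one_left (by rw [← val_append, val_eq hi.1]; rfl)).symm
  have hRi : val rrI = (val rrL)⁻¹ := val_inv hi.2
  have hW : X.κ (val kgL) = (X.κ (val gwL))⁻¹ * kap X gK * X.κ (val gwL) := by
    rw [kap_apply, hK, hkg, val_append, val_append, map_mul, map_mul, hg, map_inv]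
  have hU : tau X T swTwo = (X.κ (val gwL))⁻¹ * ((kap X gR)⁻¹ * T * kap X gR) * X.κ (val gwL) := by
    rw [tau, hw2, kap_apply, hR, val_append, hg, hRi, map_mul, map_inv, map_inv]; group
  have hS : tau X T swOne = (X.κ (val gwL))⁻¹ * T * X.κ (val gwL) := by
    rw [tau, hw0, hg, map_inv, inv_inv]
  suffices h : (X.κ (val kgL) * tau X T swOne * tau X T swTwo) ^ 2 = 1 by
    rw [hW, hU, hS, show (X.κ (val gwL))⁻¹ * kap X gK * X.κ (val gwL) *
        ((X.κ (val gwL))⁻¹ * T * X.κ (val gwL)) *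
        ((X.κ (val gwL))⁻¹ * ((kap X gR)⁻¹ * T * kap X gR) * X.κ (val gwL)) =
      (X.κ (val gwL))⁻¹ * (kap X gK * T * ((kap X gR)⁻¹ * T * kap X gR)) * (X.κ (val gwL))⁻¹⁻¹ by group,
      conj_pow, conj_eq_one_iff] at h
    exact h
  have c1 : Commute (X.κ (val kgL)) (tau X T swOne) := by
    have e := tau_conj X T kgL swOne
    rw [← tau_congr hT hd hk hwt] at e
    exact mul_inv_eq_iff_eq_mul.1 e
  have hTu : T * tau X T swTwo = (X.κ (val kgL))⁻¹ * tau X T swTwo * X.κ (val kgL) := by
    have e := tau_trip hT hd hlast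
    have hwinv : val kgI = (val kgL)⁻¹ := (inv_eq_of_mul_eq_one_left (by rw [← val_append, val_eq hwi]; rfl)).symm
    rw [tau_nil, ← tau_conj, hwinv, map_inv, inv_inv] at e
    exact e
  have hw2' : X.κ (val kgL) * X.κ (val kgL) = X.κ (val eW) := by
    rw [← map_mul, ← val_append, val_eq hww]
  have heT : Commute (X.κ (val eW)) T := comm_stab hT hd hes
  have hfix : X.κ (val eW) * X.κ (val eW) = 1 := by
    have h := frame_ok.1
    simp only [Bool.and_eq_true] at h
    rw [← map_mul, ← val_append, val_eq h.1.1.1.2]; simp [val]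
  have htT : Commute (tau X T swOne) T := mem_cH.1 ht.1
  rw [cee] at hc
  generalize X.κ (val kgL) = w at *
  generalize X.κ (val eW) = ew at *
  generalize tau X T swOne = t at *
  generalize tau X T swTwo = u at *
  calc (w * t * u) ^ 2 = w * t * w * (w⁻¹ * u * w) * t * u := by rw [pow_two]; group
    _ = w * (t * w) * (T * u) * t * u := by rw [← hTu]; group
    _ = w * w * (t * T) * (u * t * u) := by rw [← c1.eq]; group
    _ = ew * T * (t * u * t * u) := by rw [hw2', htT.eq]; group
    _ = ew * T * (ew * T) := by rw [hc]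
    _ = ew * (T * ew) * T := by group
    _ = 1 := by rw [← heT.eq, ← mul_assoc, hfix, one_mul, hT.sq]

omit hT hd hJ in
/-- A simple group of Janko-four type has the symmetric presentation. -/
theorem hasSymPres [IsSimpleGroup G] (hG : ¬ IsMulCommutative G) {y : G} (hy : Cfsg.IsOfJankoFourTypeAt y) :
    HasSymPres G := by
  obtain ⟨P, hP⟩ := hy
  obtain ⟨X, -, T, hT, hd⟩ := exists_trio hG hP
  obtain ⟨hsq, hW, hX, h1⟩ := trio_relators X hG ⟨P, hP⟩ hT
  have hcomm : ∀ {a : G}, T⁻¹ * a⁻¹ * T * a = 1 → T * a = a * T := fun {a} h => by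
    calc T * a = a * T * (T⁻¹ * a⁻¹ * T * a) := by group
      _ = a * T := by rw [h, mul_one]
  exact ⟨kap X, T, hT.ne, hT.sq, hcomm hX, hcomm hW, h1,
    relator_two hT hd (trio_type X hG hP hT)⟩

end CfsgLib.J4Type.RTwo
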