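import Cfsg.Agent.J4Type.Fixed
import Cfsg.Agent.LargeExtra.SimpleCriterion

/-!
An involution whose centraliser has the shape `2^(1+12).3.M₂₂.2` makes the group one of Janko-four type.
-/

set_option autoImplicit false
set_option maxRecDepth 100000
set_option linter.style.haveILetI false

namespace CfsgLib.J4Type

open Subgroup CfsgLib.J4Local.FixMod
open scoped commutatorElement

theorem exists_type {G : Type*} [Group G] [Finite G] (t : G) (ht : orderOf t = 2)
    (Q N M : Subgroup ↥(centralizer ({t} : Set G))) [hQn : Q.Normal] [hNn : N.Normal] [M.Normal]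
    (hQN : Q ≤ N) (hNM : N ≤ M) (hM : M.index = 2) (hQ : Cfsg.IsExtraspecial 2 Q)
    (hcard : Nat.card Q = 2 ^ 13) (hN : Nat.card N = 3 * Nat.card Q) (hcent : ⁅M, N⁆ ≤ Q)
    (hperf : M ≤ ⁅M, M⁆ ⊔ Q)
    (h2c : centralizer (Q : Set ↥(centralizer ({t} : Set G))) ≤ Q)
    (hout : ∀ c : centralizer ({t} : Set G), (∀ m ∈ M, c * m * c⁻¹ * m⁻¹ ∈ N) → c ∈ M)
    (hM22 : Cfsg.Spor.IsoM22 (↥M ⧸ N.subgroupOf M)) :
    Cfsg.IsOfJankoFourTypeAt t := by
  obtain ⟨e⟩ := hM22
  haveI : (N.subgroupOf M).Normal := normal_subgroupOf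
  set t' : ↥(centralizer ({t} : Set G)) := ⟨t, mem_centralizer_singleton_iff.2 rfl⟩ with ht'
  set ρ : ↥M →* T22 := e.toMonoidHom.comp (QuotientGroup.mk' (N.subgroupOf M)) with hρ
  have S : Setup t' Q N M ρ :=
    { ht := by rw [ht', orderOf_mk, ht]
      cen := fun h => Subtype.ext (mem_centralizer_singleton_iff.1 h.2)
      nQ := hQn, nN := hNn, QN := hQN, NM := hNM, idx := hM, extra := hQ, cQ := hcard
      cN := by rw [hN, hcard]
      centN := hcent, perf := hperf, self := h2c, out := hout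
      surj := e.surjective.comp (QuotientGroup.mk'_surjective _)
      ker := by
        ext x
        rw [MonoidHom.mem_ker, hρ, MonoidHom.comp_apply]
        exact (map_eq_one_iff e e.injective).trans (QuotientGroup.eq_one_iff x) }
  obtain ⟨p, hpN, hp, hfr, hdec⟩ := S.exists_p
  obtain ⟨Φ, hΦ, hΦk, -⟩ := S.exists_act
  have hinj : Function.Injective (centralizer ({t} : Set G)).subtype := (centralizer ({t} : Set G)).subtype_injective
  have hEQ : Cfsg.twoCoreOfCentralizer t = Q.map (centralizer ({t} : Set G)).subtype := by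
    rw [Cfsg.twoCoreOfCentralizer, S.pCore_eq]
  have hcE : Nat.card ↥(Cfsg.twoCoreOfCentralizer t) = 2 ^ 13 := by rw [hEQ, card_map_of_injective hinj, hcard]
  have hP : zpowers (p : G) = (zpowers p).map (centralizer ({t} : Set G)).subtype := by rw [MonoidHom.map_zpowers]; rfl
  have hcP : centralizer ((zpowers (p : G) : Subgroup G) : Set G) = centralizer ({(p : G)} : Set G) := by
    rw [zpowers_eq_closure, centralizer_closure]
  have hmapC : centralizer ({t} : Set G) ⊓ centralizer ((zpowers (p : G) : Subgroup G) : Set G) =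
      (centralizer ({p} : Set ↥(centralizer ({t} : Set G)))).map (centralizer ({t} : Set G)).subtype := by
    ext x
    rw [hcP, mem_inf, mem_map]
    constructor
    · rintro ⟨hx, hxp⟩
      exact ⟨⟨x, hx⟩, mem_centralizer_singleton_iff.2 (Subtype.ext (mem_centralizer_singleton_iff.1 hxp)), rfl⟩
    · rintro ⟨y, hy, rfl⟩
      exact ⟨y.2, mem_centralizer_singleton_iff.2
        (congrArg Subtype.val (mem_centralizer_singleton_iff.1 hy))⟩
  refine ⟨zpowers (p : G), ht, ?_, hcE, ?_, ⟨N.map (centralizer ({t} : Set G)).subtype, ?_, map_subtype_le N, ?_, ?_, ?_, ?_⟩, ?_, ?_, ?_, ?_⟩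
  · rw [hEQ]
    exact CfsgLib.LargeExtra.isExtraspecial_equiv (Q.equivMapOfInjective _ hinj) hQ
  · rintro x ⟨hx, hxE⟩
    rw [hEQ] at hxE ⊢
    refine ⟨⟨x, hx⟩, h2c (mem_centralizer_iff.2 fun q hq => Subtype.ext ?_), rfl⟩
    exact mem_centralizer_iff.1 hxE (q : G) ⟨q, hq, rfl⟩
  · rw [hEQ]
    exact map_mono hQN
  · intro x hx
    refine le_normalizer_of_conj (K := (centralizer ({t} : Set G))) (fun k hk y hy => ?_) hx
    obtain ⟨y', hy', rfl⟩ := hy
    exact ⟨⟨k, hk⟩ * y' * ⟨k, hk⟩⁻¹, hNn.conj_mem y' hy' _, rfl⟩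
  · rw [card_map_of_injective hinj, hcE, hN, hcard]
  · have hsub : (N.map (centralizer ({t} : Set G)).subtype).subgroupOf (centralizer ({t} : Set G)) = N := comap_map_eq_self_of_injective hinj N
    haveI hn : ((N.map (centralizer ({t} : Set G)).subtype).subgroupOf (centralizer ({t} : Set G))).Normal :=
      hsub.symm ▸ hNn
    refine ⟨hn, ⟨?_⟩⟩
    exact (QuotientGroup.quotientMulEquivOfEq (hsub.trans hΦk.symm)).trans
      (QuotientGroup.quotientKerEquivOfSurjective Φ hΦ)
  · rw [hP]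
    exact map_mono (zpowers_le.2 hpN)
  · rw [Nat.card_zpowers, orderOf_submonoid, hp]
  · rw [hEQ, hcP]
    have h := S.inf_centralizer hpN hp hfr hdec
    ext x
    rw [mem_inf]
    constructor
    · rintro ⟨⟨q, hq, rfl⟩, hxp⟩
      have : q ∈ zpowers t' := h ▸ mem_inf.2 ⟨hq, mem_centralizer_singleton_iff.2
        (Subtype.ext (mem_centralizer_singleton_iff.1 hxp))⟩
      obtain ⟨i, rfl⟩ := this
      exact ⟨i, rfl⟩
    · rintro ⟨i, rfl⟩
      have hi : t' ^ i ∈ Q ⊓ centralizer ({p} : Set ↥(centralizer ({t} : Set G))) := h.symm ▸ ⟨i, rfl⟩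
      exact ⟨⟨t' ^ i, hi.1, rfl⟩, mem_centralizer_singleton_iff.2
        (congrArg Subtype.val (mem_centralizer_singleton_iff.1 hi.2))⟩
  · intro heq
    obtain ⟨k, hk⟩ := S.exists_inv hpN hp hfr hdec
    have hkN : (k : G) ∈ (centralizer ({t} : Set G)) ⊓ normalizer ((zpowers (p : G) : Subgroup G) : Set G) := by
      refine mem_inf.2 ⟨k.2, ?_⟩
      refine mem_normalizer_iff.2 fun x => ?_
      have hk' : (k : G) * p * (k : G)⁻¹ = (p : G)⁻¹ := congrArg Subtype.val hk
      rw [mem_zpowers_iff, mem_zpowers_iff]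
      constructor
      · rintro ⟨i, rfl⟩
        exact ⟨-i, by rw [← conj_zpow, hk', inv_zpow']⟩
      · rintro ⟨i, hi⟩
        refine ⟨-i, ?_⟩
        have h2 : (k : G)⁻¹ * ((p : G) ^ i) * k = (p : G) ^ (-i) := by
          have h3 : (p : G) ^ i = (k : G) * (p : G) ^ (-i) * (k : G)⁻¹ := by
            rw [← conj_zpow, hk', inv_zpow', neg_neg]
          conv_lhs => rw [h3]
          group
        rw [← h2, hi]; group
    rw [heq, hmapC] at hkN
    obtain ⟨k', hk', e'⟩ := hkN
    rw [show k' = k from Subtype.ext e'] at hk'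
    rw [mem_centralizer_singleton_iff.1 hk', mul_inv_cancel_right] at hk
    have h2 : p ^ 2 = 1 := by rw [pow_two]; nth_rw 2 [hk]; exact mul_inv_cancel p
    have := orderOf_dvd_of_pow_eq_one h2
    rw [hp] at this
    omega
  · rw [hmapC, ← map_commutator, zpowers_le]
    exact mem_map_of_mem _ (S.mem_commutator hpN hp hfr hdec)

end CfsgLib.J4Type
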