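import Cfsg.Agent.S5566
import Cfsg.Agent.Coset.J4.Count
import Cfsg.Prelude.Def_Spor_J4
import Cfsg.Prelude.Def_Sporadic

/-!
The seven suborbits of the normaliser of an elementary abelian subgroup of order `2 ^ 11` in a group of
Janko-four type, transported from the presented group.
-/

set_option autoImplicit false
set_option linter.style.haveILetI false

namespace CfsgLib.J4Type

open Subgroup CfsgLib.Coset.J4

/-- Double coset data along an isomorphism. -/
def dcMap {G G' : Type*} [Group G] [Group G'] {H : Subgroup G} (D : DC H) (φ : G ≃* G') :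
    DC (H.map φ.toMonoidHom) where
  t := φ D.t
  K := D.K.map φ.toMonoidHom
  g n := φ (D.g n)
  a p := φ (D.a p)
  lab := D.lab
  t_sq := by rw [← map_mul, D.t_sq, map_one]
  t_not_mem h := D.t_not_mem ((mem_map_iff_mem φ.injective).1 h)
  gen := by
    have h := congrArg (Subgroup.map φ.toMonoidHom) D.gen
    rw [MonoidHom.map_closure, Set.image_union, Set.image_singleton, map_top_of_surjective _ φ.surjective] at h
    exact h
  finH :=
    haveI := D.finH
    Finite.of_equiv H (equivMapOfInjective H φ.toMonoidHom φ.injective).toEquiv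
  K_le := map_mono D.K_le
  K_conj := by
    rintro _ ⟨k, hk, rfl⟩
    exact ⟨_, D.K_conj k hk, by simp⟩
  g_zero := by rw [D.g_zero, map_one]
  g_one := by rw [D.g_one]
  a_mem p := mem_map_of_mem _ (D.a_mem p)
  a_zero := by rw [D.a_zero, map_one]
  decomp := by
    rintro _ ⟨h, hh, rfl⟩
    obtain ⟨p, k, hk, rfl⟩ := D.decomp h hh
    exact ⟨p, _, mem_map_of_mem _ hk, by simp⟩
  a_inj p q h := D.a_inj p q (by
    rw [← map_inv, ← map_mul] at h
    exact (mem_map_iff_mem φ.injective).1 h)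
  fact n p := by
    obtain ⟨u, hu, v, hv, e⟩ := D.fact n p
    exact ⟨_, mem_map_of_mem _ hu, _, mem_map_of_mem _ hv, by
      rw [← map_mul, ← map_mul, e]; simp⟩
  count := D.count
  lab10 := D.lab10

/-- The suborbit lengths in the order of the statement. -/
theorem sizeE_perm : (List.ofFn fun i : Fin 7 => sizeE (![0, 1, 4, 2, 3, 5, 6] i)) =
    [1, 15180, 28336, 3400320, 32643072, 54405120, 82575360] := by decide

theorem suborbits_of_dc {G : Type*} [Group G] {H : Subgroup G} (D : DC H) :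
    H.index = 173067389 ∧ ∃ c : Fin 7 → G ⧸ H,
      (∀ i j : Fin 7, i ≠ j → MulAction.orbit ↥H (c i) ≠ MulAction.orbit ↥H (c j)) ∧
      (∀ q : G ⧸ H, ∃ i : Fin 7, q ∈ MulAction.orbit ↥H (c i)) ∧
      (List.ofFn fun i => (MulAction.orbit ↥H (c i)).ncard) =
        [1, 15180, 28336, 3400320, 32643072, 54405120, 82575360] := by
  refine ⟨D.index_eq, fun i => QuotientGroup.mk (D.g (![0, 1, 4, 2, 3, 5, 6] i)), ?_, fun q => ?_, ?_⟩
  · intro i j hij h
    have hinj : Function.Injective (![0, 1, 4, 2, 3, 5, 6] : Fin 7 → Fin 7) := by decide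
    exact hij (hinj (D.orbit_inj (h ▸ MulAction.mem_orbit_self _)))
  · obtain ⟨n, hn⟩ := D.orbit_cover q
    have hsur : ∀ n : Fin 7, ∃ i, (![0, 1, 4, 2, 3, 5, 6] : Fin 7 → Fin 7) i = n := by decide
    obtain ⟨i, rfl⟩ := hsur n
    exact ⟨i, hn⟩
  · simp only [D.ncard_orbit]
    exact sizeE_perm

/-- The suborbits in a group of Janko-four type isomorphic to the presented group. -/
theorem suborbits_of_iso {G : Type*} [Group G] [Finite G] [IsSimpleGroup G] (hG : ¬ IsMulCommutative G)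
    (hJ : Cfsg.IsOfJankoFourType G) (hiso : Cfsg.Spor.IsoJ4 G) {H : Subgroup Cfsg.Spor.J4} (D : DC H)
    {W : Subgroup Cfsg.Spor.J4} (hW : Cfsg.IsElementaryAbelian 2 W) (hWc : Nat.card W = 2 ^ 11)
    (hHW : H ≤ normalizer (W : Set Cfsg.Spor.J4)) (V : Subgroup G) (hV : Cfsg.IsElementaryAbelian 2 V)
    (hcard : Nat.card ↥V = 2 ^ 11) :
    (normalizer (V : Set G)).index = 173067389 ∧ ∃ c : Fin 7 → G ⧸ normalizer (V : Set G),
      (∀ i j : Fin 7, i ≠ j → MulAction.orbit ↥(normalizer (V : Set G)) (c i) ≠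
        MulAction.orbit ↥(normalizer (V : Set G)) (c j)) ∧
      (∀ q : G ⧸ normalizer (V : Set G), ∃ i : Fin 7, q ∈ MulAction.orbit ↥(normalizer (V : Set G)) (c i)) ∧
      (List.ofFn fun i => (MulAction.orbit ↥(normalizer (V : Set G)) (c i)).ncard) =
        [1, 15180, 28336, 3400320, 32643072, 54405120, 82575360] := by
  classical
  haveI : Fact (Nat.Prime 2) := ⟨Nat.prime_two⟩
  obtain ⟨e⟩ := hiso
  haveI : IsSimpleGroup Cfsg.Spor.J4 := e.symm.isSimpleGroup
  set ψ : Cfsg.Spor.J4 →* G := e.symm.toMonoidHom with hψ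
  -- the two subgroups are conjugate
  set V' := W.map ψ with hV'
  have hV'c : Nat.card V' = 2 ^ 11 := by rw [hV', card_map_of_injective (K := W) e.symm.injective, hWc]
  have hV'e : Cfsg.IsElementaryAbelian 2 V' := by
    refine ⟨⟨⟨?_⟩⟩, ?_⟩
    · rintro ⟨_, a, ha, rfl⟩ ⟨_, b, hb, rfl⟩
      refine Subtype.ext ?_
      show ψ a * ψ b = ψ b * ψ a
      rw [← map_mul, ← map_mul]
      exact congrArg ψ (congrArg Subtype.val (hW.1.is_comm.comm ⟨a, ha⟩ ⟨b, hb⟩))
    · rintro _ ⟨a, ha, rfl⟩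
      rw [← map_pow, hW.2 a ha, map_one]
  obtain ⟨P, hP⟩ := (IsPGroup.of_card hcard : IsPGroup 2 V).exists_le_sylow
  obtain ⟨P', hP'⟩ := (IsPGroup.of_card hV'c : IsPGroup 2 V').exists_le_sylow
  obtain ⟨g, hg⟩ := MulAction.exists_smul_eq G P' P
  set c : G ≃* G := MulAut.conj g with hc
  have hmap : V'.map c.toMonoidHom = V := by
    obtain ⟨U, -, huniq⟩ := Cfsg.Agent.S5566.result hG hJ P
    refine (huniq _ ⟨?_, ?_, ?_⟩).trans (huniq V ⟨hP, hV, hcard⟩).symm
    · rw [← hg]; exact map_mono hP'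
    · refine ⟨⟨⟨?_⟩⟩, ?_⟩
      · rintro ⟨_, a, ha, rfl⟩ ⟨_, b, hb, rfl⟩
        refine Subtype.ext ?_
        show c a * c b = c b * c a
        rw [← map_mul, ← map_mul]
        exact congrArg c (congrArg Subtype.val (hV'e.1.is_comm.comm ⟨a, ha⟩ ⟨b, hb⟩))
      · rintro _ ⟨a, ha, rfl⟩
        rw [← map_pow, hV'e.2 a ha, map_one]
    · rw [card_map_of_injective (K := V') c.injective, hV'c]
  set φ : Cfsg.Spor.J4 ≃* G := e.symm.trans c with hφ
  have hVφ : W.map φ.toMonoidHom = V := by rw [← hmap, hV', map_map]; rfl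
  -- maximality identifies the normaliser
  have hne : normalizer (W : Set Cfsg.Spor.J4) ≠ ⊤ := by
    intro h
    haveI : W.Normal := normalizer_eq_top_iff.1 h
    rcases (inferInstance : W.Normal).eq_bot_or_eq_top with h1 | h1
    · rw [h1, card_bot] at hWc
      norm_num at hWc
    · refine hG ⟨⟨fun a b => ?_⟩⟩
      have ha : e a ∈ W := h1 ▸ mem_top _
      have hb : e b ∈ W := h1 ▸ mem_top _
      refine e.injective ?_
      rw [map_mul, map_mul]
      exact congrArg Subtype.val (hW.1.is_comm.comm ⟨e a, ha⟩ ⟨e b, hb⟩)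
  have hH : normalizer (W : Set Cfsg.Spor.J4) = H := (D.maximal hHW).resolve_right hne
  have hN : H.map φ.toMonoidHom = normalizer (V : Set G) := by
    rw [← hH, ← hVφ, map_equiv_normalizer_eq]
  exact hN ▸ suborbits_of_dc (dcMap D φ)

end CfsgLib.J4Type
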