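import Cfsg.Agent.J4Type.Relators
import Cfsg.Agent.J4Type.Suborbits
import Cfsg.Agent.J4Type.Main
import Cfsg.Agent.J4Type.Classes

/-!
The three rows on the uniqueness of the fourth Janko group, from their inputs.
-/

set_option autoImplicit false
set_option maxRecDepth 100000
set_option linter.unusedVariables false
set_option linter.unusedSectionVars false

namespace CfsgLib.J4Type

open Cfsg CfsgLib.Coset.J4

universe u

/-- The order and the symmetric presentation in every simple group of Janko-four type. -/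
def Inputs : Prop :=
  ∀ {G : Type u} [Group G] [Finite G] [IsSimpleGroup G] (z : G), Cfsg.IsOfJankoFourTypeAt z →
    Nat.card G = 86775571046077562880 ∧ HasSymPres G

theorem iso_of_inputs (hJ4 : Cfsg.IsJ4 Cfsg.Spor.J4) (hin : Inputs.{u}) {G : Type u} [Group G] [Finite G] [IsSimpleGroup G] {z : G}
    (hJ : Cfsg.IsOfJankoFourTypeAt z) : Cfsg.Spor.IsoJ4 G :=
  iso_of_symPres hJ4 (hin z hJ).1 (hin z hJ).2

theorem row_centralizer (hJ4 : Cfsg.IsJ4 Cfsg.Spor.J4) (hin : Inputs.{u}) {G : Type u} [Group G] [Finite G] [IsSimpleGroup G] (t : G) (ht : orderOf t = 2) (Q N M : Subgroup (Subgroup.centralizer ({t} : Set G))) [Q.Normal] [N.Normal] [M.Normal] (hQN : Q ≤ N) (hNM : N ≤ M) (hM : M.index = 2) (hQ : Cfsg.IsExtraspecial 2 Q) (hcard : Nat.card Q = 2 ^ 13) (hplus : ∃ E : Subgroup Q, Cfsg.IsElementaryAbelian 2 E ∧ Nat.card E = 2 ^ 7) (hN : Nat.card N = 3 * Nat.card Q) (hcent : ⁅M, N⁆ ≤ Q) (hperf : M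 ≤ ⁅M, M⁆ ⊔ Q) (h2c : Subgroup.centralizer (Q : Set (Subgroup.centralizer ({t} : Set G))) ≤ Q) (hout : ∀ c : Subgroup.centralizer ({t} : Set G), (∀ m ∈ M, c * m * c⁻¹ * m⁻¹ ∈ N) → c ∈ M) (hM22 : Cfsg.Spor.IsoM22 (M ⧸ N.subgroupOf M)) (h2cen : Cfsg.IsTwoCentralInvolution t) : Cfsg.Spor.IsoJ4 G := by
  exact iso_of_inputs hJ4 hin (exists_type t ht Q N M hQN hNM hM hQ hcard hN hcent hperf h2c hout hM22)

theorem row_setting (hJ4 : Cfsg.IsJ4 Cfsg.Spor.J4) (hin : Inputs.{u}) {G : Type u} [Group G] [Finite G] [IsSimpleGroup G] (hG : ¬ IsMulCommutative G) (τ : G) (Q N : Subgroup ↥(Subgroup.centralizer ({τ} : Set G))) [Q.Normal] [N.Normal] (hS : Cfsg.IsExtraspecialCentralizerSetting τ Q 6) (hplus : ∃ E : Subgroup ↥Q, Cfsg.IsElementaryAbelian 2 E ∧ Nat.card ↥E = 2 ^ 7) (hQN : Q ≤ N) (hN3 : Nat.card ↥N = 3 * Nat.card ↥Q) (hns : ∀ K : Subgroup ↥(Subgroup.centralizer ({τ} : Set G)), K ⊓ N = Q → K ⊔ N = ⊤ →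 False) (hAut : Nonempty (↥(Subgroup.centralizer ({τ} : Set G)) ⧸ N ≃* MulAut ↥Cfsg.Spor.M22)) :
    Cfsg.Spor.IsoJ4 G := by
  exact iso_of_inputs hJ4 hin (exists_type_of_setting τ Q N hS hQN hN3 hns hAut)

theorem row_suborbits (hJ4 : Cfsg.IsJ4 Cfsg.Spor.J4) (hin : Inputs.{u}) {H : Subgroup Cfsg.Spor.J4} (D : DC H) {W : Subgroup Cfsg.Spor.J4}
    (hW : Cfsg.IsElementaryAbelian 2 W) (hWc : Nat.card W = 2 ^ 11)
    (hHW : H ≤ Subgroup.normalizer (W : Set Cfsg.Spor.J4)) {G : Type u} [Group G] [Finite G] [IsSimpleGroup G] (hG : ¬ IsMulCommutative G) (z : G) (hJ : Cfsg.IsOfJankoFourTypeAt z) (V : Subgroup G) (hV : Cfsg.IsElementaryAbelian 2 V) (hcard : Nat.card ↥V = 2 ^ 11) : (Subgroup.normalizer (V : Set G)).index = 173067389 ∧ ∃ c : Fin 7 → G ⧸ Subgroup.normalizer (V : Set G), (∀ i j : Fin 7, i ≠ j → MulAction.orbit ↥(Subgroup.normalizer (V : Set G)) (c i) ≠ MulAction.orbit ↥(Subgroup.normalizer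 (V : Set G)) (c j)) ∧ (∀ q : G ⧸ Subgroup.normalizer (V : Set G), ∃ i : Fin 7, q ∈ MulAction.orbit ↥(Subgroup.normalizer (V : Set G)) (c i)) ∧ (List.ofFn fun i => (MulAction.orbit ↥(Subgroup.normalizer (V : Set G)) (c i)).ncard) = [1, 15180, 28336, 3400320, 32643072, 54405120, 82575360] := by
  exact suborbits_of_iso hG ⟨z, hJ⟩ (iso_of_inputs hJ4 hin hJ) D hW hWc hHW V hV hcard

end CfsgLib.J4Type
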