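import Cfsg.Agent.J4Local.Order.OrderMain
import Cfsg.Agent.J4Type.RTwoMain
import Cfsg.Agent.J4Type.Rows

/-!
The order and the symmetric presentation of every simple group of Janko-four type: the inputs of the
uniqueness statements.
-/

set_option autoImplicit false

namespace CfsgLib.J4Type

universe u

theorem inputs : Inputs.{u} := fun _ hJ =>
  ⟨CfsgLib.J4Order.order_of_type hJ, RTwo.hasSymPres (not_comm hJ) hJ⟩

end CfsgLib.J4Type
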