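import Cfsg.Agent.J4Local.Eleven.Data

/-!
Two commuting elements of order three of M₂₂ with an automorphism fixing the first and inverting the second.
-/

set_option autoImplicit false
set_option maxRecDepth 100000

namespace CfsgLib.J4Type

open Cfsg CfsgLib.Golay CfsgLib.Golay.SylowCert CfsgLib.J4Local.M22Elem CfsgLib.J4Eleven

/-- An element of order three inverted by the outer element and commuting with `threeC`. -/
def threeY : List Nat :=
  [0, 16, 2, 10, 19, 7, 6, 20, 22, 18, 21, 1, 4, 9, 14, 15, 11, 8, 13, 12, 5, 3, 17, 23]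

theorem three_ok : In22 CfsgLib.J4Eleven.Data.threeC ∧ In22 threeY ∧ Out22 CfsgLib.J4Eleven.Data.outA ∧
    compL CfsgLib.J4Eleven.Data.threeC (compL CfsgLib.J4Eleven.Data.threeC CfsgLib.J4Eleven.Data.threeC) = List.range 24 ∧
    compL threeY (compL threeY threeY) = List.range 24 ∧
    CfsgLib.J4Eleven.Data.threeC ≠ List.range 24 ∧ threeY ≠ List.range 24 ∧
    threeY ≠ CfsgLib.J4Eleven.Data.threeC ∧
    threeY ≠ compL CfsgLib.J4Eleven.Data.threeC CfsgLib.J4Eleven.Data.threeC ∧
    compL CfsgLib.J4Eleven.Data.threeC threeY = compL threeY CfsgLib.J4Eleven.Data.threeC ∧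
    conjL CfsgLib.J4Eleven.Data.outA CfsgLib.J4Eleven.Data.threeC = CfsgLib.J4Eleven.Data.threeC ∧
    conjL CfsgLib.J4Eleven.Data.outA threeY = compL threeY threeY := by decide +kernel

/-- A frame of the Sylow 3-subgroup of M₂₂ for an automorphism of determinant minus one. -/
theorem exists_det : ∃ (x y : M) (α : MulAut M), orderOf x = 3 ∧ orderOf y = 3 ∧ x * y = y * x ∧
    y ∉ Subgroup.zpowers x ∧ α x = x ∧ α y = y⁻¹ := by
  haveI : Fact (Nat.Prime 3) := ⟨Nat.prime_three⟩
  obtain ⟨hc, hy, ho, c3, y3, c1, y1, yc, ycc, hcy, fc, fy⟩ := three_ok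
  set x := el CfsgLib.J4Eleven.Data.threeC with hxdef
  set y := el threeY with hydef
  have lx : toL x = CfsgLib.J4Eleven.Data.threeC := toL_el hc
  have ly : toL y = threeY := toL_el hy
  have hy3 : y * (y * y) = 1 := eq_of_toL (by rw [toL_mul, toL_mul, ly]) toL_one y3
  have hox : orderOf x = 3 := orderOf_eq_prime
    (by rw [pow_succ, pow_two, mul_assoc]; exact eq_of_toL (by rw [toL_mul, toL_mul, lx]) toL_one c3)
    (ne_of_toL lx toL_one c1)
  refine ⟨x, y, autL CfsgLib.J4Eleven.Data.outA, hox,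
    orderOf_eq_prime (by rw [pow_succ, pow_two, mul_assoc]; exact hy3) (ne_of_toL ly toL_one y1), ?_, ?_, ?_, ?_⟩
  · exact eq_of_toL (by rw [toL_mul, lx, ly]) (by rw [toL_mul, lx, ly]) hcy
  · intro hm
    rw [mem_zpowers_iff_mem_range_orderOf, hox] at hm
    simp only [Finset.mem_image, Finset.mem_range] at hm
    obtain ⟨n, hn, e⟩ := hm
    interval_cases n
    · exact ne_of_toL ly toL_one y1 (by rw [← e, pow_zero])
    · exact ne_of_toL ly lx yc (by rw [← e, pow_one])
    · refine ne_of_toL ly (by rw [toL_mul, lx]) ycc (show y = x * x by rw [← e, pow_two])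
  · exact eq_of_toL (by rw [toL_autL ho, lx]) lx fc
  · rw [inv_eq_of_mul_eq_one_right (show y * (y * y) = 1 from hy3)]
    exact eq_of_toL (by rw [toL_autL ho, ly]) (by rw [toL_mul, ly]) fy

end CfsgLib.J4Type
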