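import Cfsg.Agent.J4Local.Basics
import Cfsg.Agent.J4Local.FixMod
import Cfsg.Agent.J4Local.M22Facts
import Cfsg.Agent.J4Type.Data

/-!
The Janko-four conditions inside the centraliser of an involution: from an extraspecial `Q`, a normal
`N` with `|N : Q| = 3` and a perfect extension `M / Q` of `M / N ≅ M₂₂`.
-/

set_option autoImplicit false
set_option maxRecDepth 100000
set_option linter.style.haveILetI false
set_option linter.unusedSectionVars false

namespace CfsgLib.J4Type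

open Subgroup CfsgLib.J4Local.FixMod
open scoped commutatorElement

/-- The Mathieu group of degree 22 as a type. -/
abbrev T22 : Type _ := ↥Cfsg.Spor.M22

/-- The hypotheses. -/
structure Setup {H : Type*} [Group H] (t : H) (Q N M : Subgroup H) (ρ : ↥M →* T22) : Prop where
  ht : orderOf t = 2
  cen : ∀ h, h * t = t * h
  nQ : Q.Normal
  nN : N.Normal
  QN : Q ≤ N
  NM : N ≤ M
  idx : M.index = 2
  extra : Cfsg.IsExtraspecial 2 Q
  cQ : Nat.card Q = 2 ^ 13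
  cN : Nat.card N = 3 * 2 ^ 13
  centN : ⁅M, N⁆ ≤ Q
  perf : M ≤ ⁅M, M⁆ ⊔ Q
  self : centralizer (Q : Set H) ≤ Q
  out : ∀ c : H, (∀ m ∈ M, c * m * c⁻¹ * m⁻¹ ∈ N) → c ∈ M
  surj : Function.Surjective ρ
  ker : ρ.ker = N.subgroupOf M

variable {H : Type*} [Group H] [Finite H] {t : H} {Q N M : Subgroup H} {ρ : ↥M →* T22}
variable (S : Setup t Q N M ρ)

include S

theorem Setup.normal_M : M.Normal := Subgroup.normal_of_index_eq_two S.idx

theorem Setup.rho_eq_one {m : H} (hm : m ∈ M) : ρ ⟨m, hm⟩ = 1 ↔ m ∈ N := by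
  rw [← MonoidHom.mem_ker, S.ker, mem_subgroupOf]

theorem Setup.t_mem : t ∈ Q := S.self (mem_centralizer_iff.2 fun q _ => S.cen q)

theorem Setup.card_M : Nat.card M = 3 * 2 ^ 13 * 443520 := by
  have h := ρ.ker.card_mul_index
  rw [index_ker, MonoidHom.range_eq_top.2 S.surj, card_top, CfsgLib.Golay.Cert.card_m22, S.ker,
    Nat.card_congr (subgroupOfEquivOfLe S.NM).toEquiv, S.cN] at h
  exact h.symm

theorem Setup.card_H : Nat.card H = 3 * 2 ^ 13 * 887040 := by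
  rw [← M.card_mul_index, S.idx, S.card_M]
  norm_num

theorem Setup.conj_mem (h : H) {m : H} (hm : m ∈ M) : h * m * h⁻¹ ∈ M := S.normal_M.conj_mem m hm h

theorem Setup.act_congr (h : H) {m m' : H} (hm : m ∈ M) (hm' : m' ∈ M) (e : ρ ⟨m, hm⟩ = ρ ⟨m', hm'⟩) :
    ρ ⟨h * m * h⁻¹, S.conj_mem h hm⟩ = ρ ⟨h * m' * h⁻¹, S.conj_mem h hm'⟩ := by
  rw [← inv_mul_eq_one, ← map_inv, ← map_mul, ← MonoidHom.mem_ker, S.ker, mem_subgroupOf] at e ⊢
  show (h * m * h⁻¹)⁻¹ * (h * m' * h⁻¹) ∈ N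
  rw [show (h * m * h⁻¹)⁻¹ * (h * m' * h⁻¹) = h * (m⁻¹ * m') * h⁻¹ by group]
  exact S.nN.conj_mem _ e h

/-- The action on M₂₂. -/
theorem Setup.exists_act : ∃ Φ : H →* MulAut T22, Function.Surjective Φ ∧ Φ.ker = N ∧
    ∀ (h m : H) (hm : m ∈ M), Φ h (ρ ⟨m, hm⟩) = ρ ⟨h * m * h⁻¹, S.conj_mem h hm⟩ := by
  classical
  haveI := S.nN
  choose lift hlift using S.surj
  let f : H → T22 → T22 := fun h x => ρ ⟨h * (lift x : H) * h⁻¹, S.conj_mem h (lift x).2⟩
  have hf : ∀ (h m : H) (hm : m ∈ M), f h (ρ ⟨m, hm⟩) = ρ ⟨h * m * h⁻¹, S.conj_mem h hm⟩ := fun h m hm =>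
    S.act_congr h (lift _).2 hm (hlift _)
  have hmul : ∀ h x y, f h (x * y) = f h x * f h y := by
    intro h x y
    obtain ⟨⟨a, ha⟩, rfl⟩ := S.surj x
    obtain ⟨⟨b, hb⟩, rfl⟩ := S.surj y
    rw [← map_mul, show (⟨a, ha⟩ : ↥M) * ⟨b, hb⟩ = ⟨a * b, mul_mem ha hb⟩ from rfl, hf, hf, hf, ← map_mul]
    exact congrArg ρ (Subtype.ext (show h * (a * b) * h⁻¹ = h * a * h⁻¹ * (h * b * h⁻¹) by group))
  have hcomp : ∀ h k x, f h (f k x) = f (h * k) x := by
    intro h k x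
    obtain ⟨⟨a, ha⟩, rfl⟩ := S.surj x
    rw [hf k, hf (h * k), hf h]
    exact congrArg ρ (Subtype.ext (show h * (k * a * k⁻¹) * h⁻¹ = h * k * a * (h * k)⁻¹ by group))
  have hone : ∀ x, f 1 x = x := by
    intro x
    obtain ⟨⟨a, ha⟩, rfl⟩ := S.surj x
    rw [hf]
    exact congrArg ρ (Subtype.ext (show (1 : H) * a * (1 : H)⁻¹ = a by group))
  let Φ : H →* MulAut T22 :=
    { toFun := fun h =>
        { toFun := f h
          invFun := f h⁻¹
          left_inv := fun x => by rw [hcomp, inv_mul_cancel, hone]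
          right_inv := fun x => by rw [hcomp, mul_inv_cancel, hone]
          map_mul' := hmul h }
      map_one' := MulEquiv.ext hone
      map_mul' := fun h k => MulEquiv.ext fun x => (hcomp h k x).symm }
  have happ : ∀ (h m : H) (hm : m ∈ M), Φ h (ρ ⟨m, hm⟩) = ρ ⟨h * m * h⁻¹, S.conj_mem h hm⟩ := hf
  have hker : Φ.ker = N := by
    refine le_antisymm (fun c hc => ?_) fun n hn => ?_
    · rw [MonoidHom.mem_ker] at hc
      have hcM : c ∈ M := S.out c fun m hm => by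
        have := happ c m hm
        rw [hc, MulAut.one_apply] at this
        rw [← S.rho_eq_one (mul_mem (S.conj_mem c hm) (inv_mem hm)),
          show (⟨c * m * c⁻¹ * m⁻¹, _⟩ : ↥M) = ⟨c * m * c⁻¹, S.conj_mem c hm⟩ * ⟨m, hm⟩⁻¹ from rfl,
          map_mul, map_inv, ← this, mul_inv_cancel]
      rw [← S.rho_eq_one hcM, ← Subgroup.mem_bot, ← CfsgLib.J4Local.center_m22, mem_center_iff]
      intro x
      obtain ⟨⟨a, ha⟩, rfl⟩ := S.surj x
      have h1 := happ c a ha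
      rw [hc, MulAut.one_apply, show (⟨c * a * c⁻¹, S.conj_mem c ha⟩ : ↥M) = ⟨c, hcM⟩ * ⟨a, ha⟩ * ⟨c, hcM⟩⁻¹
        from rfl, map_mul, map_mul, map_inv, eq_mul_inv_iff_mul_eq] at h1
      exact h1
    · refine MonoidHom.mem_ker.2 (MulEquiv.ext fun x => ?_)
      obtain ⟨⟨a, ha⟩, rfl⟩ := S.surj x
      rw [happ, MulAut.one_apply, show (⟨n * a * n⁻¹, S.conj_mem n ha⟩ : ↥M) =
        ⟨n, S.NM hn⟩ * ⟨a, ha⟩ * ⟨n, S.NM hn⟩⁻¹ from rfl, map_mul, map_mul, map_inv,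
        (S.rho_eq_one (S.NM hn)).2 hn, one_mul, inv_one, mul_one]
  refine ⟨Φ, ?_, hker, happ⟩
  rw [← MonoidHom.range_eq_top]
  refine eq_top_of_card_eq _ ?_
  rw [← index_ker, hker, CfsgLib.J4Local.card_aut_m22]
  have h := N.card_mul_index
  rw [S.cN, S.card_H] at h
  exact Nat.eq_of_mul_eq_mul_left (by norm_num) h

theorem Setup.pCore_eq : Cfsg.pCore 2 H = Q := by
  haveI : Fact (Nat.Prime 2) := ⟨Nat.prime_two⟩
  haveI := S.nN
  haveI := S.normal_M
  set R := Cfsg.pCore 2 H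
  haveI hRn : R.Normal := CfsgLib.Solvable.pCore_normal 2
  have hR : IsPGroup 2 R := CfsgLib.Solvable.isPGroup_pCore 2
  have hQR : Q ≤ R := CfsgLib.Solvable.le_pCore 2 S.nQ (IsPGroup.of_card S.cQ)
  haveI : IsSimpleGroup T22 := CfsgLib.J4Local.isSimple_m22
  have hnorm : ((R.subgroupOf M).map ρ).Normal := (normal_subgroupOf).map ρ S.surj
  have hp : IsPGroup 2 ↥((R.subgroupOf M).map ρ) :=
    (hR.comap_of_injective M.subtype M.subtype_injective).map ρ
  have hbot : (R.subgroupOf M).map ρ = ⊥ := by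
    refine (IsSimpleGroup.eq_bot_or_eq_top_of_normal _ hnorm).resolve_right fun e => ?_
    obtain ⟨k, hk⟩ := IsPGroup.iff_card.1 hp
    rw [e, card_top, CfsgLib.Golay.Cert.card_m22] at hk
    have h3 : 3 ∣ 2 ^ k := hk ▸ (by norm_num)
    have := Nat.Prime.dvd_of_dvd_pow Nat.prime_three h3
    omega
  have hRM : ∀ r ∈ R, r ∈ M → r ∈ N := fun r hr hrM => by
    rw [← S.rho_eq_one hrM]
    exact (mem_bot.1 (hbot ▸ mem_map_of_mem ρ (show (⟨r, hrM⟩ : ↥M) ∈ R.subgroupOf M from hr)))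
  have hRN : R ≤ N := fun r hr => by
    refine hRM r hr (S.out r fun m hm => hRM _ ?_ (mul_mem (S.conj_mem r hm) (inv_mem hm)))
    rw [show r * m * r⁻¹ * m⁻¹ = r * (m * r⁻¹ * m⁻¹) by group]
    exact mul_mem hr (hRn.conj_mem _ (inv_mem hr) m)
  obtain ⟨k, hk⟩ := IsPGroup.iff_card.1 hR
  symm
  refine Subgroup.eq_of_le_of_card_ge hQR ?_
  have h := card_dvd_of_le hRN
  rw [hk, S.cN] at h
  rw [S.cQ, hk]
  exact Nat.le_of_dvd (by norm_num) ((Nat.Coprime.pow_left k (by norm_num : Nat.Coprime 2 3)).dvd_of_dvd_mul_left h)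

/-- An element of order three of `N`, with normaliser supplementing `Q`. -/
theorem Setup.exists_p : ∃ p : H, p ∈ N ∧ orderOf p = 3 ∧
    (∀ h : H, ∃ k q : H, q ∈ Q ∧ k ∈ normalizer (zpowers p : Set H) ∧ h = k * q) ∧
    (∀ n ∈ N, ∃ i : ℤ, ∃ q ∈ Q, n = p ^ i * q) := by
  haveI : Fact (Nat.Prime 3) := ⟨Nat.prime_three⟩
  haveI := S.nQ
  haveI := S.nN
  obtain ⟨⟨p, hpN⟩, hp⟩ := exists_prime_orderOf_dvd_card' (G := ↥N) 3 (by rw [S.cN]; exact dvd_mul_right 3 _)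
  rw [orderOf_mk] at hp
  have hsup : zpowers p ⊔ Q = N := by
    refine CfsgLib.Solvable.eq_of_le_of_card_le (sup_le (zpowers_le.2 hpN) S.QN) ?_
    rw [CfsgLib.Solvable.card_sup_of_disjoint (le_normalizer_of_conj fun k _ x hx => S.nQ.conj_mem x hx k)
      (inf_eq_bot_of_coprime (by rw [Nat.card_zpowers, hp, S.cQ]; decide)), Nat.card_zpowers, hp, S.cQ, S.cN]
  have hdec : ∀ n ∈ N, ∃ i : ℤ, ∃ q ∈ Q, n = p ^ i * q := by
    intro n hn
    rw [← hsup] at hn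
    obtain ⟨_, ⟨i, rfl⟩, q, hq, rfl⟩ := mem_sup_of_normal_right.1 hn
    exact ⟨i, q, hq, rfl⟩
  refine ⟨p, hpN, hp, fun h => ?_, hdec⟩
  set P' := (zpowers p).subgroupOf N with hP'
  have hc : Nat.card P' = 3 := by
    rw [hP', Nat.card_congr (subgroupOfEquivOfLe (zpowers_le.2 hpN)).toEquiv, Nat.card_zpowers, hp]
  have hidx : P'.index = 2 ^ 13 := by
    have := P'.card_mul_index
    rw [hc, S.cN] at this
    omega
  let Sy : Sylow 3 ↥N := (IsPGroup.of_card (p := 3) (n := 1) (by rw [hc, pow_one])).toSylow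
    (by rw [hidx]; norm_num)
  have hfr := Sylow.normalizer_sup_eq_top Sy
  have hmap : (Sy : Subgroup ↥N).map N.subtype = zpowers p := map_subgroupOf_eq_of_le (zpowers_le.2 hpN)
  rw [hmap] at hfr
  have hfr' : normalizer (zpowers p : Set H) ⊔ Q = ⊤ := by
    rw [eq_top_iff, ← hfr, ← hsup]
    exact sup_le le_sup_left (sup_le (le_normalizer.trans le_sup_left) le_sup_right)
  obtain ⟨k, hk, q, hq, e⟩ := mem_sup_of_normal_right.1 (hfr' ▸ mem_top h : h ∈ normalizer (zpowers p : Set H) ⊔ Q)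
  exact ⟨k, q, hq, hk, e.symm⟩

theorem Setup.conj_p {p : H} (hp : orderOf p = 3) {k : H} (hk : k ∈ normalizer (zpowers p : Set H)) :
    k * p * k⁻¹ = p ∨ k * p * k⁻¹ = p⁻¹ := by
  have h1 : k * p * k⁻¹ ∈ zpowers p := (mem_normalizer_iff.1 hk p).1 (mem_zpowers p)
  classical
  have hp1 : p ≠ 1 := fun e => by rw [e, orderOf_one] at hp; omega
  rw [mem_zpowers_iff_mem_range_orderOf, hp] at h1
  simp only [Finset.mem_image, Finset.mem_range] at h1
  obtain ⟨n, hn, e⟩ := h1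
  interval_cases n
  · rw [pow_zero] at e
    exact absurd (conj_eq_one_iff.1 e.symm) hp1
  · exact Or.inl (by rw [← e, pow_one])
  · exact Or.inr (by rw [← e, eq_inv_iff_mul_eq_one, ← pow_succ, show 2 + 1 = orderOf p from hp.symm, pow_orderOf_eq_one])

theorem Setup.inf_zpowers {p : H} (hp : orderOf p = 3) {x : H} (hx : x ∈ zpowers p) (hxQ : x ∈ Q) : x = 1 := by
  have hd : zpowers p ⊓ Q = ⊥ := inf_eq_bot_of_coprime (by rw [Nat.card_zpowers, hp, S.cQ]; decide)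
  exact mem_bot.1 (hd ▸ ⟨hx, hxQ⟩)

/-- `M` is covered by `Q` and the centraliser of `p`. -/
theorem Setup.decompose {p : H} (hpN : p ∈ N) (hp : orderOf p = 3)
    (hfr : ∀ h : H, ∃ k q : H, q ∈ Q ∧ k ∈ normalizer (zpowers p : Set H) ∧ h = k * q) {m : H} (hm : m ∈ M) :
    ∃ k q : H, k ∈ M ⊓ centralizer ({p} : Set H) ∧ q ∈ Q ∧ m = k * q := by
  obtain ⟨k, q, hq, hk, rfl⟩ := hfr m
  have hkM : k ∈ M := (mul_mem_cancel_right (S.NM (S.QN hq))).1 hm
  refine ⟨k, q, mem_inf.2 ⟨hkM, mem_centralizer_singleton_iff.2 ?_⟩, hq, rfl⟩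
  rcases S.conj_p hp hk with h | h
  · exact mul_inv_eq_iff_eq_mul.1 h
  · exfalso
    have h1 : k * p * k⁻¹ * p⁻¹ ∈ Q := S.centN (commutator_mem_commutator hkM hpN)
    rw [h] at h1
    have h2 := S.inf_zpowers hp (mul_mem (inv_mem (mem_zpowers p)) (inv_mem (mem_zpowers p))) h1
    rw [← mul_inv_rev, inv_eq_one] at h2
    have := orderOf_dvd_of_pow_eq_one (show p ^ 2 = 1 by rw [pow_two]; exact h2)
    rw [hp] at this
    omega

end CfsgLib.J4Type
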