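import Cfsg.Agent.J4Type.Core

/-!
The element of order three of `N`: its centraliser in `Q`, the commutator subgroup and inversion.
-/

set_option autoImplicit false
set_option maxRecDepth 100000
set_option linter.style.haveILetI false
set_option linter.unusedSectionVars false

namespace CfsgLib.J4Type

open Subgroup CfsgLib.J4Local.FixMod
open scoped commutatorElement

variable {H : Type*} [Group H] [Finite H] {t : H} {Q N M : Subgroup H} {ρ : ↥M →* T22}
variable (S : Setup t Q N M ρ) {p : H} (hpN : p ∈ N) (hp : orderOf p = 3)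
  (hfr : ∀ h : H, ∃ k q : H, q ∈ Q ∧ k ∈ normalizer (zpowers p : Set H) ∧ h = k * q)
  (hdec : ∀ n ∈ N, ∃ i : ℤ, ∃ q ∈ Q, n = p ^ i * q)

include S hpN hp hfr hdec

theorem Setup.card_CP :
    Nat.card ↥(M ⊓ centralizer ({p} : Set H)) = 3 * 443520 * Nat.card ↥(M ⊓ centralizer ({p} : Set H) ⊓ Q) := by
  have hn : M ⊓ centralizer ({p} : Set H) ≤ normalizer (Q : Set H) :=
    le_normalizer_of_conj fun k _ x hx => S.nQ.conj_mem x hx k
  have hsup : M ⊓ centralizer ({p} : Set H) ⊔ Q = M := le_antisymm (sup_le inf_le_left (S.QN.trans S.NM))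
    fun m hm => by
      obtain ⟨k, q, hk, hq, rfl⟩ := S.decompose hpN hp hfr hm
      exact mul_mem_sup hk hq
  have h := CfsgLib.Solvable.card_sup_mul_card_inf hn
  rw [hsup, S.card_M, S.cQ] at h
  refine Nat.eq_of_mul_eq_mul_right (show 0 < 2 ^ 13 by norm_num) ?_
  rw [← h]
  generalize Nat.card ↥(M ⊓ centralizer ({p} : Set H) ⊓ Q) = c
  ring

/-- A subgroup of order 27 above `p`. -/
theorem Setup.exists_R {E : Subgroup T22} (hE : 9 ∣ Nat.card E) :
    ∃ R : Subgroup H, Nat.card R = 27 ∧ zpowers p ≤ R ∧ R ≤ M ⊓ centralizer ({p} : Set H) ∧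
      ¬ IsMulCommutative R ∧ ∀ r ∈ R, ∃ h : r ∈ M, ρ ⟨r, h⟩ ∈ E := by
  haveI : Fact (Nat.Prime 3) := ⟨Nat.prime_three⟩
  haveI := S.nQ
  set CP := M ⊓ centralizer ({p} : Set H) with hCP
  have hpM : p ∈ M := S.NM hpN
  set W := CP.subgroupOf M ⊓ E.comap ρ with hW
  have hmap : W.map ρ = E := by
    refine le_antisymm (map_le_iff_le_comap.2 inf_le_right) fun e he => ?_
    obtain ⟨⟨m, hm⟩, rfl⟩ := S.surj e
    obtain ⟨k, q, hk, hq, rfl⟩ := S.decompose hpN hp hfr hm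
    have hqM : q ∈ M := S.NM (S.QN hq)
    have e1 : ρ ⟨k * q, hm⟩ = ρ ⟨k, hk.1⟩ := by
      rw [show (⟨k * q, hm⟩ : ↥M) = ⟨k, hk.1⟩ * ⟨q, hqM⟩ from rfl, map_mul,
        (S.rho_eq_one hqM).2 (S.QN hq), mul_one]
    exact ⟨⟨k, hk.1⟩, ⟨hk, mem_comap.2 (e1 ▸ he)⟩, e1.symm⟩
  have hpW : (⟨p, hpM⟩ : ↥M) ∈ W ⊓ ρ.ker := by
    have h1 : ρ ⟨p, hpM⟩ = 1 := (S.rho_eq_one hpM).2 hpN
    refine ⟨⟨mem_inf.2 ⟨hpM, mem_centralizer_singleton_iff.2 rfl⟩, mem_comap.2 ?_⟩, MonoidHom.mem_ker.2 h1⟩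
    rw [h1]; exact one_mem _
  have h27 : 3 ^ 3 ∣ Nat.card W := by
    rw [← card_map_mul_card_inf_ker ρ W, hmap]
    refine (show 3 ^ 3 = 9 * 3 by norm_num) ▸ Nat.mul_dvd_mul hE ?_
    have := orderOf_dvd_natCard _ hpW
    rwa [orderOf_mk, hp] at this
  obtain ⟨K, hK, hle⟩ := Sylow.exists_subgroup_card_pow_prime_le 3 h27
    (zpowers (⟨⟨p, hpM⟩, hpW.1⟩ : ↥W)) (n := 1) (by rw [Nat.card_zpowers, orderOf_mk, orderOf_mk, hp, pow_one])
    (by norm_num)
  set R0 := K.map W.subtype with hR0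
  set R := R0.map M.subtype with hR
  have hRc : Nat.card R = 27 := by
    rw [hR, card_map_of_injective M.subtype_injective, hR0, card_map_of_injective W.subtype_injective, hK]
    norm_num
  have hR0W : R0 ≤ W := map_subtype_le K
  have hmem : ∀ r ∈ R, ∃ h : r ∈ M, (⟨r, h⟩ : ↥M) ∈ R0 := by
    rintro _ ⟨⟨r, hr⟩, hr0, rfl⟩; exact ⟨hr, hr0⟩
  have hRCP : R ≤ CP := fun r hr => by
    obtain ⟨_, h⟩ := hmem r hr
    exact (hR0W h).1
  refine ⟨R, hRc, zpowers_le.2 ⟨⟨p, hpM⟩, ⟨⟨⟨p, hpM⟩, hpW.1⟩, hle (mem_zpowers _), rfl⟩, rfl⟩, hRCP,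
    fun hab => ?_, fun r hr => ?_⟩
  swap
  · obtain ⟨h, h'⟩ := hmem r hr
    exact ⟨h, (hR0W h').2⟩
  set f := QuotientGroup.mk' (Q.subgroupOf M) with hf
  have hfc : Nat.card (R0.map f) = 27 := by
    have h := card_map_mul_card_inf_ker f R0
    have hR0c : Nat.card R0 = 27 := by rw [← hRc, hR, card_map_of_injective M.subtype_injective]
    have hd : R0 ⊓ f.ker = ⊥ := by
      rw [hf, QuotientGroup.ker_mk']
      refine inf_eq_bot_of_coprime ?_
      rw [hR0c, Nat.card_congr (subgroupOfEquivOfLe (S.QN.trans S.NM)).toEquiv, S.cQ]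
      decide
    rwa [hd, card_bot, mul_one, hR0c] at h
  have hab' : IsMulCommutative ↥(R0.map f) := by
    refine ⟨⟨fun a b => Subtype.ext ?_⟩⟩
    obtain ⟨a', ha, ea⟩ := mem_map.1 a.2
    obtain ⟨b', hb, eb⟩ := mem_map.1 b.2
    show (a : ↥M ⧸ Q.subgroupOf M) * b = b * a
    rw [← ea, ← eb, ← map_mul, ← map_mul]
    refine congrArg f (Subtype.ext ?_)
    exact congrArg (Subtype.val : ↥R → H) (hab.is_comm.comm (⟨a', a', ha, rfl⟩ : ↥R) ⟨b', b', hb, rfl⟩)
  set u := f ⟨p, hpM⟩ with hu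
  have hucen : ∀ g, g * u = u * g := by
    intro g
    obtain ⟨⟨m, hm⟩, rfl⟩ := QuotientGroup.mk'_surjective _ g
    rw [hu, ← hf, ← map_mul, ← map_mul, hf, QuotientGroup.mk'_apply, QuotientGroup.mk'_apply, QuotientGroup.eq,
      mem_subgroupOf]
    show (m * p)⁻¹ * (p * m) ∈ Q
    rw [show (m * p)⁻¹ * (p * m) = p⁻¹ * m⁻¹ * p⁻¹⁻¹ * m⁻¹⁻¹ by group]
    have := S.centN (commutator_mem_commutator (inv_mem hm) (inv_mem hpN))
    rw [commutatorElement_def] at this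
    simpa [mul_assoc] using inv_mem this
  have hucomm : u ∈ commutator (↥M ⧸ Q.subgroupOf M) := by
    have hpp := S.perf hpM
    rw [← map_subtype_commutator] at hpp
    obtain ⟨c, hc, q, hq, e⟩ := mem_sup_of_normal_right.1 hpp
    obtain ⟨c', hc', rfl⟩ := mem_map.1 hc
    have hu' : u = f c' := by
      rw [hu, hf, QuotientGroup.mk'_apply, QuotientGroup.mk'_apply, QuotientGroup.eq, mem_subgroupOf]
      show p⁻¹ * (c' : H) ∈ Q
      rw [← e, show ((M.subtype c') * q)⁻¹ * (c' : H) = q⁻¹ by rw [coe_subtype]; group]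
      exact inv_mem hq
    rw [hu', _root_.commutator_def]
    have h := mem_map_of_mem f hc'
    rw [_root_.commutator_def, map_commutator] at h
    exact commutator_mono le_top le_top h
  have hidx : (R0.map f).index = 49280 := by
    have h := (R0.map f).card_mul_index
    have hq := (Q.subgroupOf M).card_mul_index
    rw [S.card_M, Nat.card_congr (subgroupOfEquivOfLe (S.QN.trans S.NM)).toEquiv, S.cQ, index_eq_card] at hq
    rw [hfc, show Nat.card (↥M ⧸ Q.subgroupOf M) = 3 * 443520 by omega] at h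
    omega
  have hu1 : u = 1 := by
    refine eq_one_of_transfer (R0.map f) hab' hucen hucomm ?_
    rw [hidx]
    refine Nat.Coprime.coprime_dvd_left ?_ (by norm_num : Nat.Coprime 3 49280)
    refine orderOf_dvd_of_pow_eq_one ?_
    rw [hu, ← map_pow, show (⟨p, hpM⟩ : ↥M) ^ 3 = 1 from Subtype.ext (by
      show p ^ 3 = 1; rw [← hp, pow_orderOf_eq_one]), map_one]
  rw [hu, hf, QuotientGroup.mk'_apply, QuotientGroup.eq_one_iff, mem_subgroupOf] at hu1
  have := S.inf_zpowers hp (mem_zpowers p) hu1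
  rw [this, orderOf_one] at hp
  omega

/-- The element of order three fixes nothing on `Q` outside `⟨t⟩`. -/
theorem Setup.inf_centralizer : Q ⊓ centralizer ({p} : Set H) = zpowers t := by
  haveI : Fact (Nat.Prime 11) := ⟨by norm_num⟩
  set K := Q ⊓ centralizer ({p} : Set H) with hK
  obtain ⟨R, hRc, hPR, hRCP, hna, -⟩ := S.exists_R hpN hp hfr hdec (E := ⊤) (by
    rw [card_top, CfsgLib.Golay.Cert.card_m22]; norm_num)
  have hnK : ∀ g, g ∈ M ⊓ centralizer ({p} : Set H) → g ∈ normalizer (K : Set H) := fun g hg => by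
    refine le_normalizer_of_conj (K := M ⊓ centralizer ({p} : Set H)) (L := K) (fun k hk x hx => ?_) hg
    exact mem_inf.2 ⟨S.nQ.conj_mem x hx.1 k, mul_mem (mul_mem hk.2 hx.2) (inv_mem hk.2)⟩
  obtain ⟨k, hk, ek⟩ := (Nat.dvd_prime_pow Nat.prime_two).1 (S.cQ ▸ card_dvd_of_le (inf_le_left : K ≤ Q))
  have h9 := nine_dvd (K := K) (D := Q) hRc hPR (by rw [Nat.card_zpowers, hp]) hna
    (fun r hr q hq => by
      obtain ⟨i, rfl⟩ := hq
      exact ((show Commute r p from mem_centralizer_singleton_iff.1 (hRCP hr).2).zpow_right i).eq)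
    (fun r _ => le_normalizer_of_conj (K := ⊤) (fun g _ x hx => S.nQ.conj_mem x hx g) (mem_top r))
    (fun r hr => hnK r (hRCP hr)) inf_le_left
    (fun e he hc => mem_inf.2 ⟨he, mem_centralizer_singleton_iff.2 (hc p (mem_zpowers p)).symm⟩)
  rw [S.cQ, ek] at h9
  have hcases : k = 1 ∨ k = 7 ∨ k = 13 :=
    (by decide : ∀ k ≤ 13, 9 ∣ 2 ^ 13 - 2 ^ k → k = 1 ∨ k = 7 ∨ k = 13) k hk h9
  rcases hcases with rfl | rfl | rfl
  · refine (eq_of_le_of_card_ge (zpowers_le.2 (mem_inf.2 ⟨S.t_mem, mem_centralizer_singleton_iff.2 (S.cen p).symm⟩)) ?_).symm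
    rw [Nat.card_zpowers, S.ht, ek, pow_one]
  · exfalso
    have h11 : 11 ∣ Nat.card ↥(M ⊓ centralizer ({p} : Set H)) := by
      rw [S.card_CP hpN hp hfr hdec]
      exact dvd_mul_of_dvd_left (by norm_num) _
    obtain ⟨⟨x, hx⟩, hxo⟩ := exists_prime_orderOf_dvd_card' 11 h11
    rw [orderOf_mk] at hxo
    have hX : IsPGroup 11 ↥(zpowers x) := IsPGroup.of_card (n := 1) (by rw [Nat.card_zpowers, hxo, pow_one])
    have m1 := card_modEq_centralizer hX (zpowers_le.2 (hnK x hx))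
    have m2 := card_modEq_centralizer hX (D := Q)
      (fun r _ => le_normalizer_of_conj (K := ⊤) (fun g _ y hy => S.nQ.conj_mem y hy g) (mem_top r))
    obtain ⟨i, hi, ei⟩ := (Nat.dvd_prime_pow Nat.prime_two).1
      (ek ▸ card_dvd_of_le (inf_le_left : K ⊓ centralizer (zpowers x : Set H) ≤ K))
    obtain ⟨j, hj, ej⟩ := (Nat.dvd_prime_pow Nat.prime_two).1
      (S.cQ ▸ card_dvd_of_le (inf_le_left : Q ⊓ centralizer (zpowers x : Set H) ≤ Q))
    rw [ek, ei, Nat.ModEq] at m1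
    rw [S.cQ, ej, Nat.ModEq] at m2
    have hij : i ≤ j := (Nat.pow_le_pow_iff_right (by norm_num : 1 < 2)).1 (ei ▸ ej ▸
      card_le_of_le (inf_le_inf_right _ inf_le_left))
    have key : ∀ i ≤ 7, ∀ j ≤ 13, i ≤ j → 2 ^ 7 % 11 = 2 ^ i % 11 → 2 ^ 13 % 11 = 2 ^ j % 11 → j = 13 := by
      decide
    have hj13 := key i hi j hj hij m1 m2
    subst hj13
    have he := eq_of_le_of_card_ge (inf_le_left : Q ⊓ centralizer (zpowers x : Set H) ≤ Q) (by rw [S.cQ, ej])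
    have hxQ : x ∈ Q := S.self (mem_centralizer_iff.2 fun q hq =>
      (mem_centralizer_iff.1 (he.ge hq).2 x (mem_zpowers x)).symm)
    have h := orderOf_dvd_natCard _ hxQ
    rw [hxo, S.cQ] at h
    norm_num at h
  · exfalso
    have hKQ : K = Q := eq_of_le_of_card_ge inf_le_left (by rw [S.cQ, ek])
    have hpQ : p ∈ Q := S.self (mem_centralizer_iff.2 fun q hq =>
      mem_centralizer_singleton_iff.1 (hKQ.ge hq).2)
    have := S.inf_zpowers hp (mem_zpowers p) hpQ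
    rw [this, orderOf_one] at hp
    omega

theorem Setup.mem_commutator :
    p ∈ ⁅centralizer ({p} : Set H), centralizer ({p} : Set H)⁆ := by
  haveI := S.nQ
  set CP := M ⊓ centralizer ({p} : Set H) with hCP
  set f := QuotientGroup.mk' Q with hf
  have hfM : M.map f = CP.map f := by
    refine le_antisymm ?_ (map_mono inf_le_left)
    rintro _ ⟨m, hm, rfl⟩
    obtain ⟨k, q, hk, hq, rfl⟩ := S.decompose hpN hp hfr hm
    refine ⟨k, hk, ?_⟩
    rw [map_mul, show f q = 1 from (QuotientGroup.eq_one_iff q).2 hq, mul_one]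
  have hle : ⁅M, M⁆ ≤ ⁅CP, CP⁆ ⊔ Q := by
    have h : (⁅M, M⁆).map f = (⁅CP, CP⁆).map f := by rw [map_commutator, map_commutator, hfM]
    rw [show ⁅CP, CP⁆ ⊔ Q = ((⁅CP, CP⁆).map f).comap f by rw [comap_map_eq, hf, QuotientGroup.ker_mk'], ← h]
    exact le_comap_map f _
  have hpp : p ∈ ⁅CP, CP⁆ ⊔ Q := (S.perf.trans (sup_le hle le_sup_right)) (S.NM hpN)
  obtain ⟨c, hc, q, hq, e⟩ := mem_sup_of_normal_right.1 hpp
  have hle' : ⁅CP, CP⁆ ≤ ⁅centralizer ({p} : Set H), centralizer ({p} : Set H)⁆ :=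
    commutator_mono inf_le_right inf_le_right
  have hcC : c ∈ centralizer ({p} : Set H) := (commutator_le.2 fun a ha b hb =>
    mul_mem (mul_mem (mul_mem ha hb) (inv_mem ha)) (inv_mem hb)
      : ⁅centralizer ({p} : Set H), centralizer ({p} : Set H)⁆ ≤ centralizer ({p} : Set H)) (hle' hc)
  have hqt : q ∈ zpowers t := by
    rw [← S.inf_centralizer hpN hp hfr hdec]
    refine mem_inf.2 ⟨hq, ?_⟩
    rw [show q = c⁻¹ * p by rw [← e]; group]
    exact mul_mem (inv_mem hcC) (mem_centralizer_singleton_iff.2 rfl)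
  have hq4 : q⁻¹ ^ 4 = 1 := by
    refine orderOf_dvd_iff_pow_eq_one.1 (dvd_trans ?_ (by norm_num : 2 ∣ 4))
    rw [orderOf_inv]
    have := orderOf_dvd_natCard _ hqt
    rwa [Nat.card_zpowers, S.ht] at this
  have hpq : Commute p q⁻¹ := by
    refine Commute.inv_right ?_
    obtain ⟨i, rfl⟩ := hqt
    exact (show Commute p t from S.cen p).zpow_right i
  have hp4 : p ^ 4 = p := by
    rw [pow_succ, show 3 = orderOf p from hp.symm, pow_orderOf_eq_one, one_mul]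
  have h4 : c ^ 4 = p := by
    rw [show c = p * q⁻¹ by rw [← e]; group, hpq.mul_pow, hq4, mul_one, hp4]
  have := pow_mem (hle' hc) 4
  rwa [h4] at this

/-- Some element of the group inverts `p`. -/
theorem Setup.exists_inv : ∃ h : H, h * p * h⁻¹ = p⁻¹ := by
  haveI : Fact (Nat.Prime 3) := ⟨Nat.prime_three⟩
  by_contra hno
  push Not at hno
  obtain ⟨x, y, α, hx, hy, hxy, hyx, hαx, hαy⟩ := exists_det
  obtain ⟨Φ, hΦ, hker, happ⟩ := S.exists_act
  set E : Subgroup T22 := closure {x, y} with hE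
  have hxE : x ∈ E := subset_closure (Or.inl rfl)
  have hyE : y ∈ E := subset_closure (Or.inr rfl)
  have hE9 : 9 ∣ Nat.card E := by
    have hn : zpowers x ≤ normalizer (zpowers y : Set T22) := zpowers_le.2 (centralizer_le_normalizer _ (by
      rintro _ ⟨i, rfl⟩
      exact ((show Commute y x from hxy.symm).zpow_left i).eq))
    have hd : zpowers x ⊓ zpowers y = ⊥ := by
      by_contra hne
      have h3 : Nat.card ↥(zpowers x ⊓ zpowers y) = 3 := by
        have h := card_dvd_of_le (inf_le_right : zpowers x ⊓ zpowers y ≤ zpowers y)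
        rw [Nat.card_zpowers, hy] at h
        exact ((Nat.dvd_prime Nat.prime_three).1 h).resolve_left fun h1 => hne (eq_bot_of_card_eq _ h1)
      have he : zpowers x ⊓ zpowers y = zpowers y :=
        eq_of_le_of_card_ge inf_le_right (by rw [h3, Nat.card_zpowers, hy])
      exact hyx ((he.ge (mem_zpowers y)).1)
    refine dvd_trans (dvd_of_eq ?_) (card_dvd_of_le (sup_le (zpowers_le.2 hxE) (zpowers_le.2 hyE)))
    rw [CfsgLib.Solvable.card_sup_of_disjoint hn hd, Nat.card_zpowers, Nat.card_zpowers, hx, hy]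
  obtain ⟨R, hRc, -, hRCP, hna, hRE⟩ := S.exists_R hpN hp hfr hdec hE9
  set CP := M ⊓ centralizer ({p} : Set H) with hCP
  obtain ⟨c0, hc0⟩ := hΦ α
  obtain ⟨c, q0, hq0, hc, rfl⟩ := hfr c0
  have hcp : c * p = p * c := mul_inv_eq_iff_eq_mul.1 ((S.conj_p hp hc).resolve_right (hno c))
  have hΦc : Φ c = α := by
    rw [← hc0, map_mul, MonoidHom.mem_ker.1 (show q0 ∈ Φ.ker from hker.symm ▸ S.QN hq0), mul_one]
  have lift : ∀ e : T22, ∃ k, ∃ hk : k ∈ CP, ρ ⟨k, hk.1⟩ = e := by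
    intro e
    obtain ⟨⟨m, hm⟩, rfl⟩ := S.surj e
    obtain ⟨k, q, hk, hq, rfl⟩ := S.decompose hpN hp hfr hm
    refine ⟨k, hk, ?_⟩
    rw [show (⟨k * q, hm⟩ : ↥M) = ⟨k, hk.1⟩ * ⟨q, S.NM (S.QN hq)⟩ from rfl, map_mul,
      (S.rho_eq_one (S.NM (S.QN hq))).2 (S.QN hq), mul_one]
  obtain ⟨X, hX, eX⟩ := lift x
  obtain ⟨Y, hY, eY⟩ := lift y
  -- the kernel in the centraliser
  have hZ : ∀ n ∈ N, n * p = p * n → ∃ i : ℤ, ∃ j ∈ zpowers t, n = p ^ i * j := by
    intro n hn hc'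
    obtain ⟨i, q, hq, rfl⟩ := hdec n hn
    refine ⟨i, q, ?_, rfl⟩
    rw [← S.inf_centralizer hpN hp hfr hdec]
    refine mem_inf.2 ⟨hq, ?_⟩
    rw [show q = (p ^ i)⁻¹ * (p ^ i * q) by group]
    exact mul_mem (inv_mem (zpow_mem (mem_centralizer_singleton_iff.2 rfl) i))
      (mem_centralizer_singleton_iff.2 hc')
  have hZc : ∀ n ∈ N, n * p = p * n → ∀ k, k * p = p * k → n * k = k * n := by
    intro n hn hc' k hk
    obtain ⟨i, j, hj, rfl⟩ := hZ n hn hc'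
    obtain ⟨l, rfl⟩ := hj
    have h1 : Commute (p ^ i) k := (show Commute p k from hk.symm).zpow_left i
    have h2 : Commute (t ^ l) k := (show Commute t k from (S.cen k).symm).zpow_left l
    exact (h1.mul_left h2).eq
  have hsame : ∀ a b : H, ∀ ha : a ∈ CP, ∀ hb : b ∈ CP, ρ ⟨a, ha.1⟩ = ρ ⟨b, hb.1⟩ →
      ∃ n ∈ N, n * p = p * n ∧ a = b * n := by
    intro a b ha hb e
    refine ⟨b⁻¹ * a, ?_, mem_centralizer_singleton_iff.1 (mul_mem (inv_mem hb.2) ha.2), by group⟩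
    rw [← S.rho_eq_one (mul_mem (inv_mem hb.1) ha.1), show (⟨b⁻¹ * a, _⟩ : ↥M) = ⟨b, hb.1⟩⁻¹ * ⟨a, ha.1⟩ from rfl,
      map_mul, map_inv, e, inv_mul_cancel]
  have conjCP : ∀ a ∈ CP, c * a * c⁻¹ ∈ CP := fun a ha => mem_inf.2 ⟨S.conj_mem c ha.1,
    mul_mem (mul_mem (mem_centralizer_singleton_iff.2 hcp) ha.2) (inv_mem (mem_centralizer_singleton_iff.2 hcp))⟩
  obtain ⟨n1, hn1, hn1p, eX'⟩ := hsame (c * X * c⁻¹) X (conjCP X hX) hX (by
    rw [← happ c X hX.1, eX, hΦc, hαx])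
  obtain ⟨n2, hn2, hn2p, eY'⟩ := hsame (c * Y * c⁻¹) Y⁻¹ (conjCP Y hY) (inv_mem hY) (by
    rw [← happ c Y hY.1, eY, hΦc, hαy, ← eY, ← map_inv]
    rfl)
  set w := X * Y * X⁻¹ * Y⁻¹ with hw
  have hwN : w ∈ N := by
    rw [← S.rho_eq_one (mul_mem (mul_mem (mul_mem hX.1 hY.1) (inv_mem hX.1)) (inv_mem hY.1)),
      show (⟨w, _⟩ : ↥M) = ⟨X, hX.1⟩ * ⟨Y, hY.1⟩ * ⟨X, hX.1⟩⁻¹ * ⟨Y, hY.1⟩⁻¹ from rfl,
      map_mul, map_mul, map_mul, map_inv, map_inv, eX, eY, hxy, mul_inv_cancel_right, mul_inv_cancel]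
  have hwp : w * p = p * w := mem_centralizer_singleton_iff.1
    (mul_mem (mul_mem (mul_mem hX.2 hY.2) (inv_mem hX.2)) (inv_mem hY.2))
  have hXp : X * p = p * X := mem_centralizer_singleton_iff.1 hX.2
  have hYp : Y * p = p * Y := mem_centralizer_singleton_iff.1 hY.2
  have hYip : Y⁻¹ * p = p * Y⁻¹ := (show Commute Y p from hYp).inv_left.eq
  have hww : w * w = 1 := by
    have h1 : c * w * c⁻¹ = w := by rw [← hZc w hwN hwp c hcp, mul_inv_cancel_right]
    have h2 : c * w * c⁻¹ = (X * n1) * (Y⁻¹ * n2) * (X * n1)⁻¹ * (Y⁻¹ * n2)⁻¹ := by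
      rw [← eX', ← eY', hw]; group
    have c1 : ∀ k, k * p = p * k → n1 * k = k * n1 := hZc n1 hn1 hn1p
    have c2 : ∀ k, k * p = p * k → n2 * k = k * n2 := hZc n2 hn2 hn2p
    have h3 : (X * n1) * (Y⁻¹ * n2) * (X * n1)⁻¹ * (Y⁻¹ * n2)⁻¹ = Y⁻¹ * (w⁻¹ * Y) := by
      calc (X * n1) * (Y⁻¹ * n2) * (X * n1)⁻¹ * (Y⁻¹ * n2)⁻¹
          = X * (n1 * Y⁻¹) * (n2 * n1⁻¹) * X⁻¹ * n2⁻¹ * Y := by group
        _ = X * Y⁻¹ * (n1 * n2) * n1⁻¹ * X⁻¹ * n2⁻¹ * Y := by rw [c1 Y⁻¹ hYip]; group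
        _ = X * Y⁻¹ * (n2 * X⁻¹) * n2⁻¹ * Y := by rw [c1 n2 hn2p]; group
        _ = X * Y⁻¹ * X⁻¹ * Y := by rw [c2 X⁻¹ (show Commute X p from hXp).inv_left.eq]; group
        _ = Y⁻¹ * (w⁻¹ * Y) := by rw [hw]; group
    have hwinv : w⁻¹ * Y = Y * w⁻¹ :=
      hZc w⁻¹ (inv_mem hwN) (show Commute w p from hwp).inv_left.eq Y hYp
    rw [h2, h3, hwinv, inv_mul_cancel_left] at h1
    conv_lhs => arg 1; rw [← h1]
    exact inv_mul_cancel w
  have hwt : w ∈ zpowers t := by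
    obtain ⟨i, j, hj, e⟩ := hZ w hwN hwp
    have hj2 : j * j = 1 := by
      obtain ⟨l, rfl⟩ := hj
      rw [← zpow_add, ← two_mul, zpow_mul, zpow_ofNat, ← S.ht, pow_orderOf_eq_one, one_zpow]
    have hc' : Commute (p ^ i) j := by
      obtain ⟨l, rfl⟩ := hj
      exact (show Commute p t from S.cen p).zpow_zpow i l
    rw [e] at hww
    have h : p ^ i * p ^ i = 1 := by
      rw [show p ^ i * j * (p ^ i * j) = p ^ i * (j * p ^ i) * j by group, ← hc'.eq,
        show p ^ i * (p ^ i * j) * j = p ^ i * p ^ i * (j * j) by group, hj2, mul_one] at hww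
      exact hww
    have h1 : p ^ i = 1 := by
      have h3 : (p ^ i) ^ 3 = 1 := by
        rw [← zpow_natCast, ← zpow_mul, mul_comm, zpow_mul, zpow_natCast, ← hp, pow_orderOf_eq_one, one_zpow]
      rwa [pow_succ, pow_two, h, one_mul] at h3
    rw [e, h1, one_mul]
    exact hj
  -- so the subgroup of order 27 is abelian
  refine hna ⟨⟨fun a b => ?_⟩⟩
  haveI hZn : (zpowers t).Normal := ⟨fun n hn g => by
    obtain ⟨l, rfl⟩ := hn
    rw [show g * t ^ l = t ^ l * g from ((show Commute g t from S.cen g).zpow_right l).eq, mul_inv_cancel_right]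
    exact ⟨l, rfl⟩⟩
  set f := QuotientGroup.mk' (zpowers t) with hf
  set Λ := closure ({X, Y} : Set H) with hΛ
  have hfXY : f X * f Y = f Y * f X := by
    rw [← mul_inv_eq_iff_eq_mul, ← mul_inv_eq_one, ← map_mul, ← map_inv, ← map_mul, ← map_inv, ← map_mul]
    exact (QuotientGroup.eq_one_iff _).2 hwt
  have hΛcomm : ∀ u ∈ Λ, ∀ v ∈ Λ, f u * f v = f v * f u := by
    have hgen : ({f X, f Y} : Set (H ⧸ zpowers t)) ⊆ centralizer ({f X, f Y} : Set (H ⧸ zpowers t)) := by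
      rintro g (rfl | rfl) <;> refine mem_centralizer_iff.2 ?_ <;> rintro g' (rfl | rfl)
      exacts [rfl, hfXY.symm, hfXY, rfl]
    have hle := (closure_le _).2 hgen
    rw [← centralizer_closure] at hle
    intro u hu v hv
    have hmap : Λ.map f = closure {f X, f Y} := by rw [hΛ, MonoidHom.map_closure, Set.image_pair]
    exact (mem_centralizer_iff.1 (hle (hmap ▸ mem_map_of_mem f hv)) _ (hmap ▸ mem_map_of_mem f hu))
  have hΛρ : ∀ e ∈ E, ∃ l ∈ Λ, ∃ hl : l ∈ CP, ρ ⟨l, hl.1⟩ = e := by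
    intro e he
    have hmap : (Λ.subgroupOf M).map ρ = E := by
      have hΛM : Λ ≤ M := (closure_le _).2 (by rintro g (rfl | rfl); exacts [hX.1, hY.1])
      have : Λ.subgroupOf M = Subgroup.closure ({(⟨X, hX.1⟩ : ↥M), ⟨Y, hY.1⟩} : Set ↥M) := by
        refine map_injective M.subtype_injective ?_
        rw [map_subgroupOf_eq_of_le hΛM, MonoidHom.map_closure, Set.image_pair]
        rfl
      rw [this, MonoidHom.map_closure, Set.image_pair, eX, eY]
    obtain ⟨⟨l, hlM⟩, hl, e'⟩ := mem_map.1 (hmap.ge he)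
    have hlC : l ∈ centralizer ({p} : Set H) :=
      ((closure_le _).2 (by rintro g (rfl | rfl); exacts [hX.2, hY.2]) : Λ ≤ centralizer ({p} : Set H)) hl
    exact ⟨l, hl, mem_inf.2 ⟨hlM, hlC⟩, e'⟩
  have dec : ∀ r ∈ R, ∃ l ∈ Λ, ∃ n, l ∈ CP ∧ n ∈ N ∧ n * p = p * n ∧ r = l * n := by
    intro r hr
    obtain ⟨_, hrE⟩ := hRE r hr
    obtain ⟨l, hl, hlC, e⟩ := hΛρ _ hrE
    obtain ⟨n, hn, hnp, en⟩ := hsame r l (hRCP hr) hlC e.symm
    exact ⟨l, hl, n, hlC, hn, hnp, en⟩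
  obtain ⟨l, hl, n, hlC, hn, hnp, ea⟩ := dec a a.2
  obtain ⟨l', hl', n', hlC', hn', hnp', eb⟩ := dec b b.2
  have hfn : ∀ n ∈ N, n * p = p * n → ∀ k ∈ CP, f n * f k = f k * f n := fun n hn hnp k hk => by
    rw [← map_mul, ← map_mul, hZc n hn hnp k (mem_centralizer_singleton_iff.1 hk.2)]
  have hnCP : n' ∈ CP := mem_inf.2 ⟨S.NM hn', mem_centralizer_singleton_iff.2 hnp'⟩
  have key : f (a : H) * f b = f b * f a := by
    rw [ea, eb, map_mul, map_mul]
    have e1 := hfn n hn hnp l' hlC'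
    have e2 := hfn n' hn' hnp' l hlC
    have e3 := hfn n hn hnp n' hnCP
    have e4 := hΛcomm l hl l' hl'
    calc f l * f n * (f l' * f n') = f l * (f n * f l') * f n' := by group
      _ = f l * f l' * (f n * f n') := by rw [e1]; group
      _ = f l' * f l * (f n' * f n) := by rw [e4, e3]
      _ = f l' * (f l * f n') * f n := by group
      _ = f l' * f n' * (f l * f n) := by rw [← e2]; group
  rw [← map_mul, ← map_mul, hf, QuotientGroup.mk'_apply, QuotientGroup.mk'_apply, QuotientGroup.eq] at key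
  have hkR : (((a : H) * b)⁻¹ * (b * a)) ∈ R := mul_mem (inv_mem (mul_mem a.2 b.2)) (mul_mem b.2 a.2)
  have hd : R ⊓ zpowers t = ⊥ := inf_eq_bot_of_coprime (by rw [hRc, Nat.card_zpowers, S.ht]; decide)
  have h1 : ((a : H) * b)⁻¹ * (b * a) = 1 := mem_bot.1 (hd ▸ ⟨hkR, key⟩)
  exact Subtype.ext (inv_mul_eq_one.1 h1)

end CfsgLib.J4Type
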