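import Cfsg.Prelude.Def_Spor_J4
import Cfsg.Prelude.Def_Sporadic

/-!
A group of the order of the fourth Janko group with elements satisfying the presentation is isomorphic to
the presented group, once the presented group is known to be simple of that order.
-/

set_option autoImplicit false

namespace CfsgLib.J4Type

open Cfsg Cfsg.Spor

/-- The assignment of the three generators. -/
def gens3 {G : Type*} (X Y T : G) : J4.Gen → G
  | .x => X
  | .y => Y
  | .t => T

theorem iso_of_relators {G : Type*} [Group G] [Finite G] (hJ4 : IsJ4 Spor.J4)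
    (hG : Nat.card G = 86775571046077562880) (X Y T : G)
    (hrel : ∀ r ∈ J4.extra, FreeGroup.lift (gens3 X Y T) r = 1) (hne : X ≠ 1 ∨ Y ≠ 1 ∨ T ≠ 1) :
    Spor.IsoJ4 G := by
  obtain ⟨hsimple, hcard⟩ := hJ4
  haveI : Finite Spor.J4 := Nat.finite_of_card_ne_zero (by rw [hcard]; norm_num)
  have hrels : ∀ r ∈ coxRelators J4.edges ∪ {r | r ∈ J4.extra}, FreeGroup.lift (gens3 X Y T) r = 1 := by
    rintro r (⟨a, ha, -⟩ | hr)
    · simp [J4.edges, coxNodes] at ha
    · exact hrel r hr
  let φ : Spor.J4 →* G := PresentedGroup.toGroup hrels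
  have hinj : Function.Injective φ := by
    rw [← MonoidHom.ker_eq_bot_iff]
    refine (hsimple.eq_bot_or_eq_top_of_normal φ.ker φ.normal_ker).resolve_right fun htop => ?_
    have h1 : ∀ s : J4.Gen, gens3 X Y T s = 1 := fun s => by
      rw [← PresentedGroup.toGroup.of (h := hrels) (x := s)]
      exact MonoidHom.mem_ker.1 (htop.ge (Subgroup.mem_top _))
    rcases hne with h | h | h
    exacts [h (h1 .x), h (h1 .y), h (h1 .t)]
  exact ⟨(MulEquiv.ofBijective φ ((Nat.bijective_iff_injective_and_card φ).2 ⟨hinj, hcard.trans hG.symm⟩)).symm⟩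

end CfsgLib.J4Type
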