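import Cfsg.Agent.J4Local.Esplit

/-!
Janko-four type, the second long relator: facts inside the centraliser of one involution `z` with
its extraspecial subgroup of order `2 ^ 13` and the element `d` of order three.
-/

set_option autoImplicit false

namespace CfsgLib.J4Type.RTwo

open Subgroup
open CfsgLib.J4Local CfsgLib.Extra2

variable {G : Type*} [Group G] [Finite G] {z d : G}
  (hJ : Cfsg.IsOfJankoFourTypeWith z (zpowers d))

include hJ

omit [Finite G] in
theorem d_pow : d ^ 3 = 1 := by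
  have h := card_P hJ
  rw [Nat.card_zpowers] at h
  rw [← h]; exact pow_orderOf_eq_one d

omit [Finite G] in
theorem d_sq_ne : d * d ≠ 1 := fun h => by
  have h2 := card_P hJ
  rw [Nat.card_zpowers] at h2
  have := Nat.le_of_dvd two_pos (orderOf_dvd_of_pow_eq_one (x := d) (n := 2) (by rw [pow_two, h]))
  omega

theorem norm_E {h x : G} (hh : h ∈ cH z) (hx : x ∈ cE z) : h * x * h⁻¹ ∈ cE z :=
  conj_mem_E (mem_cH.1 hh) hx

omit [Finite G] in
theorem d_mem : d ∈ cH z := P_le_H hJ (mem_zpowers d)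

/-- An element of the centraliser acts on `d` modulo `E` as `1` or `-1`. -/
def Sgn (z d x : G) (s : ℤ) : Prop := x * d * x⁻¹ * (d ^ s)⁻¹ ∈ cE z

theorem d_notMem : d ∉ cE z := fun h => by
  have hc : d ∈ cE z ⊓ centralizer ((zpowers d : Subgroup G) : Set G) := by
    refine ⟨h, mem_centralizer_iff.2 fun g hg => ?_⟩
    obtain ⟨k, rfl⟩ := hg
    exact (Commute.zpow_self d k).eq
  rw [E_inf_centralizer hJ] at hc
  rcases (Extra2.mem_zpowers_iff (z_mul_self hJ)).1 hc with e | e
  · exact d_sq_ne hJ (by rw [e, one_mul])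
  · exact d_sq_ne hJ (by rw [e, z_mul_self hJ])

/-- The signs are unique. -/
theorem sgn_unique {x : G} (h : Sgn z d x 1) : ¬ Sgn z d x (-1) := fun h' => by
  rw [Sgn, zpow_one] at h
  rw [Sgn, zpow_neg, zpow_one, inv_inv] at h'
  have h2 : (x * d * x⁻¹ * d⁻¹)⁻¹ * (x * d * x⁻¹ * d) ∈ cE z := mul_mem (inv_mem h) h'
  rw [show (x * d * x⁻¹ * d⁻¹)⁻¹ * (x * d * x⁻¹ * d) = d * d by
    rw [mul_inv_rev, inv_inv, mul_assoc, ← mul_assoc (x * d * x⁻¹)⁻¹, inv_mul_cancel, one_mul]] at h2
  refine d_notMem hJ ?_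
  have h3 := mul_mem h2 h2
  rwa [show d * d * (d * d) = d ^ 3 * d by simp [pow_succ, mul_assoc], d_pow hJ, one_mul] at h3

theorem sgn_exists {x : G} (hx : x ∈ cH z) : Sgn z d x 1 ∨ Sgn z d x (-1) := by
  rw [H_eq hJ] at hx
  obtain ⟨a, ha, e, he, rfl⟩ :=
    (CfsgLib.Solvable.mem_sup_of_le_normalizer (inf_le_left.trans H_le_normalizer_E)).mp hx
  have hm : a * d * a⁻¹ ∈ zpowers d := (mem_normalizer_iff.1 ha.2 d).1 (mem_zpowers d)
  have hae : a ∈ cH z := ha.1
  have hde : d * e⁻¹ * d⁻¹ ∈ cE z := norm_E hJ (d_mem hJ) (inv_mem he)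
  have key : a * e * d * (a * e)⁻¹ * (a * d * a⁻¹)⁻¹ ∈ cE z := by
    rw [show a * e * d * (a * e)⁻¹ * (a * d * a⁻¹)⁻¹ = a * (e * (d * e⁻¹ * d⁻¹)) * a⁻¹ by group]
    exact norm_E hJ hae (mul_mem he hde)
  obtain ⟨k, hk, hkd⟩ : ∃ k < 3, a * d * a⁻¹ = d ^ k := by
    obtain ⟨k, hk⟩ := mem_zpowers_iff.1 hm
    refine ⟨(k % 3).toNat, by omega, ?_⟩
    rw [← hk, ← zpow_natCast, Int.toNat_of_nonneg (Int.emod_nonneg _ (by norm_num))]
    conv_lhs => rw [← Int.mul_ediv_add_emod k 3, zpow_add, zpow_mul,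
      show d ^ (3 : ℤ) = 1 from by exact_mod_cast d_pow hJ, one_zpow, one_mul]
  interval_cases k
  · exfalso
    rw [pow_zero] at hkd
    have : d = 1 := by rwa [conj_eq_one_iff] at hkd
    exact d_sq_ne hJ (by rw [this, one_mul])
  · left
    rw [Sgn, zpow_one]
    rw [pow_one] at hkd
    rwa [hkd] at key
  · right
    rw [Sgn, zpow_neg, zpow_one, inv_inv]
    rw [hkd, pow_two] at key
    rwa [show (d * d)⁻¹ = d from inv_eq_of_mul_eq_one_right (by
      rw [← pow_three', d_pow hJ])] at key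

theorem sgn_mul {x y : G} {s t : ℤ} (hx : x ∈ cH z) (hsx : Sgn z d x s) (hty : Sgn z d y t) :
    Sgn z d (x * y) (s * t) := by
  unfold Sgn at *
  have h1 : x * (y * d * y⁻¹ * (d ^ t)⁻¹) * x⁻¹ ∈ cE z := norm_E hJ hx hty
  have h2 : x * d ^ t * x⁻¹ * (d ^ (s * t))⁻¹ ∈ cE z := by
    have h3 : ∀ n : ℕ, (x * d * x⁻¹) ^ n * ((d ^ s) ^ n)⁻¹ ∈ cE z := by
      intro n
      induction n with
      | zero => simp
      | succ n ih =>
        have hc : (d ^ s) ^ n ∈ cH z := pow_mem (zpow_mem (d_mem hJ) _) _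
        rw [show (x * d * x⁻¹) ^ (n + 1) * ((d ^ s) ^ (n + 1))⁻¹ =
          ((x * d * x⁻¹) ^ n * ((d ^ s) ^ n)⁻¹) *
            ((d ^ s) ^ n * (x * d * x⁻¹ * (d ^ s)⁻¹) * ((d ^ s) ^ n)⁻¹) by
            rw [pow_succ (x * d * x⁻¹), pow_succ (d ^ s)]; group]
        exact mul_mem ih (norm_E hJ hc hsx)
    have h4 : ∀ n : ℤ, (x * d * x⁻¹) ^ n * ((d ^ s) ^ n)⁻¹ ∈ cE z := by
      intro n
      obtain ⟨m, rfl | rfl⟩ := Int.eq_nat_or_neg n
      · simpa using h3 m
      · have hc : (d ^ s) ^ m ∈ cH z := pow_mem (zpow_mem (d_mem hJ) _) _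
        have := norm_E hJ (inv_mem hc) (inv_mem (h3 m))
        rw [zpow_neg, zpow_natCast, zpow_neg, zpow_natCast]
        simpa [mul_assoc] using this
    have := h4 t
    rwa [conj_zpow, ← zpow_mul] at this
  have := mul_mem h1 h2
  rwa [show x * (y * d * y⁻¹ * (d ^ t)⁻¹) * x⁻¹ * (x * d ^ t * x⁻¹ * (d ^ (s * t))⁻¹) =
    x * y * d * (x * y)⁻¹ * (d ^ (s * t))⁻¹ by group] at this

theorem sgn_one : Sgn z d 1 1 := by
  rw [Sgn, zpow_one]; simp

theorem sgn_conj {g x : G} (hg : g ∈ cH z) (hx : x ∈ cH z) {s : ℤ} (h : Sgn z d x s) :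
    Sgn z d (g * x * g⁻¹) s := by
  rcases sgn_exists hJ hg with a | a <;> rcases sgn_exists hJ (inv_mem hg) with b | b
  all_goals
    have hm := sgn_mul hJ hg a b
    rw [mul_inv_cancel] at hm
    have := sgn_mul hJ (mul_mem hg hx) (sgn_mul hJ hg a h) b
    first
      | simpa using this
      | exact absurd (by simpa using hm) (sgn_unique hJ (sgn_one hJ))

/-- If an element is, twice over, the product of two of its conjugates, it fixes `d` modulo `E`. -/
theorem inner_of_triple {t g h : G} (ht : t ∈ cH z) (hg : g ∈ cH z) (hh : h ∈ cH z)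
    (e : t * (g * t * g⁻¹) = h * t * h⁻¹) : Sgn z d t 1 := by
  rcases sgn_exists hJ ht with a | a
  · exact a
  exfalso
  have b := sgn_mul hJ ht a (sgn_conj hJ hg ht a)
  rw [e] at b
  have c := sgn_conj hJ hh ht a
  exact sgn_unique hJ (by simpa using b) c

/-- An involution fixing `d` modulo `E` differs from its `d`-conjugate by an element of `E`. -/
theorem mul_conj_mem {t : G} (ht2 : t * t = 1) (h : Sgn z d t 1) : t * (d * t * d⁻¹) ∈ cE z := by
  rw [Sgn, zpow_one, inv_eq_of_mul_eq_one_right ht2] at h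
  simpa [mul_assoc] using h

/-- An involution times its commuting `d`-conjugate lies in `E`. -/
theorem pair_mem {r : G} (hr : r ∈ cH z) (hr2 : r * r = 1)
    (hc : r * (d * r * d⁻¹) = d * r * d⁻¹ * r) : r * (d * r * d⁻¹) ∈ cE z := by
  rcases sgn_exists hJ hr with a | a
  · exact mul_conj_mem hJ hr2 a
  exfalso
  rw [Sgn, zpow_neg, zpow_one, inv_inv, inv_eq_of_mul_eq_one_right hr2] at a
  -- `x = r * d r d⁻¹` squares to one and is `d` modulo `E`
  have hx : r * (d * r * d⁻¹) * (r * (d * r * d⁻¹)) = 1 := by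
    calc r * (d * r * d⁻¹) * (r * (d * r * d⁻¹))
        = r * (d * r * d⁻¹) * (d * r * d⁻¹ * r) := by rw [← hc]
      _ = r * (d * (r * r) * d⁻¹) * r := by group
      _ = 1 := by rw [hr2, mul_one, mul_inv_cancel, mul_one, hr2]
  have hd1 : d ∈ cH z := d_mem hJ
  have h1 : r * (d * r * d⁻¹) * d⁻¹ ∈ cE z := by
    rw [show r * (d * r * d⁻¹) * d⁻¹ = r * d * r * d * (d ^ 3)⁻¹ by group, d_pow hJ, inv_one, mul_one]
    exact a
  obtain ⟨e, he, hxe⟩ : ∃ e ∈ cE z, r * (d * r * d⁻¹) = e * d := ⟨_, h1, by group⟩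
  rw [hxe] at hx
  have h2 : e * (d * e * d⁻¹) * (d * d) = 1 := by rw [← hx]; group
  have h3 : d * d ∈ cE z := by
    rw [eq_inv_of_mul_eq_one_right h2]
    exact inv_mem (mul_mem he (norm_E hJ hd1 he))
  refine d_notMem hJ ?_
  have := mul_mem h3 h3
  rwa [show d * d * (d * d) = d ^ 3 * d by simp [pow_succ, mul_assoc], d_pow hJ, one_mul] at this

theorem gen_E : Gen (cE z) z := gen_split hJ

/-- An element centralising `E` modulo `⟨z⟩` lies in `E`. -/
theorem mem_E_of_central_mod {x : G} (hx : x ∈ cH z)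
    (h : ∀ e ∈ cE z, x * e * x⁻¹ = e ∨ x * e * x⁻¹ = e * z) : x ∈ cE z := by
  classical
  have hQ := gen_E hJ
  have hself : ∀ y ∈ cH z, (∀ e ∈ cE z, y * e = e * y) → y ∈ cE z := fun y hy hc =>
    centralizer_E_le hJ ⟨hy, mem_centralizer_iff.2 fun e he => (hc e he).symm⟩
  let K : Subgroup G := cE z ⊓ centralizer ({x} : Set G)
  by_cases hall : ∀ e ∈ cE z, x * e = e * x
  · exact hself x hx hall
  push Not at hall
  obtain ⟨e₀, he₀, hne₀⟩ := hall
  have hmem : ∀ e ∈ cE z, e ∈ K ↔ x * e * x⁻¹ = e := fun e he => by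
    rw [mem_inf, and_iff_right he, mem_centralizer_singleton_iff, mul_inv_eq_iff_eq_mul, eq_comm]
  have hzK : z ∈ K := ⟨hQ.mem, mem_centralizer_singleton_iff.2 (mem_cH.1 hx).symm⟩
  have h0 : x * e₀ * x⁻¹ = e₀ * z :=
    (h e₀ he₀).resolve_left fun a => hne₀ (mul_inv_eq_iff_eq_mul.1 a)
  have hne : K ≠ cE z := fun e => hne₀ (mul_inv_eq_iff_eq_mul.1 ((hmem e₀ he₀).1 (e ▸ he₀)))
  have hcard := card_mul_card_centralizer hQ (R := K) hzK inf_le_left
  have hlt : Nat.card K < Nat.card (cE z) :=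
    lt_of_not_ge fun hge => hne (Subgroup.eq_of_le_of_card_ge inf_le_left hge)
  obtain ⟨q, hq, hq1, hqz⟩ :
      ∃ q ∈ cE z ⊓ centralizer (K : Set G), q ≠ 1 ∧ q ≠ z := by
    by_contra hcon
    push Not at hcon
    have hle : cE z ⊓ centralizer (K : Set G) ≤ zpowers z := fun q hq =>
      (Extra2.mem_zpowers_iff hQ.sq).2
        (or_iff_not_imp_left.2 fun a => hcon q hq a)
    have h2 := Subgroup.card_le_of_le hle
    rw [Nat.card_zpowers, orderOf_gen hQ] at h2
    nlinarith
  have hsq : ∀ e ∈ cE z, q * e * q⁻¹ = x * e * x⁻¹ := by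
    have hK : ∀ e ∈ K, q * e * q⁻¹ = e := fun e he =>
      mul_inv_eq_iff_eq_mul.2 (mem_centralizer_iff.1 hq.2 e he).symm
    have hzc : ∀ e ∈ cE z, e * z = z * e := fun e he => (hQ.comm_z e he).eq
    have hq0 : q * e₀ * q⁻¹ = e₀ * z := by
      rcases conj_eq hQ hq.1 he₀ with a | a
      · exfalso
        refine (hQ.center_iff q hq.1 fun y hy => ?_).elim hq1 hqz
        show q * y = y * q
        refine mul_inv_eq_iff_eq_mul.1 ?_
        rcases h y hy with b | b
        · exact hK y ((hmem y hy).2 b)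
        · have hye : x * (y * e₀) * x⁻¹ = y * e₀ := by
            rw [show x * (y * e₀) * x⁻¹ = x * y * x⁻¹ * (x * e₀ * x⁻¹) by group, b, h0]
            calc y * z * (e₀ * z) = y * (z * e₀) * z := by group
              _ = y * e₀ * (z * z) := by rw [← hzc e₀ he₀]; group
              _ = y * e₀ := by rw [hQ.sq, mul_one]
          have := hK _ ((hmem _ (mul_mem hy he₀)).2 hye)
          rw [show q * (y * e₀) * q⁻¹ = q * y * q⁻¹ * (q * e₀ * q⁻¹) by group, a] at this
          exact mul_right_cancel this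
      · exact a.trans (hzc e₀ he₀).symm
    intro e he
    rcases h e he with a | a
    · exact (hK e ((hmem e he).2 a)).trans a.symm
    · have hp : e * e₀ ∈ K := (hmem _ (mul_mem he he₀)).2 (by
        rw [show x * (e * e₀) * x⁻¹ = x * e * x⁻¹ * (x * e₀ * x⁻¹) by group, a, h0]
        calc e * z * (e₀ * z) = e * (z * e₀) * z := by group
          _ = e * e₀ * (z * z) := by rw [← hzc e₀ he₀]; group
          _ = e * e₀ := by rw [hQ.sq, mul_one])
      have h5 := hK _ hp
      rw [show q * (e * e₀) * q⁻¹ = q * e * q⁻¹ * (q * e₀ * q⁻¹) by group, hq0] at h5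
      rw [a]
      calc q * e * q⁻¹ = q * e * q⁻¹ * (e₀ * z) * (e₀ * z)⁻¹ := by group
        _ = e * e₀ * (e₀ * z)⁻¹ := by rw [h5]
        _ = e * (e₀ * z⁻¹ * e₀⁻¹) := by group
        _ = e * z := by rw [inv_eq_of_mul_eq_one_right hQ.sq, hzc e₀ he₀, mul_inv_cancel_right]
  have hq' : q ∈ cH z := E_le_H hq.1
  have := hself (q⁻¹ * x) (mul_mem (inv_mem hq') hx) fun e he => by
    have := hsq e he
    calc q⁻¹ * x * e = q⁻¹ * (x * e * x⁻¹) * x := by group
      _ = q⁻¹ * (q * e * q⁻¹) * x := by rw [this]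
      _ = e * (q⁻¹ * x) := by group
  have := mul_mem hq.1 this
  rwa [mul_inv_cancel_left] at this

section Pairing

variable {r ε : Fin 6 → G} (hr : ∀ i, r i ∈ cE z) (hε : ∀ i, ε i ∈ cE z)
  (hrr : ∀ i j, r i * r j = r j * r i)
  (hpair : ∀ i j, ε i * r j * (ε i)⁻¹ = if i = j then r j * z else r j)

/-- The subgroup generated by `z` and the `r i`. -/
abbrev S (z : G) (r : Fin 6 → G) : Subgroup G := closure (insert z (Set.range r))

include hr in
theorem S_le : S z r ≤ cE z := by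
  rw [closure_le]
  rintro x (rfl | ⟨i, rfl⟩)
  · exact (gen_E hJ).mem
  · exact hr i

include hr hε hrr hpair in
theorem centralizer_S : cE z ⊓ centralizer (S z r : Set G) = S z r := by
  classical
  have hQ := gen_E hJ
  have hzS : z ∈ S z r := subset_closure (Set.mem_insert _ _)
  have hrS : ∀ i, r i ∈ S z r := fun i => subset_closure (Set.mem_insert_of_mem _ ⟨i, rfl⟩)
  have hle : S z r ≤ cE z ⊓ centralizer (S z r : Set G) := by
    refine le_inf (S_le hJ hr) ?_
    rw [Subgroup.centralizer_closure, closure_le]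
    rintro x hx
    rw [SetLike.mem_coe, mem_centralizer_iff]
    rintro y hy
    rcases hx with rfl | ⟨i, rfl⟩ <;> rcases hy with rfl | ⟨j, rfl⟩
    · rfl
    · exact (hQ.comm_z _ (hr j)).eq
    · exact (hQ.comm_z _ (hr i)).eq.symm
    · exact hrr j i
  have hzc : ∀ s ∈ S z r, s * z = z * s := fun s hs => (hQ.comm_z s (S_le hJ hr hs)).eq
  -- the pairing maps `S` onto the functions on six points
  have hscard : 2 ^ 7 ≤ Nat.card (S z r) := by
    let P : Fin 6 → S z r → Bool := fun i s => decide (ε i * (s : G) * (ε i)⁻¹ ≠ s)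
    have hsurj : ∀ f : Fin 6 → Bool, ∃ s : S z r, (fun i => P i s) = f := by
      intro f
      obtain ⟨L, hL⟩ : ∃ L : List (Fin 6), L.Nodup ∧ ∀ i, i ∈ L ↔ f i = true :=
        ⟨(List.finRange 6).filter fun i => f i, (List.nodup_finRange 6).filter _, by simp⟩
      refine ⟨⟨(L.map r).prod, list_prod_mem fun x hx => ?_⟩, funext fun i => ?_⟩
      · obtain ⟨j, -, rfl⟩ := List.mem_map.1 hx; exact hrS j
      have key : ∀ M : List (Fin 6), M.Nodup →
          ε i * (M.map r).prod * (ε i)⁻¹ =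
            if i ∈ M then (M.map r).prod * z else (M.map r).prod := by
        intro M
        induction M with
        | nil => intro _; simp
        | cons j M ih =>
          intro hM
          have hMs : (M.map r).prod ∈ S z r := list_prod_mem fun x hx => by
            obtain ⟨k, -, rfl⟩ := List.mem_map.1 hx; exact hrS k
          rw [List.map_cons, List.prod_cons,
            show ε i * (r j * (M.map r).prod) * (ε i)⁻¹ =
              ε i * r j * (ε i)⁻¹ * (ε i * (M.map r).prod * (ε i)⁻¹) by group,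
            ih (List.nodup_cons.1 hM).2, hpair]
          by_cases hij : i = j
          · subst hij
            rw [if_pos rfl, if_neg (List.nodup_cons.1 hM).1, if_pos (List.mem_cons_self ..),
              mul_assoc, ← hzc _ hMs, mul_assoc]
          · rw [if_neg hij]
            by_cases hiM : i ∈ M
            · rw [if_pos hiM, if_pos (List.mem_cons_of_mem _ hiM), mul_assoc]
            · rw [if_neg hiM, if_neg (by simp [hij, hiM])]
      have hLs : (L.map r).prod ∈ S z r := list_prod_mem fun x hx => by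
        obtain ⟨k, -, rfl⟩ := List.mem_map.1 hx; exact hrS k
      have := key L hL.1
      simp only [P]
      rw [this]
      cases hfi : f i
      · rw [if_neg (by rw [hL.2, hfi]; decide)]; simp
      · rw [if_pos ((hL.2 i).2 hfi)]; simp [hQ.ne_one]
    choose sel hsel using hsurj
    have hflip : ∀ i (s : S z r), P i ⟨(s : G) * z, mul_mem s.2 hzS⟩ = P i s := by
      intro i s
      simp only [P]
      rw [decide_eq_decide, show ε i * ((s : G) * z) * (ε i)⁻¹ = ε i * (s : G) * (z * (ε i)⁻¹) by group,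
        ← (Commute.inv_left (hQ.comm_z _ (hε i))).eq,
        show ε i * (s : G) * ((ε i)⁻¹ * z) = ε i * (s : G) * (ε i)⁻¹ * z by group,
        ne_eq, ne_eq, mul_left_inj]
    have hinj : Function.Injective fun p : (Fin 6 → Bool) × Bool =>
        (if p.2 then ⟨(sel p.1 : G) * z, mul_mem (sel p.1).2 hzS⟩ else sel p.1 : S z r) := by
      rintro ⟨f, a⟩ ⟨g, b⟩ he
      have hf : f = g := by
        rw [← hsel f, ← hsel g]
        funext i
        have := congrArg (P i) he
        cases a <;> cases b <;> simpa [hflip] using this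
      subst hf
      cases a <;> cases b <;> first | rfl | exact absurd (congrArg Subtype.val he) (by simp [hQ.ne_one])
    have := Nat.card_le_card_of_injective _ hinj
    simpa using this
  refine le_antisymm ?_ hle
  have hc := card_mul_card_centralizer hQ hzS (S_le hJ hr)
  rw [card_E hJ] at hc
  exact (Subgroup.eq_of_le_of_card_ge hle (by nlinarith)).ge

include hr hε hrr hpair in
theorem mem_S_of_comm {c : G} (hc : c ∈ cE z) (h : ∀ j, c * r j = r j * c) : c ∈ S z r := by
  rw [← centralizer_S hJ hr hε hrr hpair]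
  refine mem_inf.2 ⟨hc, ?_⟩
  rw [Subgroup.centralizer_closure, mem_centralizer_iff]
  rintro y (rfl | ⟨j, rfl⟩)
  · exact ((gen_E hJ).comm_z c hc).eq.symm
  · exact (h j).symm

include hr hε hrr hpair in
/-- An element of the centraliser fixing the twelve generators modulo `⟨z⟩` lies in `E`. -/
theorem mem_E_of_twelve {x : G} (hx : x ∈ cH z)
    (h1 : ∀ i, x * r i * x⁻¹ = r i ∨ x * r i * x⁻¹ = r i * z)
    (h2 : ∀ i, x * ε i * x⁻¹ = ε i ∨ x * ε i * x⁻¹ = ε i * z) : x ∈ cE z := by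
  classical
  have hQ := gen_E hJ
  let M : Subgroup G :=
    { carrier := {e | e ∈ cE z ∧ x * e * x⁻¹ * e⁻¹ ∈ zpowers z}
      one_mem' := ⟨one_mem _, by simp⟩
      mul_mem' := by
        rintro a b ⟨ha, ha'⟩ ⟨hb, hb'⟩
        refine ⟨mul_mem ha hb, ?_⟩
        rw [show x * (a * b) * x⁻¹ * (a * b)⁻¹ =
          (x * a * x⁻¹ * a⁻¹) * (a * (x * b * x⁻¹ * b⁻¹) * a⁻¹) by group]
        refine mul_mem ha' ?_
        rcases (Extra2.mem_zpowers_iff hQ.sq).1 hb' with e | e <;> rw [e]
        · simp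
        · rw [(hQ.comm_z a ha).eq, mul_inv_cancel_right]; exact mem_zpowers z
      inv_mem' := by
        rintro a ⟨ha, ha'⟩
        refine ⟨inv_mem ha, ?_⟩
        rw [show x * a⁻¹ * x⁻¹ * a⁻¹⁻¹ = a⁻¹ * (x * a * x⁻¹ * a⁻¹)⁻¹ * a by group]
        rcases (Extra2.mem_zpowers_iff hQ.sq).1 ha' with e | e <;> rw [e]
        · simp
        · rw [inv_eq_of_mul_eq_one_right hQ.sq, mul_assoc, ← (hQ.comm_z a ha).eq, inv_mul_cancel_left]
          exact mem_zpowers z }
  have hM : ∀ {e : G}, e ∈ cE z → (x * e * x⁻¹ = e ∨ x * e * x⁻¹ = e * z) → e ∈ M := by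
    intro e he h
    refine ⟨he, ?_⟩
    rcases h with h | h <;> rw [h]
    · simp
    · rw [(hQ.comm_z e he).eq, mul_inv_cancel_right]; exact mem_zpowers z
  have hSM : S z r ≤ M := by
    rw [closure_le]
    rintro y (rfl | ⟨i, rfl⟩)
    · exact hM hQ.mem (Or.inl (mul_inv_eq_iff_eq_mul.2 (mem_cH.1 hx)))
    · exact hM (hr i) (h1 i)
  have hεM : ∀ i, ε i ∈ M := fun i => hM (hε i) (h2 i)
  have hEM : cE z ≤ M := by
    intro e he
    -- correct `e` by the `ε i` with which it anticommutes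
    have key : ∀ L : List (Fin 6), L.Nodup → ∃ s ∈ M, s ∈ cE z ∧
        ∀ j, (s * r j * s⁻¹ = if j ∈ L then r j * z else r j) := by
      intro L
      induction L with
      | nil => intro _; exact ⟨1, one_mem _, one_mem _, fun j => by simp⟩
      | cons i L ih =>
        intro hL
        obtain ⟨s, hsM, hsE, hs⟩ := ih (List.nodup_cons.1 hL).2
        refine ⟨ε i * s, mul_mem (hεM i) hsM, mul_mem (hε i) hsE, fun j => ?_⟩
        rw [show ε i * s * r j * (ε i * s)⁻¹ = ε i * (s * r j * s⁻¹) * (ε i)⁻¹ by group, hs j]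
        have hjz : ε i * (r j * z) * (ε i)⁻¹ = ε i * r j * (ε i)⁻¹ * z := by
          rw [show ε i * (r j * z) * (ε i)⁻¹ = ε i * r j * (z * (ε i)⁻¹) by group,
            ← (Commute.inv_left (hQ.comm_z _ (hε i))).eq]
          group
        by_cases hji : j = i
        · subst hji
          rw [if_neg (List.nodup_cons.1 hL).1, if_pos (List.mem_cons_self ..), hpair, if_pos rfl]
        · by_cases hjL : j ∈ L
          · rw [if_pos hjL, if_pos (List.mem_cons_of_mem _ hjL), hjz, hpair, if_neg (Ne.symm hji)]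
          · rw [if_neg hjL, if_neg (by simp [hji, hjL]), hpair, if_neg (Ne.symm hji)]
    obtain ⟨L, hLn, hL⟩ : ∃ L : List (Fin 6), L.Nodup ∧
        ∀ j, j ∈ L ↔ ¬ e * r j * e⁻¹ = r j :=
      ⟨(List.finRange 6).filter fun j => decide (¬ e * r j * e⁻¹ = r j),
        (List.nodup_finRange 6).filter _, by simp⟩
    obtain ⟨s, hsM, hsE, hs⟩ := key L hLn
    have hsS : s⁻¹ * e ∈ S z r := by
      refine mem_S_of_comm hJ hr hε hrr hpair (mul_mem (inv_mem hsE) he) fun j => ?_
      have he' : e * r j * e⁻¹ = s * r j * s⁻¹ := by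
        rw [hs j]
        by_cases hj : e * r j * e⁻¹ = r j
        · rw [if_neg (fun a => (hL j).1 a hj), hj]
        · rw [if_pos ((hL j).2 hj)]
          rcases conj_eq hQ he (hr j) with a | a
          · exact absurd a hj
          · exact a.trans ((hQ.comm_z _ (hr j)).eq).symm
      calc s⁻¹ * e * r j = s⁻¹ * (e * r j * e⁻¹) * e := by group
        _ = s⁻¹ * (s * r j * s⁻¹) * e := by rw [he']
        _ = r j * (s⁻¹ * e) := by group
    have := mul_mem hsM (hSM hsS)
    rwa [mul_inv_cancel_left] at this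
  refine mem_E_of_central_mod hJ hx fun e he => ?_
  rcases (Extra2.mem_zpowers_iff hQ.sq).1 (hEM he).2 with a | a
  · exact Or.inl (mul_inv_eq_one.1 a)
  · exact Or.inr ((mul_inv_eq_iff_eq_mul.1 a).trans (hQ.comm_z e he).eq.symm)

end Pairing

end CfsgLib.J4Type.RTwo
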