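/-
Certificate data for the second long relator: words in the stabiliser of the trio and in the two generators.
-/
import Mathlib.Data.List.Range

set_option autoImplicit false

namespace CfsgLib.J4Type.RTwo

/-- The images under the moved second generator. -/
def ypL : List ℕ :=
  [21, 16, 4, 3, 12, 14, 6, 13, 8, 5, 15, 1, 2, 23, 9, 17, 11, 10, 18, 19, 20, 22, 0, 7]

/-- The word of the first element of the relator. -/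
def krL : List ℕ :=
  [9, 8, 9, 8, 9, 8, 9, 9, 8, 9, 8, 9, 8, 9, 9, 8, 9, 8, 9, 8, 9]

/-- The word of the second element of the relator. -/
def rrL : List ℕ :=
  [8, 9, 8, 9, 8, 9, 9, 8, 9, 8, 9, 8, 9, 8, 9, 8, 9, 8, 9, 9]

/-- Its inverse. -/
def rrI : List ℕ :=
  [9, 9, 9, 9, 8, 9, 9, 8, 9, 9, 8, 9, 9, 8, 9, 9, 8, 9, 9, 8, 9, 9, 9, 9, 8, 9, 9, 8, 9, 9, 8]

/-- The word moving the middle trio to the first one. -/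
def gwL : List ℕ :=
  [8, 9, 9, 8, 9, 8, 9, 9]

/-- Its inverse. -/
def gwI : List ℕ :=
  [9, 9, 9, 9, 8, 9, 9, 8, 9, 9, 9, 9, 8]

/-- The word of the first translation. -/
def swOne : List ℕ :=
  [9, 9, 9, 9, 8, 9, 9, 8, 9, 9, 9, 9, 8]

/-- Its inverse. -/
def siOne : List ℕ :=
  [8, 9, 9, 9, 9, 9, 9, 9, 9, 8, 9, 9, 9, 9, 8, 9, 9, 9, 9, 9, 9, 9, 9]

/-- The word of the second translation. -/
def swTwo : List ℕ :=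
  [9, 9, 9, 9, 8, 9, 9, 8, 9, 9, 9, 9, 8, 9, 9, 9, 9, 8, 9, 9, 8, 9, 9, 8, 9, 9, 8, 9, 9, 8, 9, 9, 8, 9, 9, 9, 9, 8, 9, 9, 8, 9, 9, 8]

/-- Its inverse. -/
def siTwo : List ℕ :=
  [8, 9, 9, 9, 9, 8, 9, 9, 9, 9, 8, 9, 9, 9, 9, 9, 9, 9, 9, 8, 9, 9, 9, 9, 8, 9, 9, 9, 9, 8, 9, 9, 9, 9, 8, 9, 9, 9, 9, 8, 9, 9, 9, 9, 8, 9, 9, 9, 9, 9, 9, 9, 9, 8, 9, 9, 9, 9, 9, 9, 9, 9, 8, 9, 9, 9, 9, 8, 9, 9, 9, 9, 9, 9, 9, 9]

/-- The word of the moved element of order four. -/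
def kgL : List ℕ :=
  [9, 9, 9, 9, 8, 9, 9, 8, 9, 9, 9, 9, 8, 9, 8, 9, 8, 9, 8, 9, 9, 8, 9, 8, 9, 8, 9, 9, 8, 9, 8, 9, 8, 9, 8, 9, 9, 8, 9, 8, 9, 9]

/-- Its inverse. -/
def kgI : List ℕ :=
  [9, 9, 9, 9, 8, 9, 9, 8, 9, 9, 9, 9, 8, 9, 9, 8, 9, 9, 8, 9, 9, 8, 9, 9, 9, 9, 8, 9, 9, 8, 9, 9, 8, 9, 9, 9, 9, 8, 9, 9, 8, 9, 9, 8, 9, 9, 8, 9, 9, 9, 9, 9, 9, 9, 9, 8, 9, 9, 9, 9, 8, 9, 9, 9, 9, 9, 9, 9, 9]

/-- Its action on the first translation. -/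
def kgK : List ℕ :=
  [7, 3, 3, 2, 5, 4, 1]

/-- The final pencil triple. -/
def lastT : List ℕ × List ℕ × List ℕ :=
  ([3, 6, 6, 5, 7, 2, 0], [7, 4, 6, 3, 1, 4], [7, 6, 3])

/-- Its square. -/
def eW : List ℕ :=
  [1, 5, 5, 1, 5, 6]

/-- The index of the square. -/
def eIx : ℕ :=
  32

/-- The six elements whose conjugate pairs form a basis. -/
def qWs : List (List ℕ) :=
  [[0, 5, 1, 4, 5, 1, 0],
   [4, 5, 1, 5, 1],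
   [5, 1, 5, 1, 4],
   [5, 1, 4, 5, 1],
   [7, 6, 6, 6, 7, 6],
   [1, 5, 1, 4, 5]]

/-- The subgroup of order 64 fixing the three octads, by coordinates. -/
def rhoWs : List (List ℕ) :=
  [[],
   [5, 1, 4, 5, 1],
   [0, 4, 5, 1, 5, 1, 0],
   [7, 5, 5, 7, 7],
   [1, 5, 1, 4, 5],
   [4, 2, 4, 2, 5, 1, 0],
   [7, 6, 6, 6, 7, 6],
   [2, 5, 1, 3, 2, 2, 0],
   [5, 5, 1, 5, 6, 1],
   [0, 5, 1, 4, 5, 1, 0],
   [5, 1, 3, 2, 2, 2, 0],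
   [2, 5, 1, 0, 5, 1, 0],
   [6, 5, 1, 5, 3, 1, 0],
   [4, 4, 4, 3, 5, 1, 0],
   [2, 4, 3, 2, 5, 1, 0],
   [2, 3, 3, 4, 5, 1, 0],
   [1, 1, 5, 6],
   [2, 2, 2, 2, 5, 1, 0],
   [4, 5, 1, 0, 5, 1, 0],
   [5, 1, 3, 5, 1],
   [3, 0, 5, 1, 5, 1, 0],
   [5, 1, 2, 0, 5, 1, 0],
   [1, 4, 5, 1, 5],
   [5, 1, 5, 1, 2],
   [5, 6, 1, 5, 5, 1],
   [3, 4, 3, 2, 5, 1, 0],
   [1, 2, 5, 1, 5],
   [2, 3, 3, 2, 5, 1, 0],
   [3, 5, 1, 0, 5, 1, 0],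
   [5, 1, 5, 1, 3],
   [3, 3, 3, 5, 1, 2, 0],
   [4, 2, 3, 3, 5, 1, 0],
   [1, 5, 5, 1, 5, 6],
   [5, 1, 4, 0, 5, 1, 0],
   [2, 4, 4, 2, 5, 1, 0],
   [4, 3, 2, 2, 5, 1, 0],
   [5, 1, 5, 1, 4],
   [5, 1, 0, 2, 5, 1, 0],
   [3, 4, 5, 1, 2, 2, 0],
   [3, 2, 3, 2, 5, 1, 0],
   [6, 6, 0, 6, 6, 0],
   [4, 2, 3, 2, 5, 1, 0],
   [1, 5, 1, 3, 5],
   [2, 5, 1, 5, 1],
   [3, 4, 2, 4, 5, 1, 0],
   [3, 3, 2, 2, 5, 1, 0],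
   [4, 3, 4, 2, 5, 1, 0],
   [6, 5, 1, 5, 2, 1, 0],
   [1, 5, 6, 1],
   [5, 1, 0, 4, 5, 1, 0],
   [4, 5, 1, 5, 1],
   [1, 3, 5, 1, 5],
   [4, 3, 3, 3, 5, 1, 0],
   [5, 1, 2, 5, 1],
   [4, 4, 2, 2, 5, 1, 0],
   [2, 3, 4, 2, 5, 1, 0],
   [5, 5],
   [3, 3, 2, 4, 5, 1, 0],
   [2, 3, 2, 2, 5, 1, 0],
   [7, 7, 5, 5, 7],
   [3, 5, 1, 5, 1],
   [3, 2, 4, 3, 5, 1, 0],
   [4, 2, 2, 3, 5, 1, 0],
   [3, 3, 2, 5, 1, 2, 0]]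

/-- The translations of the six dual elements. -/
def kaWs : List (List ℕ) :=
  [[1, 3],
   [0, 5, 1, 1, 5, 0],
   [1],
   [6, 1],
   [5, 0, 6, 1],
   [6, 6, 6, 1]]

/-- Action of the first members on the basis. -/
def flA : List (List (Bool × List ℕ × List ℕ × List ℕ)) :=
  [[(false, ([7, 2, 5, 1, 3, 2, 2], [], [])),
    (false, ([7, 7, 5, 5, 7], [], [])),
    (false, ([1, 4, 5, 1, 5], [], [])),
    (true, ([7, 6, 6, 1, 4, 5], [0, 7, 2, 2, 4, 1, 0], [4, 2, 3, 5, 7, 1, 0])),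
    (false, ([2, 6, 1, 2, 0], [], [])),
    (false, ([3, 4, 2, 1, 3], [], []))],
   [(false, ([1, 4, 5, 1, 5], [], [])),
    (false, ([5, 1, 5, 7, 1, 2, 0], [], [])),
    (false, ([7, 7, 5, 5, 7], [], [])),
    (false, ([3, 4, 2, 1, 3], [], [])),
    (true, ([7, 1, 3, 3, 2, 6], [0, 7, 2, 2, 4, 1, 0], [4, 2, 3, 5, 7, 1, 0])),
    (false, ([6, 2, 3, 4, 3, 1, 0], [], []))],
   [(false, ([7, 7, 5, 5, 7], [], [])),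
    (false, ([1, 4, 5, 1, 5], [], [])),
    (false, ([7, 5, 1, 4, 5, 1, 0], [], [])),
    (false, ([6, 2, 3, 4, 3, 1, 0], [], [])),
    (true, ([7, 1, 6, 1, 6, 6, 1], [0, 7, 2, 2, 4, 1, 0], [4, 2, 3, 5, 7, 1, 0])),
    (true, ([7, 6, 4, 4, 1], [3, 3, 5, 7, 1, 3, 0], [4, 2, 3, 5, 7, 1, 0]))],
   [(true, ([5, 7, 6, 2, 4], [3, 6, 7, 5, 4, 4, 2, 0], [4, 2, 3, 5, 7, 1, 0])),
    (false, ([3, 6, 2, 4, 2, 2, 0], [], [])),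
    (false, ([4, 3, 4, 1, 3], [], [])),
    (true, ([2, 4, 1, 5, 7, 0], [4, 6, 7, 5, 2, 2, 3], [4, 2, 3, 5, 7, 1, 0])),
    (false, ([2, 6, 1, 2, 0], [], [])),
    (false, ([3, 4, 2, 1, 3], [], []))],
   [(false, ([7, 7, 6, 6, 7], [], [])),
    (true, ([6, 7, 5, 5, 3, 0, 3], [2, 6, 7, 3, 2, 4], [4, 2, 3, 5, 7, 1, 0])),
    (false, ([4, 3, 4, 1, 3], [], [])),
    (false, ([2, 6, 1, 2, 0], [], [])),
    (true, ([7, 7, 6, 2, 4, 0], [4, 6, 7, 5, 2, 2, 3], [4, 2, 3, 5, 7, 1, 0])),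
    (false, ([3, 4, 2, 1, 3], [], []))],
   [(false, ([4, 3, 4, 1, 3], [], [])),
    (true, ([4, 0, 7, 4, 1, 0], [6, 7, 4, 6, 4, 6], [4, 2, 3, 5, 7, 1, 0])),
    (true, ([0, 7, 4, 4, 1, 0], [3, 6, 7, 5, 4, 4, 2, 0], [4, 2, 3, 5, 7, 1, 0])),
    (false, ([3, 4, 2, 1, 3], [], [])),
    (false, ([2, 6, 1, 2, 0], [], [])),
    (true, ([7, 7, 4, 4, 1], [4, 6, 7, 5, 2, 2, 3], [4, 2, 3, 5, 7, 1, 0]))]]

/-- Action of the second members on the basis. -/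
def flB : List (List (Bool × List ℕ × List ℕ × List ℕ)) :=
  [[(true, ([4, 6, 6, 0, 7], [0, 7, 2, 2, 4, 1, 0], [4, 2, 3, 5, 7, 1, 0])),
    (false, ([6, 2, 3, 4, 3, 1, 0], [], [])),
    (false, ([3, 4, 2, 1, 3], [], [])),
    (true, ([5, 5, 2, 6, 7, 6, 0], [6, 5, 4, 6, 7, 3], [4, 2, 3, 5, 7, 1, 0])),
    (false, ([7, 7, 6, 6, 7], [], [])),
    (false, ([4, 3, 4, 1, 3], [], []))],
   [(false, ([3, 4, 2, 1, 3], [], [])),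
    (true, ([1, 4, 4, 4, 6, 7], [4, 6, 7, 5, 2, 2, 3], [4, 2, 3, 5, 7, 1, 0])),
    (false, ([6, 2, 3, 4, 3, 1, 0], [], [])),
    (false, ([4, 3, 4, 1, 3], [], [])),
    (true, ([1, 5, 7, 1, 0, 6], [6, 5, 4, 6, 7, 3], [4, 2, 3, 5, 7, 1, 0])),
    (false, ([3, 6, 2, 4, 2, 2, 0], [], []))],
   [(false, ([6, 2, 3, 4, 3, 1, 0], [], [])),
    (false, ([3, 4, 2, 1, 3], [], [])),
    (true, ([7, 7, 6, 4, 4, 1], [3, 3, 5, 7, 1, 3, 0], [4, 2, 3, 5, 7, 1, 0])),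
    (false, ([3, 6, 2, 4, 2, 2, 0], [], [])),
    (true, ([5, 7, 1, 3, 2, 1, 3], [6, 5, 4, 6, 7, 3], [4, 2, 3, 5, 7, 1, 0])),
    (true, ([7, 7, 6, 3, 2, 1], [6, 7, 4, 6, 4, 6], [4, 2, 3, 5, 7, 1, 0]))],
   [(true, ([6, 6, 4, 2, 1], [4, 6, 7, 5, 2, 2, 3], [4, 2, 3, 5, 7, 1, 0])),
    (false, ([6, 2, 3, 4, 3, 1, 0], [], [])),
    (false, ([3, 4, 2, 1, 3], [], [])),
    (false, ([5, 1, 5, 7, 1, 2, 0], [], [])),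
    (false, ([3, 3, 2, 2, 5, 1, 0], [], [])),
    (false, ([1, 4, 5, 1, 5], [], []))],
   [(false, ([2, 6, 1, 2, 0], [], [])),
    (true, ([0, 6, 5, 5, 3, 3], [7, 3, 6, 5, 7, 1], [4, 2, 3, 5, 7, 1, 0])),
    (false, ([3, 4, 2, 1, 3], [], [])),
    (false, ([3, 3, 2, 2, 5, 1, 0], [], [])),
    (false, ([5, 1, 5, 7, 1, 2, 0], [], [])),
    (false, ([1, 4, 5, 1, 5], [], []))],
   [(false, ([3, 4, 2, 1, 3], [], [])),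
    (true, ([5, 5, 4, 2, 1], [3, 3, 5, 7, 1, 3, 0], [4, 2, 3, 5, 7, 1, 0])),
    (true, ([4, 4, 1], [4, 6, 7, 5, 2, 2, 3], [4, 2, 3, 5, 7, 1, 0])),
    (false, ([1, 4, 5, 1, 5], [], [])),
    (false, ([3, 3, 2, 2, 5, 1, 0], [], [])),
    (false, ([5, 1, 5, 7, 1, 2, 0], [], []))]]

/-- Action of the first translation on the basis. -/
def flOne : List (Bool × List ℕ × List ℕ × List ℕ) :=
  [(false, ([7, 5, 1, 4, 5, 1, 0], [], [])),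
   (false, ([7, 2, 5, 1, 3, 2, 2], [], [])),
   (false, ([3, 3, 2, 2, 5, 1, 0], [], [])),
   (true, ([1, 6, 0, 7, 4, 4, 0], [3, 3, 5, 7, 1, 3, 0], [4, 2, 3, 5, 7, 1, 0])),
   (true, ([7, 2, 6, 1, 4, 2, 1], [7, 3, 6, 5, 7, 1], [4, 2, 3, 5, 7, 1, 0])),
   (false, ([2, 6, 1, 2, 0], [], []))]

/-- Action of the second translation on the basis. -/
def flTwo : List (Bool × List ℕ × List ℕ × List ℕ) :=
  [(true, ([4, 3, 5, 7, 3, 1, 0], [5, 6, 5, 5, 7, 4], [7, 6, 3])),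
   (false, ([3, 1, 6, 2, 6], [], [])),
   (false, ([1, 3, 3, 6, 5], [], [])),
   (true, ([6, 7, 1, 4, 6], [7, 5, 1, 6, 6], [7, 6, 3])),
   (false, ([1, 4, 2, 4, 2], [], [])),
   (false, ([4, 5, 4, 6, 3], [], []))]

/-- The first translation commutes with the central one. -/
def comOne : List ℕ × List ℕ × List ℕ × List ℕ :=
  ([9, 9, 8, 9, 8, 9, 9, 8, 9, 8, 9, 9, 8, 9, 9, 8, 9, 9, 8, 9], ([3, 6, 5, 7, 2, 0], [1, 1, 4, 6, 7, 3], [1, 1]))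

/-- The second translation commutes with the central one. -/
def comTwo : List ℕ × List ℕ × List ℕ × List ℕ :=
  ([8, 9, 8, 9, 9, 8, 9, 8, 9, 9, 8, 9, 8, 9, 8, 9, 9, 8, 9, 8, 9, 9], ([6, 7, 4, 4, 5, 3, 2], [7, 5, 5, 2, 6, 0], [5, 2]))

/-- The first translation commutes with the rotated second one. -/
def comPre : List ℕ × List ℕ × List ℕ × List ℕ :=
  ([8, 9, 8, 9, 8, 9, 9, 8, 9, 8, 9, 8, 9, 8, 9], ([4, 6, 7, 6, 5, 3, 1], [7, 2, 2, 1, 2, 0], [1, 1]))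

/-- A triple of the first translation and two of its conjugates. -/
def sgW : List ℕ × List ℕ × List ℕ × List ℕ × List ℕ :=
  ([1, 3], [0, 5, 1, 1, 5, 0], ([7, 7, 1, 4, 1, 1], [3, 3, 2, 6, 7, 5, 2], [7, 7, 2, 1]))

/-- The second translation as a conjugate of the first. -/
def sgTwo : List ℕ × List ℕ :=
  ([6, 1], [3, 6, 6, 6, 3])

/-- Three elements of a line fixing the first translation. -/
def lineKs : List ℕ × List ℕ × List ℕ :=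
  ([], [3, 1, 1, 6, 0, 2], [5, 1, 2, 5, 3])

/-- Their actions on the first translation. -/
def lineFs : List ℕ × List ℕ × List ℕ :=
  ([], [1, 5, 6, 7, 4, 5, 4], [6, 1, 6, 7, 5])

/-- The line. -/
def lineT : List ℕ × List ℕ × List ℕ :=
  ([7, 2, 5, 6, 1, 0, 4], [7, 3, 5, 1, 3], [7, 6, 1])

/-- An element fixing both translations. -/
def pairFix : List ℕ × List ℕ × List ℕ :=
  ([1, 1, 6, 0], [1, 5, 6, 5, 6, 4], [5, 6, 6, 6, 2, 2])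

/-- An element exchanging both translations. -/
def pairSwap : List ℕ × List ℕ × List ℕ :=
  ([6, 2, 0, 5], [3, 5, 7, 4, 6, 0, 5], [7, 1, 2, 1, 6, 0])

/-- The test element. -/
def testV : ℕ :=
  249

/-- Decompositions along the test. -/
def testS : List ((ℕ × ℕ × ℕ) × List ℕ) :=
  [((0, 0, 27), []),
   ((0, 11, 51), [1, 3, 3, 6, 5]),
   ((0, 0, 62), [7, 2, 4, 2, 2, 1, 0]),
   ((0, 11, 51), [])]

end CfsgLib.J4Type.RTwo
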