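import Cfsg.Agent.J4Type.SymFrame
import Cfsg.Agent.J4Type.RTwoData
import Cfsg.Agent.J4Local.Esplit

/-!
Words in the stabiliser of the trio and in the two generators of the Mathieu group, the translations they carry,
and the checks on them used for the second long relator.
-/

set_option autoImplicit false
set_option maxRecDepth 100000
set_option linter.style.haveILetI false
set_option linter.unusedSectionVars false

namespace CfsgLib.J4Type.RTwo

open Cfsg CfsgLib.Golay CfsgLib.J4Eleven CfsgLib.J4Ten CfsgLib.J4Type.Sym Subgroup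

/-- The elements named by the digits. -/
noncomputable def base (i : ℕ) : ↥M24 :=
  [wel wdF, wel wdS, wel wdQ0, wel wdQ1, wel wdQ2, wel wdX, wel wdW, dM, g0 * gX * g0⁻¹,
    g0 * gY * g0⁻¹].getD i (ev wdY.1)

/-- Their codes. -/
def baseC (i : ℕ) : ℕ :=
  [welC wdF, welC wdS, welC wdQ0, welC wdQ1, welC wdQ2, welC wdX, welC wdW, encL dL,
    comp (welC wdX) (encL dL), encL ypL].getD i (evC wdY.1)

theorem g0_inv : g0⁻¹ = g0 ^ 14 := by
  refine inv_eq_of_mul_eq_one_right (cd_inj ?_)
  simp only [pow_succ, pow_zero, one_mul, cd_mul, cd_g0, cd_one]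
  decide +kernel

theorem cd_moved : cd (g0 * gY * g0⁻¹) = encL ypL := by
  rw [g0_inv]
  simp only [pow_succ, pow_zero, one_mul, cd_mul, cd_g0, code_gY]
  decide +kernel

theorem cd_base : ∀ i, cd (base i) = baseC i
  | 0 => cd_wel _
  | 1 => cd_wel _
  | 2 => cd_wel _
  | 3 => cd_wel _
  | 4 => cd_wel _
  | 5 => cd_wel _
  | 6 => cd_wel _
  | 7 => cd_dM
  | 8 => by
    show cd (g0 * gX * g0⁻¹) = _
    rw [words_eq.1, cd_mul, cd_wel, cd_dM]
    rfl
  | 9 => cd_moved
  | n + 10 => by
    rw [base, baseC, List.getD_eq_default _ _ (by simp), List.getD_eq_default _ _ (by simp)]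
    exact cd_ev _

/-- The value of a word of digits. -/
noncomputable def val : List ℕ → ↥M24
  | [] => 1
  | i :: w => base i * val w

/-- Its code. -/
def valC : List ℕ → ℕ
  | [] => oneCode
  | i :: w => comp (baseC i) (valC w)

theorem cd_val : ∀ w, cd (val w) = valC w
  | [] => cd_one
  | i :: w => by rw [val, cd_mul, cd_base, cd_val w, valC]

theorem val_append : ∀ a b, val (a ++ b) = val a * val b
  | [], b => (one_mul _).symm
  | i :: a, b => by rw [List.cons_append, val, val, val_append a b, mul_assoc]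

/-- Equality of the values of two words. -/
def eqC (a b : List ℕ) : Bool := valC a == valC b

theorem val_eq {a b : List ℕ} (h : eqC a b = true) : val a = val b :=
  cd_inj (by rw [cd_val, cd_val]; exact beq_iff_eq.1 h)

theorem eqC_symm {a b : List ℕ} (h : eqC a b = true) : eqC b a = true :=
  beq_iff_eq.2 (beq_iff_eq.1 h).symm

theorem eqC_self (a : List ℕ) : eqC a a = true := beq_iff_eq.2 rfl

theorem val_inv {a b : List ℕ} (h : eqC (a ++ b) [] = true) : val b = (val a)⁻¹ :=
  (inv_eq_of_mul_eq_one_right (by rw [← val_append]; exact val_eq h)).symm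

/-- A word in the stabiliser of the trio. -/
def stabW (w : List ℕ) : Bool := w.all fun i => decide (i < 8)

/-- A certificate for a pencil triple of translations. -/
def tripC (a b c : List ℕ) (k : List ℕ × List ℕ × List ℕ) : Bool :=
  stabW k.1 && stabW k.2.1 && stabW k.2.2 && eqC (c ++ k.2.2 ++ [10]) (a ++ k.1) &&
    eqC (c ++ k.2.2 ++ [10, 10]) (b ++ k.2.1)

/-- A certificate for the action of a translation on an element of the stabiliser. -/
def flipOK (s r : List ℕ) (c : Bool × List ℕ × List ℕ × List ℕ) : Bool :=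
  if c.1 then tripC [] s (r ++ s) c.2 else stabW c.2.1 && eqC (r ++ s) (s ++ c.2.1)

variable {G : Type*} [Group G] [Finite G] {z : G} {V : Subgroup G} (X : Ctx z V) (T : G)

/-- The translation carried by a word. -/
noncomputable def tau (w : List ℕ) : G := X.κ (val w) * T * (X.κ (val w))⁻¹

theorem tau_nil : tau X T [] = T := by simp [tau, val]

theorem tau_conj (w s : List ℕ) : X.κ (val w) * tau X T s * (X.κ (val w))⁻¹ = tau X T (w ++ s) := by
  simp only [tau, val_append, map_mul]
  group

variable {X T}

theorem tau_sq (hT : TenT X T) (w : List ℕ) : tau X T w * tau X T w = 1 := by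
  rw [tau, J4Eleven.conj_mul, hT.sq, mul_one, mul_inv_cancel]

variable (hT : TenT X T) (hd : X.κ dM * T = T * X.κ dM)

include hT hd

theorem comm_base {i : ℕ} (hi : i < 8) : Commute (X.κ (base i)) T := by
  have h : ∀ p ∈ commWords, Commute (X.κ (wel p)) T := fun p hp => hT.comm p hp
  rcases i with _ | _ | _ | _ | _ | _ | _ | _ | i
  · exact h wdF (by simp only [commWords, List.mem_cons, true_or])
  · exact h wdS (by simp only [commWords, List.mem_cons, true_or, or_true])
  · exact h wdQ0 (by simp only [commWords, List.mem_cons, true_or, or_true])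
  · exact h wdQ1 (by simp only [commWords, List.mem_cons, true_or, or_true])
  · exact h wdQ2 (by simp only [commWords, List.mem_cons, true_or, or_true])
  · exact h wdX (by simp only [commWords, List.mem_cons, true_or, or_true])
  · exact h wdW (by simp only [commWords, List.mem_cons, true_or, or_true])
  · exact hd
  · omega

theorem comm_stab : ∀ {w : List ℕ}, stabW w = true → Commute (X.κ (val w)) T
  | [], _ => by simp [val]
  | i :: w, h => by
    rw [stabW, List.all_cons, Bool.and_eq_true, decide_eq_true_eq] at h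
    rw [val, map_mul]
    exact (comm_base hT hd h.1).mul_left (comm_stab h.2)

theorem stab_mem {w : List ℕ} (h : stabW w = true) : X.κ (val w) ∈ J4Local.cH T :=
  J4Local.mem_cH.2 (comm_stab hT hd h).eq

theorem tau_congr {a b k : List ℕ} (hk : stabW k = true) (h : eqC (a ++ k) b = true) :
    tau X T a = tau X T b := by
  rw [tau, tau, ← val_eq h, val_append, map_mul]
  have e := (comm_stab hT hd hk).eq
  calc X.κ (val a) * T * (X.κ (val a))⁻¹
      = X.κ (val a) * (T * X.κ (val k)) * (X.κ (val k))⁻¹ * (X.κ (val a))⁻¹ := by group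
    _ = _ := by rw [← e]; group

theorem tau_trip {a b c : List ℕ} {k : List ℕ × List ℕ × List ℕ} (h : tripC a b c k = true) :
    tau X T a * tau X T b = tau X T c := by
  simp only [tripC, Bool.and_eq_true] at h
  obtain ⟨⟨⟨⟨h1, h2⟩, h3⟩, e1⟩, e2⟩ := h
  rw [tau_congr hT hd h1 (eqC_symm e1), tau_congr hT hd h2 (eqC_symm e2),
    tau_congr hT hd h3 (eqC_self (c ++ k.2.2)), ← tau_conj X T (c ++ k.2.2) [10],
    ← tau_conj X T (c ++ k.2.2) [10, 10], J4Eleven.conj_mul]
  conv_rhs => rw [show tau X T (c ++ k.2.2) = X.κ (val (c ++ k.2.2)) * T * (X.κ (val (c ++ k.2.2)))⁻¹ from rfl]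
  congr 2
  have hy : X.κ (val [10]) = X.κ (ev wdY.1) := by simp [val, base]
  have hy2 : X.κ (val [10, 10]) = X.κ (ev wdY.1) * X.κ (ev wdY.1) := by simp [val, base]
  have h3' : X.κ (ev wdY.1) * X.κ (ev wdY.1) * X.κ (ev wdY.1) = 1 := by
    rw [← map_mul, ← map_mul, show ev wdY.1 * ev wdY.1 * ev wdY.1 = 1 from cd_inj (by
      simp only [cd_mul, cd_ev, cd_one]; decide +kernel), map_one]
  rw [tau, tau, hy, hy2]
  have hr := hT.r1
  set y := X.κ (ev wdY.1)
  have e : y * T * y⁻¹ * (y * y * T * (y * y)⁻¹) * T = 1 := by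
    calc y * T * y⁻¹ * (y * y * T * (y * y)⁻¹) * T
        = y * T * y * T * (y⁻¹ * y⁻¹) * T := by group
      _ = y * T * y * T * y * T := by
          rw [show y⁻¹ * y⁻¹ = y by
            calc y⁻¹ * y⁻¹ = y⁻¹ * y⁻¹ * (y * y * y) := by rw [h3', mul_one]
              _ = y := by group]
      _ = 1 := by rw [← hr]; simp only [pow_three, mul_assoc]
  exact (eq_inv_of_mul_eq_one_left e).trans (inv_eq_of_mul_eq_one_right hT.sq)

theorem tau_comm {a b c : List ℕ} {k : List ℕ × List ℕ × List ℕ} (h : tripC a b c k = true) :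
    Commute (tau X T a) (tau X T b) := by
  have e := tau_trip hT hd h
  have h1 := tau_sq hT c
  rw [← e] at h1
  calc tau X T a * tau X T b = (tau X T a * tau X T b)⁻¹ := (inv_eq_of_mul_eq_one_right h1).symm
    _ = _ := by rw [mul_inv_rev, inv_eq_of_mul_eq_one_right (tau_sq hT a), inv_eq_of_mul_eq_one_right (tau_sq hT b)]

theorem tau_mem {a c : List ℕ} {k : List ℕ × List ℕ × List ℕ} (h : tripC [] a c k = true) :
    tau X T a ∈ J4Local.cH T := by
  have e := tau_comm hT hd h
  rw [tau_nil] at e
  exact J4Local.mem_cH.2 e.symm.eq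

/-- The action of a translation on an involution of the stabiliser. -/
theorem tau_flip {s r : List ℕ} {c : Bool × List ℕ × List ℕ × List ℕ} (h : flipOK s r c = true)
    (hs : Commute (tau X T s) T) (hr : stabW r = true) (hr2 : eqC (r ++ r) [] = true) :
    tau X T s * X.κ (val r) * tau X T s = if c.1 then X.κ (val r) * T else X.κ (val r) := by
  have h2 : X.κ (val r) * X.κ (val r) = 1 := by rw [← map_mul, ← val_append, val_eq hr2]; simp [val]
  have hinv := inv_eq_of_mul_eq_one_right h2
  have hc := tau_conj X T r s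
  rw [hinv] at hc
  have hrT := comm_stab hT hd hr
  have hs2 := tau_sq hT s
  obtain ⟨b, k⟩ := c
  cases b <;> simp only [flipOK, Bool.false_eq_true, if_false, if_true, Bool.and_eq_true] at h ⊢
  · rw [← tau_congr hT hd h.1 (a := s) (b := r ++ s) (eqC_symm h.2)] at hc
    calc tau X T s * X.κ (val r) * tau X T s
        = (X.κ (val r) * tau X T s * X.κ (val r)) * X.κ (val r) * tau X T s := by rw [hc]
      _ = X.κ (val r) * (tau X T s * (X.κ (val r) * X.κ (val r)) * tau X T s) := by group
      _ = X.κ (val r) := by rw [h2, mul_one, hs2, mul_one]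
  · have e := tau_trip hT hd h
    rw [tau_nil, ← hc] at e
    calc tau X T s * X.κ (val r) * tau X T s
        = X.κ (val r) * (X.κ (val r) * tau X T s * X.κ (val r)) * tau X T s := by
          rw [show X.κ (val r) * (X.κ (val r) * tau X T s * X.κ (val r)) =
            (X.κ (val r) * X.κ (val r)) * tau X T s * X.κ (val r) by group, h2, one_mul]
      _ = X.κ (val r) * T * (tau X T s * tau X T s) := by rw [← e]; group
      _ = X.κ (val r) * T := by rw [hs2, mul_one]

end CfsgLib.J4Type.RTwo
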