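/-
Certificate data for the element centralising a trio stabiliser.
-/
import Mathlib.Data.List.Range

set_option autoImplicit false

namespace CfsgLib.J4Type.Sym

/-- First generator of a complement in the octad stabiliser. -/
def gaL : List ℕ :=
  [0, 13, 15, 3, 20, 5, 6, 19, 23, 18, 10, 16, 12, 1, 21, 2, 11, 17, 9, 7, 4, 14, 22, 8]

/-- Second generator of a complement in the octad stabiliser. -/
def gbL : List ℕ :=
  [0, 9, 2, 17, 8, 10, 18, 1, 16, 12, 13, 15, 7, 21, 22, 11, 23, 14, 6, 19, 20, 5, 3, 4]

/-- An element carrying an octad of the trio to the standard one. -/
def g0L : List ℕ :=
  [8, 5, 6, 9, 12, 13, 18, 7, 10, 19, 17, 20, 15, 23, 4, 11, 21, 22, 16, 3, 1, 2, 14, 0]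

/-- An element of order three permuting the trio. -/
def dL : List ℕ :=
  [7, 16, 18, 4, 13, 1, 9, 15, 10, 20, 14, 19, 23, 3, 8, 0, 5, 2, 17, 22, 6, 12, 11, 21]

/-- An element carrying the first generator into the pointwise stabiliser. -/
def gcL : List ℕ :=
  [8, 6, 1, 2, 7, 16, 20, 10, 13, 0, 15, 14, 11, 3, 5, 18, 19, 23, 12, 22, 21, 17, 4, 9]

/-- The index of the image. -/
def jc : ℕ :=
  12

/-- A point of the octad, by position. -/
def i0 : ℕ :=
  2

/-- Coordinate images under the first generator. -/
def mA : List ℕ :=
  [54, 44, 42, 17, 62, 57, 64, 192, 256, 512]

/-- Coordinate images under the second generator. -/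
def mB : List ℕ :=
  [61, 14, 25, 6, 32, 28, 320, 704, 832, 640]

/-- Five-dimensional columns of the translation. -/
def csT : List ℕ :=
  [1, 2, 4, 8, 22]

/-- Its ten-dimensional columns. -/
def mT : List ℕ :=
  [705, 962, 260, 136, 272, 864, 64, 128, 256, 512]

/-- Five-dimensional columns of an element moving the translation to the first generator. -/
def csG : List ℕ :=
  [9, 29, 19, 4, 15]

/-- Its ten-dimensional columns. -/
def mG : List ℕ :=
  [383, 455, 952, 732, 760, 56, 75, 89, 110, 11]

/-- Pairs of words with equal value. -/
def relsL : List (List Bool × List Bool) :=
  [([false, false], []),
   ([true, true, true, true], []),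
   ([true, true, false, true, true, false], [false, true, true, false, true, true]),
   ([true, false, true, true, false, true, false, true, false, true, true, false, true, false], [false, true, false, true, true, false, true, false, true, false, true, true, false, true])]

/-- Left inverse of the relation map on a complement of its kernel. -/
def projP : List ℕ :=
  [0, 0, 0, 0, 0, 0, 0, 0, 0, 0, 0, 0, 0, 0, 4096, 0, 0, 0, 0, 0, 0, 0, 0, 2, 0, 5131, 65664, 0, 0, 65792, 0, 0, 0, 10, 0, 1, 128, 0, 640, 0]

/-- Kernel component of each coordinate. -/
def projQ : List ℕ :=
  [0, 0, 1057, 0, 50, 1024, 384, 0, 0, 0, 0, 25, 0, 35, 6, 55, 0, 512, 64, 256]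

/-- The solutions of the relations. -/
def solB : List ℕ :=
  [61495, 12334, 29742, 14361, 49198, 61465, 262144, 589888, 589824, 131072, 40]

/-- Word and index of the element f. -/
def wdF : List Bool × ℕ :=
  ([], 7)

/-- Word and index of the element s. -/
def wdS : List Bool × ℕ :=
  ([false, true, false, true, true, false, true, false, true, false, true, false, true, false, true, true, false, true, true, true, false, true, false, true, false, true], 11)

/-- Word and index of the element q0. -/
def wdQ0 : List Bool × ℕ :=
  ([false, true, true, false, true, true, true, false, true, false, true, false, true, false, true, true, false, true, true, true, false, true, false, true, true, true], 6)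

/-- Word and index of the element q1. -/
def wdQ1 : List Bool × ℕ :=
  ([true, true, false, true, false, true, true, true, false, true, false, true, false, true, false, true, true, false, true, false, true, false, true, false], 9)

/-- Word and index of the element q2. -/
def wdQ2 : List Bool × ℕ :=
  ([false, true, true, false, true, false, true, false, true, false, true, true, true, false, true, true, true, false, true, false, true, true, false, true], 2)

/-- Word and index of the element y. -/
def wdY : List Bool × ℕ :=
  ([true, true, false, true, false, true, false, true, false, true, true, false, true, true, true, false, true, true, true, false, true, true, true], 0)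

/-- Word and index of the element x. -/
def wdX : List Bool × ℕ :=
  ([false, true, false, true, true, true, false, true, false, true, false, true, false, true, true, true, false, true, false, true, false, true, false, true, true, true, false, true, false], 12)

/-- Word and index of the element w. -/
def wdW : List Bool × ℕ :=
  ([false, true, false, true, true, false, true, false, true, false, true, true, false, true, true, true, false, true, false, true, false, true, false, true, false], 3)

end CfsgLib.J4Type.Sym
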