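import Cfsg.Agent.J4Ten.Main
import Cfsg.Agent.J4Type.SymData
import Cfsg.Agent.J4Type.Gens

/-!
A complement to the standard elementary subgroup of order `2 ^ 10` in its normaliser which contains the
images of two generators of a complement in the octad stabiliser, after a possible twist of the section.
-/

set_option autoImplicit false
set_option maxRecDepth 100000
set_option linter.style.haveILetI false
set_option linter.unusedSectionVars false

namespace CfsgLib.J4Type.Sym

open Cfsg CfsgLib.Golay CfsgLib.Golay.SylowCert CfsgLib.J4Eleven CfsgLib.J4Ten Subgroup MulAction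

/-! ### Elements given by position lists -/

theorem lists_spec : (∀ L ∈ [gaL, gbL, g0L, dL, gcL], Good L ∧ L.length = 24) ∧
    ∀ L ∈ [gaL, gbL, g0L, dL, gcL], PreservesCode L := by
  refine ⟨by decide +kernel, ?_⟩
  unfold PreservesCode
  decide +kernel

/-- The element with a given list. -/
def el (L : List ℕ) (h : L ∈ [gaL, gbL, g0L, dL, gcL]) : ↥M24 :=
  ⟨permL L, permL_mem_M24 (lists_spec.1 L h).1 (lists_spec.1 L h).2 (lists_spec.2 L h)⟩

theorem code_el (L : List ℕ) (h : L ∈ [gaL, gbL, g0L, dL, gcL]) :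
    code ((el L h : ↥M24) : Equiv.Perm GolayPt) = encL L := by
  rw [code, el, toList_permL (lists_spec.1 L h).1 (lists_spec.1 L h).2]

def gA : ↥M24 := el gaL (by simp)
def gB : ↥M24 := el gbL (by simp)
def g0 : ↥M24 := el g0L (by simp)
def dM : ↥M24 := el dL (by simp)
def gC : ↥M24 := el gcL (by simp)

/-- The code of an element. -/
noncomputable def cd (σ : ↥M24) : ℕ := code (σ : Equiv.Perm GolayPt)

theorem cd_mul (σ τ : ↥M24) : cd (σ * τ) = comp (cd σ) (cd τ) := by
  rw [cd, Subgroup.coe_mul, ← comp_code]; rfl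

theorem cd_one : cd 1 = oneCode := code_one

theorem cd_inj {σ τ : ↥M24} (h : cd σ = cd τ) : σ = τ := Subtype.ext (code_injective h)

theorem cd_gA : cd gA = encL gaL := code_el _ _
theorem cd_gB : cd gB = encL gbL := code_el _ _
theorem cd_g0 : cd g0 = encL g0L := code_el _ _
theorem cd_dM : cd dM = encL dL := code_el _ _
theorem cd_gC : cd gC = encL gcL := code_el _ _
theorem cd_fel (j : Fin 16) : cd (fel j) = fixL.getD j 0 := code_fel j

/-- A generator by its label. -/
def gen2 : Bool → ↥M24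
  | false => gA
  | true => gB

/-- The list of a generator. -/
def genL : Bool → List ℕ
  | false => gaL
  | true => gbL

/-- The coordinate images under a generator. -/
def genM : Bool → List ℕ
  | false => mA
  | true => mB

theorem cd_gen2 (b : Bool) : cd (gen2 b) = encL (genL b) := by
  cases b
  exacts [cd_gA, cd_gB]

/-- The value of a word. -/
def ev : List Bool → ↥M24
  | [] => 1
  | b :: w => gen2 b * ev w

/-- The code of the value of a word. -/
def evC : List Bool → ℕ
  | [] => oneCode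
  | b :: w => comp (encL (genL b)) (evC w)

theorem cd_ev : ∀ w, cd (ev w) = evC w
  | [] => cd_one
  | b :: w => by rw [ev, cd_mul, cd_ev w, cd_gen2, evC]

/-- The coordinate images under a word. -/
def evM : List Bool → ℕ → ℕ
  | [], n => n
  | b :: w, n => comb (genM b) (evM w n)

/-- The translation part of a word. -/
def nword (na nb : ℕ) : List Bool → ℕ
  | [] => 0
  | b :: w => cond b nb na ^^^ comb (genM b) (nword na nb w)

/-- The coordinate of a syndrome in the fixed space. -/
def inW (s : ℕ) : ℕ := ((List.range 64).filter fun n => comb wB n == s).headD 0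

/-- Translation part of the twist at a generator. -/
def twv (b : Bool) : ℕ := inW (synD (get (encL (genL b)) i0) i0)

/-- A coboundary. -/
def cob (b : Bool) (u : ℕ) : ℕ := u ^^^ comb (genM b) u

/-- Whether a list of columns describes the action of a permutation code on the coordinates. -/
def okMat (F : ℕ) (M : List ℕ) : Bool :=
  (List.range 10).all fun k =>
    decide (M.getD k 0 < 1024) && (comb wB (M.getD k 0) == act F (comb wB (2 ^ k))) &&
      (comp F (fixL.getD (fPart (2 ^ k) : ℕ) 0) == comp (fixL.getD (fPart (M.getD k 0) : ℕ) 0) F)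

theorem mat_ok : ((List.range 2).all fun i =>
    okMat (encL (genL (i == 1))) (genM (i == 1)) && ((genM (i == 1)).length == 10)) = true := by
  decide +kernel

theorem genM_ok (b : Bool) : okMat (encL (genL b)) (genM b) = true ∧ (genM b).length = 10 := by
  have h := List.all_eq_true.1 mat_ok (cond b 1 0) (List.mem_range.2 (by cases b <;> simp))
  cases b <;> simpa [Bool.and_eq_true] using h

theorem genM_lt (b : Bool) : ∀ a ∈ genM b, a < 2 ^ 10 := by
  cases b <;> decide +kernel

theorem twv_spec : ∀ b : Bool, twv b < 64 ∧ comb wB (twv b) = synD (get (encL (genL b)) i0) i0 := by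
  decide +kernel

theorem i0_mem : i0 < 24 ∧ octMask.testBit i0 = true := by decide +kernel

variable {G : Type*} [Group G] [Finite G] {z : G} {V : Subgroup G} (X : Ctx z V)

/-- The conjugation by a complement element with given code on coordinates. -/
theorem conj_alpha {σ : ↥M24} {M : List ℕ} (hM : okMat (cd σ) M = true) (hl : M.length = 10) {n : ℕ}
    (hn : n < 1024) : X.κ σ * X.alpha n * (X.κ σ)⁻¹ = X.alpha (comb M n) := by
  have hlt : ∀ a ∈ M, a < 2 ^ 10 := by
    intro a ha
    obtain ⟨k, hk, rfl⟩ := List.getElem_of_mem ha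
    have h := List.all_eq_true.1 hM k (List.mem_range.2 (hl ▸ hk))
    simp only [Bool.and_eq_true, decide_eq_true_eq, List.getD_eq_getElem _ _ hk] at h
    exact h.1.1
  refine xor_induction (n := 10)
    (P := fun n => X.κ σ * X.alpha n * (X.κ σ)⁻¹ = X.alpha (comb M n)) ?_ ?_ ?_ n hn
  · simp [X.alpha_zero, comb_zero]
  · intro k hk
    have h := List.all_eq_true.1 hM k (List.mem_range.2 hk)
    simp only [Bool.and_eq_true, decide_eq_true_eq, beq_iff_eq] at h
    obtain ⟨⟨-, h1⟩, h2⟩ := h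
    rw [comb_two_pow]
    set m := M.getD k 0
    have e : σ * fel (fPart (2 ^ k)) * σ⁻¹ = fel (fPart m) :=
      mul_inv_eq_of_eq_mul (cd_inj (by rw [cd_mul, cd_mul, cd_fel, cd_fel, h2]))
    rw [Ctx.alpha, Ctx.alpha, Ctx.elem, Ctx.elem, ← J4Eleven.conj_mul, X.conj_κ σ (wB_lt _), ← map_inv,
      ← map_mul, ← map_mul, e, h1]
    rfl
  · intro a b _ _ ha hb
    rw [X.alpha_xor, ← J4Eleven.conj_mul, ha, hb, comb_xor, X.alpha_xor]

theorem conj_gen (b : Bool) {n : ℕ} (hn : n < 1024) :
    X.κ (gen2 b) * X.alpha n * (X.κ (gen2 b))⁻¹ = X.alpha (comb (genM b) n) :=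
  conj_alpha X (by rw [cd_gen2]; exact (genM_ok b).1) (genM_ok b).2 hn

theorem gen_mem (b : Bool) : X.κ (gen2 b) ∈ normalizer (X.ten : Set G) := by
  refine X.mem_normalizer_of_le ?_
  rintro _ ⟨n, hn, rfl⟩
  exact ⟨_, comb_lt (n := 10) (genM_lt b) n, (conj_gen X b hn).symm⟩

theorem evM_lt : ∀ (w : List Bool) {n : ℕ}, n < 1024 → evM w n < 1024
  | [], _, hn => hn
  | b :: w, n, _ => comb_lt (n := 10) (genM_lt b) _

theorem conj_ev : ∀ (w : List Bool) {n : ℕ}, n < 1024 →
    X.κ (ev w) * X.alpha n * (X.κ (ev w))⁻¹ = X.alpha (evM w n)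
  | [], n, _ => by simp [ev, evM]
  | b :: w, n, hn => by
    rw [ev, map_mul, evM, ← conj_gen X b (evM_lt w hn), ← conj_ev w hn]
    group

theorem nword_lt {na nb : ℕ} (ha : na < 1024) (hb : nb < 1024) : ∀ w, nword na nb w < 1024
  | [] => by norm_num [nword]
  | b :: w => by
    refine Nat.xor_lt_two_pow (n := 10) ?_ (comb_lt (n := 10) (genM_lt b) _)
    cases b
    exacts [ha, hb]

/-! ### Complements -/

/-- A complement to the standard subgroup in its normaliser. -/
structure Compl (X : Ctx z V) (K : Subgroup G) : Prop where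
  le : K ≤ normalizer (X.ten : Set G)
  disj : ∀ x ∈ K, x ∈ X.ten → x = 1
  dec : ∀ g ∈ normalizer (X.ten : Set G), ∃ a ∈ X.ten, ∃ k ∈ K, g = a * k

theorem exists_compl_group (hF : X.Fused) : ∃ K, Compl X K := by
  obtain ⟨K, hK⟩ := X.exists_compl hF
  haveI : (X.ten.subgroupOf (normalizer (X.ten : Set G))).Normal := Subgroup.normal_in_normalizer
  refine ⟨K.map (normalizer (X.ten : Set G)).subtype, map_subtype_le K, ?_, ?_⟩
  · rintro _ ⟨m, hm, rfl⟩ hA
    exact congrArg Subtype.val (disjoint_def.1 hK.disjoint hm hA)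
  · intro g hg
    obtain ⟨a, ha, k, hk, e⟩ := mem_sup_of_normal_left.1
      (show (⟨g, hg⟩ : normalizer (X.ten : Set G)) ∈ X.ten.subgroupOf _ ⊔ K by
        rw [sup_comm, hK.sup_eq_top]; exact mem_top _)
    exact ⟨a, ha, k, ⟨k, hk, rfl⟩, congrArg Subtype.val e.symm⟩

theorem Compl.conj {X : Ctx z V} {K : Subgroup G} (h : Compl X K) {u : G} (hu : u ∈ X.ten) :
    Compl X (K.map (MulAut.conj u).toMonoidHom) := by
  have hN : ∀ x ∈ X.ten, x ∈ normalizer (X.ten : Set G) := fun x hx => le_normalizer hx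
  refine ⟨?_, ?_, ?_⟩
  · rintro _ ⟨k, hk, rfl⟩
    exact mul_mem (mul_mem (hN u hu) (h.le hk)) (inv_mem (hN u hu))
  · rintro _ ⟨k, hk, rfl⟩ hx
    have hk' : k ∈ X.ten := by
      have := mul_mem (mul_mem (inv_mem hu) hx) hu
      simpa [mul_assoc] using this
    simp [h.disj k hk hk']
  · intro g hg
    obtain ⟨a, ha, k, hk, e⟩ := h.dec (u⁻¹ * g * u) (mul_mem (mul_mem (inv_mem (hN u hu)) hg) (hN u hu))
    refine ⟨u * a * u⁻¹, mul_mem (mul_mem hu ha) (inv_mem hu), u * k * u⁻¹, ⟨k, hk, rfl⟩, ?_⟩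
    rw [J4Eleven.conj_mul, ← e]
    group

/-! ### The relations -/

/-- The translation parts at the relations, packed. -/
def packR (rs : List (List Bool × List Bool)) (na nb : ℕ) : ℕ :=
  rs.foldr (fun r m => (nword na nb r.1 ^^^ nword na nb r.2) + 1024 * m) 0

theorem rels_eq : relsL.all (fun r => evC r.1 == evC r.2) = true := by decide +kernel

theorem proj_spec : (((List.range 20).all fun k =>
    (2 ^ k == comb projP (packR relsL ((2 ^ k) % 1024) ((2 ^ k) >>> 10)) ^^^ comb solB (projQ.getD k 0))) &&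
    ((List.range 2048).all fun q =>
      (comb solB q % 1024 == (cob false (q % 1024) ^^^ cond (q.testBit 10) (twv false) 0)) &&
      (comb solB q >>> 10 == (cob true (q % 1024) ^^^ cond (q.testBit 10) (twv true) 0))) &&
    decide (∀ q ∈ projQ, q < 2 ^ 11)) = true := by decide +kernel

theorem nword_xor (a b a' b' : ℕ) : ∀ w, nword (a ^^^ a') (b ^^^ b') w = nword a b w ^^^ nword a' b' w
  | [] => by simp [nword]
  | c :: w => by
    simp only [nword, nword_xor a b a' b' w, comb_xor]
    cases c <;> simp only [cond_true, cond_false] <;> ac_rfl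

theorem nword_zero : ∀ w, nword 0 0 w = 0
  | [] => rfl
  | c :: w => by cases c <;> simp [nword, nword_zero w, comb_zero]

theorem packR_zero_of {na nb : ℕ} : ∀ rs : List (List Bool × List Bool),
    (∀ r ∈ rs, nword na nb r.1 = nword na nb r.2) → packR rs na nb = 0
  | [], _ => rfl
  | r :: rs, h => by
    show (nword na nb r.1 ^^^ nword na nb r.2) + 1024 * packR rs na nb = 0
    rw [h r List.mem_cons_self, Nat.xor_self, packR_zero_of rs fun x hx => h x (List.mem_cons_of_mem _ hx)]

theorem pack_xor {x y a b : ℕ} (hx : x < 2 ^ 10) (hy : y < 2 ^ 10) :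
    (x + 1024 * a) ^^^ (y + 1024 * b) = (x ^^^ y) + 1024 * (a ^^^ b) := by
  refine Nat.eq_of_testBit_eq fun i => ?_
  rw [add_comm x, add_comm y, add_comm (x ^^^ y), show (1024 : ℕ) = 2 ^ 10 by norm_num, Nat.testBit_xor,
    Nat.testBit_two_pow_mul_add _ hx, Nat.testBit_two_pow_mul_add _ hy,
    Nat.testBit_two_pow_mul_add _ (Nat.xor_lt_two_pow (n := 10) hx hy)]
  split <;> simp [Nat.testBit_xor]

theorem packR_xor {a b a' b' : ℕ} (ha : a < 1024) (hb : b < 1024) (ha' : a' < 1024) (hb' : b' < 1024) :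
    ∀ rs, packR rs (a ^^^ a') (b ^^^ b') = packR rs a b ^^^ packR rs a' b'
  | [] => by simp [packR]
  | r :: rs => by
    show (nword (a ^^^ a') (b ^^^ b') r.1 ^^^ nword (a ^^^ a') (b ^^^ b') r.2) + 1024 * packR rs _ _ =
      ((nword a b r.1 ^^^ nword a b r.2) + 1024 * packR rs a b) ^^^
      ((nword a' b' r.1 ^^^ nword a' b' r.2) + 1024 * packR rs a' b')
    rw [packR_xor ha hb ha' hb' rs, nword_xor, nword_xor, pack_xor
      (Nat.xor_lt_two_pow (n := 10) (nword_lt ha hb _) (nword_lt ha hb _))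
      (Nat.xor_lt_two_pow (n := 10) (nword_lt ha' hb' _) (nword_lt ha' hb' _))]
    congr 1
    ac_rfl

theorem solve {na nb : ℕ} (ha : na < 1024) (hb : nb < 1024)
    (h : ∀ r ∈ relsL, nword na nb r.1 = nword na nb r.2) :
    ∃ u < 1024, ∃ e : Bool, na = cob false u ^^^ cond e (twv false) 0 ∧ nb = cob true u ^^^ cond e (twv true) 0 := by
  have hp := proj_spec
  simp only [Bool.and_eq_true, List.all_eq_true, List.mem_range, decide_eq_true_eq, beq_iff_eq] at hp
  obtain ⟨⟨hb1, hsol⟩, hQ⟩ := hp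
  have key : ∀ x < 2 ^ 20, x = comb projP (packR relsL (x % 1024) (x >>> 10)) ^^^ comb solB (comb projQ x) := by
    refine xor_induction (n := 20) ?_ ?_ ?_
    · show 0 = comb projP (packR relsL 0 0) ^^^ comb solB (comb projQ 0)
      rw [packR_zero_of relsL fun r _ => by simp [nword_zero]]
      simp [comb_zero]
    · intro k hk
      rw [comb_two_pow projQ]
      exact hb1 k hk
    · intro x y hx hy ex ey
      rw [show (1024 : ℕ) = 2 ^ 10 from rfl, Nat.xor_mod_two_pow, Nat.shiftRight_xor_distrib,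
        packR_xor (Nat.mod_lt _ (by norm_num)) (by rw [Nat.shiftRight_eq_div_pow]; omega)
          (Nat.mod_lt _ (by norm_num)) (by rw [Nat.shiftRight_eq_div_pow]; omega), comb_xor, comb_xor, comb_xor]
      conv_lhs => rw [ex, ey]
      norm_num
      ac_rfl
  have hx : na + 1024 * nb < 2 ^ 20 := by omega
  have e := key _ hx
  have e1 : (na + 1024 * nb) % 1024 = na := by omega
  have e2 : (na + 1024 * nb) >>> 10 = nb := by rw [Nat.shiftRight_eq_div_pow]; omega
  rw [e1, e2, packR_zero_of relsL h, comb_zero, Nat.zero_xor] at e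
  have hq : comb projQ (na + 1024 * nb) < 2048 := comb_lt (n := 11) hQ _
  obtain ⟨q1, q2⟩ := hsol _ hq
  refine ⟨comb projQ (na + 1024 * nb) % 1024, Nat.mod_lt _ (by norm_num), (comb projQ (na + 1024 * nb)).testBit 10, ?_, ?_⟩
  · rw [← q1, ← e, e1]
  · rw [← q2, ← e, e2]

/-- The section twisted by a point of the octad. -/
noncomputable def twist : Ctx z V where
  φ := X.φ
  d := X.d
  C := X.C
  L := X.L
  loc := X.loc
  κ := MonoidHom.mk' (fun σ => X.d ((σ : Equiv.Perm GolayPt) (pt i0)) (pt i0) * X.κ σ) fun σ τ => by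
    have h := X.L.equiv ⟨X.κ σ, X.κN σ⟩ ((τ : Equiv.Perm GolayPt) (pt i0)) (pt i0)
    rw [X.κφ] at h
    have e := X.L.tri (((σ * τ : ↥M24) : Equiv.Perm GolayPt) (pt i0)) ((σ : Equiv.Perm GolayPt) (pt i0)) (pt i0)
    have hc := X.C.comm (X.L.memV X.C (((σ * τ : ↥M24) : Equiv.Perm GolayPt) (pt i0))
      ((σ : Equiv.Perm GolayPt) (pt i0))) (X.L.memV X.C ((σ : Equiv.Perm GolayPt) (pt i0)) (pt i0))
    rw [← e, hc, map_mul, show ((σ * τ : ↥M24) : Equiv.Perm GolayPt) (pt i0) =
      (σ : Equiv.Perm GolayPt) ((τ : Equiv.Perm GolayPt) (pt i0)) from rfl, h]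
    group
  κN σ := mul_mem (le_normalizer (X.L.memV X.C _ _)) (X.κN σ)
  κφ σ := by
    show X.φ ⟨X.d _ _ * X.κ σ, _⟩ = σ
    rw [show (⟨X.d _ _ * X.κ σ, mul_mem (le_normalizer (X.L.memV X.C _ _)) (X.κN σ)⟩ :
        normalizer (V : Set G)) =
      ⟨X.d ((σ : Equiv.Perm GolayPt) (pt i0)) (pt i0), le_normalizer (X.L.memV X.C _ _)⟩ * ⟨X.κ σ, X.κN σ⟩ from rfl,
      map_mul, X.κφ, (X.L.ker _).2 (X.L.memV X.C _ _), one_mul]

theorem twist_alpha (n : ℕ) : (twist X).alpha n = X.alpha n := by
  have h : ((fel (fPart n) : ↥M24) : Equiv.Perm GolayPt) (pt i0) = pt i0 :=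
    fel_fix _ (mem_octPts.2 (by rw [idx_pt _ i0_mem.1]; exact i0_mem.2))
  show X.nu _ * (X.d _ (pt i0) * X.κ _) = X.nu _ * X.κ _
  rw [h, X.L.self, one_mul]

theorem twist_ten : (twist X).ten = X.ten := by
  ext g
  simp only [Ctx.mem_ten, twist_alpha]

theorem twist_fused (hF : X.Fused) : (twist X).Fused := by
  refine ⟨?_, ?_, ?_, ?_⟩ <;> simp only [twist_ten, twist_alpha]
  exacts [hF.cardN, hF.map_T, hF.move_T, hF.move_S]

theorem twist_gen (b : Bool) : (twist X).κ (gen2 b) = X.alpha (twv b) * X.κ (gen2 b) := by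
  obtain ⟨h1, h2⟩ := twv_spec b
  show X.d _ (pt i0) * X.κ _ = _
  rw [X.alpha_low h1, h2, X.d_eq_nu]
  congr 2
  rw [idx_pt _ i0_mem.1, ← get_code _ i0_mem.1, show code ((gen2 b : ↥M24) : Equiv.Perm GolayPt) = _ from cd_gen2 b]

/-- After a twist, some complement contains the images of the two generators. -/
theorem exists_sym (hF : X.Fused) :
    ∃ X' : Ctx z V, X'.Fused ∧ ∃ K, Compl X' K ∧ X'.κ gA ∈ K ∧ X'.κ gB ∈ K := by
  obtain ⟨K, hK⟩ := exists_compl_group X hF
  have hgen : ∀ b, ∃ n < 1024, X.alpha n * X.κ (gen2 b) ∈ K := by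
    intro b
    obtain ⟨_, ⟨n, hn, rfl⟩, k, hk, e⟩ := hK.dec _ (gen_mem X b)
    exact ⟨n, hn, by rw [e, ← mul_assoc, X.alpha_sq, one_mul]; exact hk⟩
  obtain ⟨na, hna, hA⟩ := hgen false
  obtain ⟨nb, hnb, hB⟩ := hgen true
  have hw : ∀ w, X.alpha (nword na nb w) * X.κ (ev w) ∈ K := by
    intro w
    induction w with
    | nil => simp [nword, ev, X.alpha_zero]
    | cons b w ih =>
      have hg : X.alpha (cond b nb na) * X.κ (gen2 b) ∈ K := by
        cases b
        exacts [hA, hB]
      have h := mul_mem hg ih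
      rw [nword, ev, map_mul, X.alpha_xor, ← conj_gen X b (nword_lt hna hnb w)]
      convert h using 1
      group
  have hrel : ∀ r ∈ relsL, nword na nb r.1 = nword na nb r.2 := by
    intro r hr
    have he := List.all_eq_true.1 rels_eq r hr
    rw [beq_iff_eq, ← cd_ev, ← cd_ev] at he
    have h := mul_mem (hw r.1) (inv_mem (hw r.2))
    rw [cd_inj he, show ∀ a b c : G, a * c * (b * c)⁻¹ = a * b⁻¹ from fun a b c => by group,
      inv_eq_of_mul_eq_one_right (X.alpha_sq _), ← X.alpha_xor] at h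
    have hl := Nat.xor_lt_two_pow (n := 10) (nword_lt hna hnb r.1) (nword_lt hna hnb r.2)
    have h0 := X.alpha_inj hl (by norm_num) ((hK.disj _ h ⟨_, hl, rfl⟩).trans X.alpha_zero.symm)
    calc nword na nb r.1 = (nword na nb r.1 ^^^ nword na nb r.2) ^^^ nword na nb r.2 := by
          rw [Nat.xor_assoc, Nat.xor_self, Nat.xor_zero]
      _ = _ := by rw [h0, Nat.zero_xor]
  obtain ⟨u, hu, e, ea, eb⟩ := solve hna hnb hrel
  have hK' := hK.conj (u := X.alpha u) ⟨u, hu, rfl⟩
  have hmem : ∀ b, X.alpha (cond e (twv b) 0) * X.κ (gen2 b) ∈ K.map (MulAut.conj (X.alpha u)).toMonoidHom := by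
    intro b
    refine ⟨X.alpha (cond b nb na) * X.κ (gen2 b), by cases b; exacts [hA, hB], ?_⟩
    have hc := conj_gen X b hu
    have hn : cond b nb na = cob b u ^^^ cond e (twv b) 0 := by
      cases b
      exacts [ea, eb]
    show X.alpha u * (X.alpha (cond b nb na) * X.κ (gen2 b)) * (X.alpha u)⁻¹ = _
    rw [show (X.alpha u)⁻¹ = X.alpha u from inv_eq_of_mul_eq_one_right (X.alpha_sq u), hn, cob,
      show X.alpha u * (X.alpha (u ^^^ comb (genM b) u ^^^ cond e (twv b) 0) * X.κ (gen2 b)) * X.alpha u =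
        X.alpha u * X.alpha (u ^^^ comb (genM b) u ^^^ cond e (twv b) 0) *
          (X.κ (gen2 b) * X.alpha u * (X.κ (gen2 b))⁻¹) * X.κ (gen2 b) by group,
      hc, ← X.alpha_xor, ← X.alpha_xor]
    congr 2
    rw [show u ^^^ (u ^^^ comb (genM b) u ^^^ cond e (twv b) 0) ^^^ comb (genM b) u =
      (u ^^^ u) ^^^ (comb (genM b) u ^^^ comb (genM b) u) ^^^ cond e (twv b) 0 by ac_rfl]
    simp
  cases e
  · refine ⟨X, hF, _, hK', ?_, ?_⟩
    · simpa [X.alpha_zero, gen2] using hmem false
    · simpa [X.alpha_zero, gen2] using hmem true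
  · refine ⟨twist X, twist_fused X hF, K.map (MulAut.conj (X.alpha u)).toMonoidHom, ?_, ?_, ?_⟩
    · obtain ⟨h1, h2, h3⟩ := hK'
      exact ⟨by rw [twist_ten]; exact h1, by rw [twist_ten]; exact h2, by rw [twist_ten]; exact h3⟩
    · show (twist X).κ (gen2 false) ∈ _
      rw [twist_gen]; exact hmem false
    · show (twist X).κ (gen2 true) ∈ _
      rw [twist_gen]; exact hmem true

end CfsgLib.J4Type.Sym
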