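import Mathlib.GroupTheory.Perm.Basic
import Mathlib.Data.Fintype.Perm
import Mathlib.Data.Fintype.Pi
import Mathlib.Logic.Equiv.Fintype

/-!
A fact about the symmetric group of degree five used for the trio centraliser.
-/

set_option autoImplicit false
set_option maxRecDepth 100000
set_option synthInstance.maxSize 4000
set_option synthInstance.maxHeartbeats 400000

namespace CfsgLib.J4Type

/-- The elements of the group generated by a four-group and two further elements, by exponents. -/
def wordFS {H : Type*} [Group H] (v d f : H) (i j : Fin 2) (k : Fin 3) (l : Fin 2) : H :=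
  v ^ (i : ℕ) * (d * v * d⁻¹) ^ (j : ℕ) * d ^ (k : ℕ) * f ^ (l : ℕ)

/-- An involution `t` commuting with `f`, neither conjugate to `v`, is fixed by `d`, or lies in the group
generated by `v`, `d`, `f`, or sends its conjugate under `d` into that group. -/
theorem five_key :
    ∀ d : Equiv.Perm (Fin 5), d * d * d = 1 → d ≠ 1 →
    ∀ f : Equiv.Perm (Fin 5), f * f = 1 → f ≠ 1 → f * d * f = d * d →
    ∀ v : Equiv.Perm (Fin 5), v * v = 1 → v ≠ 1 → v * (d * v * d⁻¹) = (d * v * d⁻¹) * v →
      d * v * d⁻¹ ≠ v →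
    (∀ g, g * f * g⁻¹ ≠ v) →
    ∀ t : Equiv.Perm (Fin 5), t * t = 1 → t ≠ 1 → t * f = f * t →
      d * t * d⁻¹ = t ∨ (∃ i j k l, t = wordFS v d f i j k l) ∨
      (∃ i j k l, t * (d * t * d⁻¹) * t = wordFS v d f i j k l) ∨ ∃ g, g * t * g⁻¹ = v := by
  unfold wordFS
  decide +kernel

end CfsgLib.J4Type
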