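import Cfsg.Agent.J4Type.SymTrio
import Cfsg.Agent.KGroup.CharP
import Cfsg.Agent.LargeExtra.SimpleCriterion

/-!
The translation with the element permuting the trio is a pair of Janko-four type.
-/

set_option autoImplicit false
set_option maxRecDepth 100000
set_option synthInstance.maxSize 4000
set_option synthInstance.maxHeartbeats 400000
set_option linter.style.haveILetI false
set_option linter.unusedSectionVars false

namespace CfsgLib.J4Type

open Subgroup

/-- Conjugate pairs are of Janko-four type. -/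
theorem with_conj {G : Type*} [Group G] [Finite G] {z : G} {P : Subgroup G}
    (h : Cfsg.IsOfJankoFourTypeWith z P) (g : G) :
    Cfsg.IsOfJankoFourTypeWith (g * z * g⁻¹) (P.map (MulAut.conj g).toMonoidHom) := by
  obtain ⟨φ, hφ⟩ : ∃ φ : G ≃* G, φ = MulAut.conj g := ⟨_, rfl⟩
  obtain ⟨hz, hE, hEc, hCE, ⟨N, hEN, hNH, hHN, hN3, ⟨hn, ⟨q⟩⟩, hPN⟩, hP3, hfix, hne, hcom⟩ := h
  rw [show g * z * g⁻¹ = φ z by rw [hφ]; rfl, ← hφ]
  have hm1 : ∀ (f : G ≃* G) (S : Set G), (centralizer S).map f.toMonoidHom = centralizer (f '' S) := by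
    intro f S
    ext x
    rw [mem_map_equiv, mem_centralizer_iff, mem_centralizer_iff]
    constructor
    · rintro hx _ ⟨s, hs, rfl⟩
      have := congrArg f (hx s hs)
      simpa using this
    · intro hx s hs
      have := congrArg f.symm (hx (f s) ⟨s, hs, rfl⟩)
      simpa using this
  have hC : (centralizer ({z} : Set G)).map φ.toMonoidHom = centralizer ({φ z} : Set G) := by
    rw [hm1, Set.image_singleton]
  have hE' : (Cfsg.twoCoreOfCentralizer z).map φ.toMonoidHom = Cfsg.twoCoreOfCentralizer (φ z) := by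
    let ψ : ↥(centralizer ({z} : Set G)) ≃* ↥(centralizer ({φ z} : Set G)) :=
      (φ.subgroupMap _).trans (MulEquiv.subgroupCongr hC)
    have hψ : (Cfsg.pCore 2 ↥(centralizer ({z} : Set G))).map ψ.toMonoidHom =
        Cfsg.pCore 2 ↥(centralizer ({φ z} : Set G)) :=
      le_antisymm (CfsgLib.CharP.pCore_map_le ψ) fun x hx =>
        ⟨ψ.symm x, CfsgLib.CharP.pCore_map_le ψ.symm ⟨x, hx, rfl⟩, ψ.apply_symm_apply x⟩
    rw [Cfsg.twoCoreOfCentralizer, Cfsg.twoCoreOfCentralizer, ← hψ, map_map, map_map]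
    rfl
  have hinj : Function.Injective φ.toMonoidHom := φ.injective
  have hcK : ∀ K : Subgroup G, Nat.card ↥(K.map φ.toMonoidHom) = Nat.card ↥K := fun K =>
    card_map_of_injective hinj
  refine ⟨(orderOf_injective φ.toMonoidHom hinj z).trans hz, ?_, ?_, ?_, ⟨N.map φ.toMonoidHom, ?_, ?_, ?_, ?_, ?_, ?_⟩,
    ?_, ?_, ?_, ?_⟩
  · rw [← hE']
    exact CfsgLib.LargeExtra.isExtraspecial_equiv (equivMapOfInjective _ φ.toMonoidHom hinj) hE
  · rw [← hE', hcK, hEc]
  · rw [← hE', ← hC, coe_map, MulEquiv.coe_toMonoidHom, ← hm1, ← map_inf _ _ _ hinj]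
    exact map_mono hCE
  · rw [← hE']; exact map_mono hEN
  · rw [← hC]; exact map_mono hNH
  · rw [← hC, ← map_equiv_normalizer_eq]; exact map_mono hHN
  · rw [← hE', hcK, hcK, hN3]
  · haveI := hn
    have hn' : ((N.map φ.toMonoidHom).subgroupOf (centralizer ({φ z} : Set G))).Normal :=
      normal_subgroupOf_of_le_normalizer (by rw [← hC, ← map_equiv_normalizer_eq]; exact map_mono hHN)
    refine ⟨hn', ⟨(QuotientGroup.congr _ _ ((φ.subgroupMap _).trans (MulEquiv.subgroupCongr hC)) ?_).symm.trans q⟩⟩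
    ext x
    constructor
    · rintro ⟨a, ha, rfl⟩
      exact ⟨a, ha, rfl⟩
    · rintro ⟨a, ha, e⟩
      exact ⟨⟨a, hNH ha⟩, ha, Subtype.ext e⟩
  · exact map_mono hPN
  · rw [hcK, hP3]
  · rw [← hE', coe_map, MulEquiv.coe_toMonoidHom, ← hm1, ← map_inf _ _ _ hinj, hfix, MonoidHom.map_zpowers]
    rfl
  · rw [← map_equiv_normalizer_eq, coe_map, MulEquiv.coe_toMonoidHom, ← hm1, ← hC, ← map_inf _ _ _ hinj,
      ← map_inf _ _ _ hinj]
    exact fun e => hne (map_injective hinj e)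
  · rw [coe_map, MulEquiv.coe_toMonoidHom, ← hm1, ← hC, ← map_inf _ _ _ hinj, ← map_commutator]
    exact map_mono hcom

namespace Sym

open Cfsg CfsgLib.Golay CfsgLib.Golay.SylowCert CfsgLib.J4Eleven CfsgLib.J4Local CfsgLib.J4Ten

/-- Two elements of order three commuting with one involution generate the same subgroup. -/
theorem five_three :
    ∀ t : Equiv.Perm (Fin 5), t * t = 1 → t ≠ 1 →
    ∀ x : Equiv.Perm (Fin 5), x * x * x = 1 → x ≠ 1 → x * t = t * x →
    ∀ y : Equiv.Perm (Fin 5), y * y * y = 1 → y ≠ 1 → y * t = t * y → x = y ∨ x = y * y := by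
  decide +kernel

variable {G : Type*} [Group G] [Finite G] {z : G} {V : Subgroup G} (X : Ctx z V)

/-- The translation with the element permuting the trio is of Janko-four type. -/
theorem trio_type [IsSimpleGroup G] (hG : ¬ IsMulCommutative G) {P : Subgroup G}
    (hJ : Cfsg.IsOfJankoFourTypeWith z P) {T : G} (hT : TenT X T) :
    Cfsg.IsOfJankoFourTypeWith T (zpowers (X.κ dM)) := by
  obtain ⟨d3, d1, -, -, -, ds, -, s7, -⟩ := m24_facts
  have hTd : X.κ dM * T = T * X.κ dM := comm_dM X hG ⟨P, hJ⟩ hT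
  have hTs : X.κ (wel wdS) * T = T * X.κ (wel wdS) := hT.comm wdS (by simp [commWords])
  obtain ⟨H, ρ, hρi, -, inH⟩ := exists_rho X hG ⟨P, hJ⟩ hT
  have hy3 : X.κ dM * X.κ dM * X.κ dM = 1 := by rw [← map_mul, ← map_mul, d3, map_one]
  have hy1 : X.κ dM ≠ 1 := fun h => d1 (X.κ_injective (h.trans (map_one _).symm))
  have hsy : X.κ (wel wdS) * X.κ dM = X.κ dM * X.κ (wel wdS) := by rw [← map_mul, ← map_mul, ds]
  have hso : orderOf (X.κ (wel wdS)) = 7 := (orderOf_injective X.κ X.κ_injective _).trans s7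
  generalize X.κ dM = y at *
  generalize X.κ (wel wdS) = s at *
  obtain ⟨c, hc⟩ := isConj_iff.1 hT.conj_z
  obtain ⟨d7, ⟨hd7H, hd7P⟩, hd7o⟩ := CfsgLib.J4Seven.exists_seven_C hJ
  obtain ⟨h, hh, hhS⟩ := CfsgLib.J4Seven.conj_seven hJ hd7H hd7o (S := zpowers (c⁻¹ * s * c))
    (by rw [Nat.card_zpowers, ← hso, show c⁻¹ * s * c = MulAut.conj c⁻¹ s by simp,
      show orderOf ((MulAut.conj c⁻¹) s) = orderOf s from
        orderOf_injective (MulAut.conj c⁻¹).toMonoidHom (MulAut.conj c⁻¹).injective s])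
    (by
      rw [zpowers_le, mem_centralizer_singleton_iff, show z = c⁻¹ * T * c by rw [← hc]; group]
      calc c⁻¹ * s * c * (c⁻¹ * T * c) = c⁻¹ * (s * T) * c := by group
        _ = c⁻¹ * (T * s) * c := by rw [hTs]
        _ = _ := by group)
  set g := c * h⁻¹
  have hgz : g * z * g⁻¹ = T := by
    have hhz : h * z = z * h := mem_centralizer_singleton_iff.1 hh
    calc g * z * g⁻¹ = c * h⁻¹ * (z * h) * c⁻¹ := by simp [g, mul_assoc]
      _ = c * h⁻¹ * (h * z) * c⁻¹ := by rw [hhz]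
      _ = T := by rw [← hc]; group
  obtain ⟨⟨p, hp⟩, hpo⟩ := exists_prime_orderOf_dvd_card' (G := ↥P) 3 (by rw [card_P hJ])
  rw [Subgroup.orderOf_mk] at hpo
  have hPp : zpowers p = P := eq_of_le_of_card_ge (zpowers_le.2 hp) (by rw [card_P hJ, Nat.card_zpowers, hpo])
  set x := g * p * g⁻¹
  have hxo : orderOf x = 3 := by
    rw [show x = MulAut.conj g p from rfl,
      show orderOf ((MulAut.conj g) p) = orderOf p from
        orderOf_injective (MulAut.conj g).toMonoidHom (MulAut.conj g).injective p, hpo]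
  have hxT : x * T = T * x := by
    rw [← hgz, J4Eleven.conj_mul, J4Eleven.conj_mul, mem_centralizer_singleton_iff.1 (P_le_H hJ hp)]
  have hsx : s * x = x * s := by
    have hmem : g * d7 * g⁻¹ ∈ zpowers s := by
      obtain ⟨i, hi⟩ := mem_zpowers_iff.1 ((hhS (h⁻¹ * d7 * h)).2 (by simp [mul_assoc]))
      refine mem_zpowers_iff.2 ⟨i, ?_⟩
      calc s ^ i = c * (c⁻¹ * s * c) ^ i * c⁻¹ := by rw [← conj_zpow]; group
        _ = _ := by rw [hi]; simp [g, mul_assoc]
    have hz7 : zpowers (g * d7 * g⁻¹) = zpowers s := eq_of_le_of_card_ge (zpowers_le.2 hmem) (by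
      rw [Nat.card_zpowers, Nat.card_zpowers, hso, show g * d7 * g⁻¹ = MulAut.conj g d7 from rfl,
        show orderOf ((MulAut.conj g) d7) = orderOf d7 from
          orderOf_injective (MulAut.conj g).toMonoidHom (MulAut.conj g).injective d7, hd7o])
    obtain ⟨i, hi⟩ := mem_zpowers_iff.1 (hz7.ge (mem_zpowers s))
    have hc7 : Commute (g * d7 * g⁻¹) x := by
      rw [Commute, SemiconjBy, J4Eleven.conj_mul, J4Eleven.conj_mul, mem_centralizer_iff.1 hd7P p hp]
    have := (hc7.zpow_left i).eq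
    rwa [hi] at this
  have hx3 : x * x * x = 1 := by
    rw [mul_assoc, ← pow_three, ← hxo, pow_orderOf_eq_one]
  have hx : x ∈ H := inH x 3 (by norm_num) (by rw [pow_three, ← mul_assoc, hx3]) hsx
  have hy : y ∈ H := inH y 3 (by norm_num) (by rw [pow_three, ← mul_assoc, hy3]) hsy
  have hTH : T ∈ H := inH T 2 (by norm_num) (by rw [pow_two, hT.sq]) hTs
  have ne1 : ∀ (a : G) (ha : a ∈ H), a ≠ 1 → ρ ⟨a, ha⟩ ≠ 1 := fun a ha h' e => by
    rw [← map_one ρ] at e
    exact h' (congrArg Subtype.val (hρi e))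
  have eqρ : ∀ (a b : H), (a : G) = b → ρ a = ρ b := fun a b h' => congrArg ρ (Subtype.ext h')
  have eqρ1 : ∀ (a : H), (a : G) = 1 → ρ a = 1 := fun a h' => by rw [← map_one ρ]; exact eqρ _ _ h'
  have key := five_three (ρ ⟨T, hTH⟩) (by rw [← map_mul]; exact eqρ1 _ hT.sq) (ne1 _ hTH hT.ne)
    (ρ ⟨x, hx⟩) (by rw [← map_mul, ← map_mul]; exact eqρ1 _ hx3)
    (ne1 _ hx fun e => by rw [e, orderOf_one] at hxo; norm_num at hxo)
    (by rw [← map_mul, ← map_mul]; exact eqρ _ _ hxT)
    (ρ ⟨y, hy⟩) (by rw [← map_mul, ← map_mul]; exact eqρ1 _ hy3) (ne1 _ hy hy1)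
    (by rw [← map_mul, ← map_mul]; exact eqρ _ _ hTd)
  have hxy : zpowers x = zpowers y := by
    refine eq_of_le_of_card_ge (zpowers_le.2 ?_) ?_
    · rcases key with e | e
      · rw [show x = y from congrArg Subtype.val (hρi e)]; exact mem_zpowers y
      · rw [← map_mul] at e
        rw [show x = y * y from congrArg Subtype.val (hρi e)]
        exact mul_mem (mem_zpowers y) (mem_zpowers y)
    · haveI : Fact (Nat.Prime 3) := ⟨Nat.prime_three⟩
      rw [Nat.card_zpowers, Nat.card_zpowers, hxo, orderOf_eq_prime (by rw [pow_three, ← mul_assoc, hy3]) hy1]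
  have hw := with_conj hJ g
  rw [hgz, ← hPp, MonoidHom.map_zpowers, show (MulAut.conj g).toMonoidHom p = x from rfl, hxy] at hw
  exact hw

end Sym

end CfsgLib.J4Type
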