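import Cfsg.Agent.J4Type.SymBase

/-!
The translation in the complement, commuting with the stabiliser of an octad inside the trio stabiliser and
satisfying the first long relator.
-/

set_option autoImplicit false
set_option maxRecDepth 100000
set_option linter.style.haveILetI false
set_option linter.unusedSectionVars false

namespace CfsgLib.J4Type.Sym

open Cfsg CfsgLib.Golay CfsgLib.Golay.SylowCert CfsgLib.J4Eleven CfsgLib.J4Ten Subgroup MulAction

/-- The element of a word followed by one of the pointwise stabiliser. -/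
def wel (p : List Bool × ℕ) : ↥M24 := ev p.1 * fel ⟨p.2 % 16, Nat.mod_lt _ (by norm_num)⟩

/-- Its code. -/
def welC (p : List Bool × ℕ) : ℕ := comp (evC p.1) (fixL.getD (p.2 % 16) 0)

theorem cd_wel (p : List Bool × ℕ) : cd (wel p) = welC p := by
  rw [wel, cd_mul, cd_ev, cd_fel]; rfl

/-- The words whose images commute with the translation. -/
def commWords : List (List Bool × ℕ) := [wdF, wdS, wdQ0, wdQ1, wdQ2, wdX, wdW]

theorem mT_comm : (commWords.all fun p => (List.range 10).all fun k =>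
    evM p.1 (comb mT (2 ^ k)) == comb mT (evM p.1 (2 ^ k))) = true := by decide +kernel

theorem mT_fix : ((List.range 16).all fun j => comb mT (64 * j) == 64 * j) = true := by decide +kernel

theorem mT_sq : ((List.range 10).all fun k => comb mT (comb mT (2 ^ k)) == 2 ^ k) = true := by decide +kernel

theorem mT_ne : ∃ k < 10, comb mT (2 ^ k) ≠ 2 ^ k := by decide +kernel

theorem mT_r1 : ((List.range 10).all fun k =>
    evM wdY.1 (comb mT (evM wdY.1 (comb mT (evM wdY.1 (comb mT (2 ^ k)))))) == 2 ^ k) = true := by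
  decide +kernel

theorem mG_conj : ((List.range 10).all fun k =>
    comb mG (comb mT (2 ^ k)) == comb mA (comb mG (2 ^ k))) = true := by decide +kernel

theorem gC_conj : comp (encL gcL) (encL gaL) = comp (fixL.getD jc 0) (encL gcL) := by decide +kernel

theorem jc_spec : jc < 16 ∧ inS (64 * jc) = true ∧ inS (64 * (wdF.2 % 16)) = true ∧ wdF.1 = [] ∧
    wdY.2 % 16 = 0 ∧ inS startB = true ∧ startB < 64 ∧ comb wB startB ≠ 0 ∧ isDuad (comb wB startB) = false := by
  decide +kernel

/-- Whether two lists of columns in five and ten dimensions describe the same element. -/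
def colsOK (cs r : List ℕ) : Bool :=
  (r.all fun a => decide (a < 1024)) && (List.range 10).all fun i =>
    let t := three.getD i (0, 0, 0)
    let t1 := comb cs t.1
    let t2 := comb cs t.2.1
    let t3 := comb cs t.2.2
    let x := comb r (pB.getD i 0)
    (spanMask (fibB.getD t1 []) &&& spanMask (fibB.getD t2 []) &&& spanMask (fibB.getD t3 []) == (1 ||| (1 <<< x))) &&
      decide (0 < x ∧ 0 < t1 ∧ t1 < 32 ∧ 0 < t2 ∧ t2 < 32 ∧ 0 < t3 ∧ t3 < 32)

theorem cols_ok : colsOK csT mT = true ∧ colsOK csG mG = true ∧ csT.length = 5 ∧ csG.length = 5 ∧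
    (∀ a ∈ csT ++ csG, a < 2 ^ 5) := by decide +kernel

/-- The matrix of five columns. -/
def mat5 (cs : List ℕ) : Matrix (Fin 5) (Fin 5) (ZMod 2) := Matrix.of fun i k => vec5 (cs.getD k 0) i

theorem det_T : (mat5 csT).det = 1 := by decide +kernel

theorem det_G : (mat5 csG).det = 1 := by decide +kernel

variable {G : Type*} [Group G] [Finite G] {z : G} {V : Subgroup G} (X : Ctx z V)

theorem κ_fel (j : Fin 16) : X.κ (fel j) = X.alpha (64 * (j : ℕ)) := by
  have e : fPart (64 * (j : ℕ)) = j := Fin.ext (by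
    show ((64 * (j : ℕ)) >>> 6) % 16 = j
    rw [Nat.shiftRight_eq_div_pow]
    omega)
  rw [Ctx.alpha, e, comb_mod, w_parts.2.1, show 64 * (j : ℕ) % 2 ^ 6 = 0 by omega, comb_zero, Ctx.elem, X.nu_zero,
    one_mul]

/-- Conjugation by an element with given five columns. -/
theorem conj_of_cols (hF : X.Fused) (g : normalizer (X.ten : Set G)) {cs r : List ℕ} (hg : X.hcols g = cs)
    (hok : colsOK cs r = true) {n : ℕ} (hn : n < 1024) :
    (g : G) * X.alpha n * (g : G)⁻¹ = X.alpha (comb r n) := by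
  have hspec := fib_spec
  simp only [Bool.and_eq_true] at hspec
  obtain ⟨⟨hfib, hcov⟩, hthree⟩ := hspec
  rw [colsOK, Bool.and_eq_true] at hok
  have h0 : ∀ L : List ℕ, 0 ∈ spanL L := fun L => by
    induction L with
    | nil => simp [spanL]
    | cons a l ih => rw [spanL]; exact List.mem_append_left _ ih
  have hmv0 : X.mv g 0 = 0 := X.alpha_inj (X.mv_lt g 0) (by norm_num)
    (by rw [← X.mv_spec g (by norm_num), X.alpha_zero, mul_one, mul_inv_cancel])
  have hin : ∀ p, 0 < p → p < 32 → 0 < comb cs p → ∀ x ∈ spanL (fibB.getD p []),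
      x < 1024 ∧ X.mv g x ∈ spanL (fibB.getD (comb cs p) []) := by
    intro p hp0 hp hp'
    have hb : ∀ b ∈ fibB.getD p [], b < 1024 ∧ X.mv g b ∈ spanL (fibB.getD (comb cs p) []) := by
      intro b hb
      have h1 := List.all_eq_true.1 hfib p (List.mem_range.2 hp)
      rw [Bool.or_eq_true, beq_iff_eq] at h1
      have h2 := List.all_eq_true.1 (h1.resolve_left (by omega)) b hb
      rw [Bool.and_eq_true, decide_eq_true_eq, beq_iff_eq] at h2
      have h3 := List.all_eq_true.1 hcov (X.mv g b) (List.mem_range.2 (X.mv_lt g b))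
      rw [X.qf_mv hF g h2.1, h2.2, hg, Bool.or_eq_true, beq_iff_eq] at h3
      exact ⟨h2.1, testBit_spanMask.1 (h3.resolve_left (by omega))⟩
    have key : ∀ L : List ℕ, (∀ b ∈ L, b ∈ fibB.getD p []) → ∀ x ∈ spanL L,
        x < 1024 ∧ X.mv g x ∈ spanL (fibB.getD (comb cs p) []) := by
      intro L
      induction L with
      | nil =>
        intro _ x hx
        simp only [spanL, List.mem_singleton] at hx
        subst hx
        exact ⟨by norm_num, by rw [hmv0]; exact h0 _⟩
      | cons a l ih =>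
        intro hL x hx
        simp only [spanL, List.mem_append, List.mem_map] at hx
        have ih' := ih fun b hb => hL b (List.mem_cons_of_mem _ hb)
        rcases hx with hx | ⟨y, hy, rfl⟩
        · exact ih' x hx
        · obtain ⟨ha, ha'⟩ := hb a (hL a List.mem_cons_self)
          refine ⟨Nat.xor_lt_two_pow (n := 10) ha (ih' y hy).1, ?_⟩
          rw [X.mv_xor g ha (ih' y hy).1]
          exact spanL_xor _ ha' (ih' y hy).2
    exact key _ fun _ hb => hb
  have hbasis : ∀ i < 10, X.mv g (pB.getD i 0) = comb r (pB.getD i 0) := by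
    intro i hi
    have h1 := List.all_eq_true.1 hthree i (List.mem_range.2 hi)
    simp only [Bool.and_eq_true, beq_iff_eq, decide_eq_true_eq] at h1
    obtain ⟨hM, p1, p1', p2, p2', p3, p3'⟩ := h1
    have h2 := List.all_eq_true.1 hok.2 i (List.mem_range.2 hi)
    simp only [Bool.and_eq_true, beq_iff_eq, decide_eq_true_eq] at h2
    obtain ⟨hM', hx0, q1, q1', q2, q2', q3, q3'⟩ := h2
    have hmem := congrArg (fun m => Nat.testBit m (pB.getD i 0)) hM
    simp only [Nat.testBit_and, Nat.testBit_or, Nat.one_shiftLeft, Nat.testBit_two_pow, decide_true,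
      Bool.or_true, Bool.and_eq_true, testBit_spanMask] at hmem
    obtain ⟨⟨m1, m2⟩, m3⟩ := hmem
    obtain ⟨hlt, r1⟩ := hin _ p1 p1' q1 _ m1
    obtain ⟨-, r2⟩ := hin _ p2 p2' q2 _ m2
    obtain ⟨-, r3⟩ := hin _ p3 p3' q3 _ m3
    have hres := congrArg (fun m => Nat.testBit m (X.mv g (pB.getD i 0))) hM'
    simp only [Nat.testBit_and, Nat.testBit_or, Nat.one_shiftLeft, Nat.testBit_two_pow,
      testBit_spanMask.2 r1, testBit_spanMask.2 r2, testBit_spanMask.2 r3, Bool.and_self] at hres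
    rw [eq_comm, Bool.or_eq_true, decide_eq_true_eq, Nat.testBit_one_eq_true_iff_self_eq_zero] at hres
    rcases hres with h | h
    · have e := X.mv_spec g hlt
      rw [h, X.alpha_zero, conj_eq_one_iff] at e
      have e0 := X.alpha_inj hlt (by norm_num) (e.trans X.alpha_zero.symm)
      rw [e0, comb_zero] at hx0
      exact absurd hx0 (lt_irrefl 0)
    · exact h.symm
  have hr : ∀ a ∈ r, a < 2 ^ 10 := fun a ha => by simpa using List.all_eq_true.1 hok.1 a ha
  rw [X.mv_spec g hn]
  congr 1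
  rw [← pB_pInv hn]
  refine xor_induction (n := 10) (P := fun y => X.mv g (comb pB y) = comb r (comb pB y)) ?_ ?_ ?_ _
    (comb_lt (n := 10) coord_spec.2.2.2 n)
  · simp [comb_zero, hmv0]
  · intro k hk
    rw [comb_two_pow]
    exact hbasis k hk
  · intro a b _ _ ha hb
    rw [comb_xor pB, X.mv_xor g (pB_lt a) (pB_lt b), ha, hb, ← comb_xor]

/-- An element of a complement with given columns. -/
theorem exists_with_cols (hF : X.Fused) {K : Subgroup G} (hK : Compl X K) {cs r : List ℕ}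
    (hl : cs.length = 5) (hlt : ∀ a ∈ cs, a < 2 ^ 5) (hdet : (mat5 cs).det = 1) (hok : colsOK cs r = true) :
    ∃ k ∈ K, ∀ n < 1024, k * X.alpha n * k⁻¹ = X.alpha (comb r n) := by
  obtain ⟨K0, hK0⟩ : ∃ K0 : Subgroup (normalizer (X.ten : Set G)),
      K0.IsComplement' (X.ten.subgroupOf (normalizer (X.ten : Set G))) := X.exists_compl hF
  obtain ⟨g, hg⟩ := (X.theta_bijective hF hK0).2 ⟨mat5 cs, hdet⟩
  have hm : X.mat (g : normalizer (X.ten : Set G)) = mat5 cs := congrArg Subtype.val hg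
  have hcs : X.hcols (g : normalizer (X.ten : Set G)) = cs := by
    have hlen : (X.hcols (g : normalizer (X.ten : Set G))).length = 5 := by simp [Ctx.hcols]
    refine List.ext_getElem (by rw [hlen, hl]) fun i h1 h2 => ?_
    have hi : i < 5 := hlen ▸ h1
    have h := congrArg (fun M => fun j => M j (⟨i, hi⟩ : Fin 5)) hm
    simp only [Ctx.mat, mat5, Matrix.of_apply, List.getD_eq_getElem _ _ h1, List.getD_eq_getElem _ _ h2] at h
    refine vec5_inj ?_ (hlt _ (List.getElem_mem _)) h
    rw [← List.getD_eq_getElem _ 0 h1, X.hcols_getD _ hi]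
    exact qf_lt _
  obtain ⟨a, ha, k, hk, e⟩ := hK.dec _ (g : normalizer (X.ten : Set G)).2
  refine ⟨k, hk, fun n hn => ?_⟩
  have h := conj_of_cols X hF _ hcs hok hn
  rw [e, show a * k * X.alpha n * (a * k)⁻¹ = a * (k * X.alpha n * k⁻¹) * a⁻¹ by group] at h
  obtain ⟨m, hm', em⟩ := (mem_normalizer_iff.1 (hK.le hk) _).1 ⟨n, hn, rfl⟩
  rw [← em, X.ten_comm ha ⟨m, hm', rfl⟩, mul_inv_cancel_right] at h
  rw [← em, h]

/-- Elements of a complement with the same action agree. -/
theorem Compl.ext {X : Ctx z V} {K : Subgroup G} (hK : Compl X K) {a b : G} (ha : a ∈ K) (hb : b ∈ K)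
    (h : ∀ k < 10, a * X.alpha (2 ^ k) * a⁻¹ = b * X.alpha (2 ^ k) * b⁻¹) : a = b := by
  have hall : ∀ n < 2 ^ 10, a * X.alpha n * a⁻¹ = b * X.alpha n * b⁻¹ := by
    refine xor_induction ?_ h ?_
    · simp [X.alpha_zero]
    · intro u v _ _ hu hv
      rw [X.alpha_xor, ← J4Eleven.conj_mul, hu, hv, J4Eleven.conj_mul]
  have hc : b⁻¹ * a ∈ X.ten := by
    refine X.centralizer_ten.le (mem_centralizer_iff.2 ?_)
    rintro _ ⟨n, hn, rfl⟩
    calc X.alpha n * (b⁻¹ * a) = b⁻¹ * (b * X.alpha n * b⁻¹) * a := by group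
      _ = b⁻¹ * (a * X.alpha n * a⁻¹) * a := by rw [hall n hn]
      _ = _ := by group
  exact (inv_mul_eq_one.1 (hK.disj _ (mul_mem (inv_mem hb) ha) hc)).symm

theorem ev_mem {K : Subgroup G} (hA : X.κ gA ∈ K) (hB : X.κ gB ∈ K) : ∀ w, X.κ (ev w) ∈ K
  | [] => by simp [ev]
  | b :: w => by
    rw [ev, map_mul]
    refine mul_mem ?_ (ev_mem hA hB w)
    cases b
    exacts [hA, hB]

/-- An element of the class of `z`. -/
theorem isConj_inS (hF : X.Fused) {n : ℕ} (hn : n < 1024) (h : inS n = true) : IsConj z (X.alpha n) := by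
  obtain ⟨-, -, -, -, -, hB, h64, h0, hd⟩ := jc_spec
  obtain ⟨g, -, e⟩ := hF.move_S startB (by omega) n hn hB h
  refine IsConj.trans ?_ (isConj_iff.2 ⟨g, e⟩)
  rw [X.alpha_low h64]
  exact (X.isConj_nu (wB_lt _) h0).2 hd

/-- The properties of the translation inside the normaliser of the standard subgroup. -/
structure TenT (X : Ctx z V) (T : G) : Prop where
  sq : T * T = 1
  ne : T ≠ 1
  conj_z : IsConj z T
  mem : T ∈ normalizer (X.ten : Set G)
  comm : ∀ p ∈ commWords, X.κ (wel p) * T = T * X.κ (wel p)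
  r1 : (X.κ (ev wdY.1) * T) ^ 3 = 1
  conj_f : IsConj z (X.κ (wel wdF))
  act : ∀ n < 1024, T * X.alpha n * T = X.alpha (comb mT n)

theorem exists_tenT (hF : X.Fused) {K : Subgroup G} (hK : Compl X K) (hA : X.κ gA ∈ K) (hB : X.κ gB ∈ K) :
    ∃ T, TenT X T := by
  obtain ⟨okT, okG, lT, lG, hlt⟩ := cols_ok
  obtain ⟨T, hT, aT⟩ := exists_with_cols X hF hK lT (fun a ha => hlt a (List.mem_append_left _ ha)) det_T okT
  obtain ⟨g, hg, aG⟩ := exists_with_cols X hF hK lG (fun a ha => hlt a (List.mem_append_right _ ha)) det_G okG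
  have hp : ∀ k < 10, 2 ^ k < 1024 := fun k hk => Nat.pow_lt_pow_right (a := 2) (n := 10) (by norm_num) hk
  have hmT : ∀ n, comb mT n < 1024 := fun n => by
    have h := okT
    rw [colsOK, Bool.and_eq_true] at h
    exact comb_lt (n := 10) (fun a ha => by simpa using List.all_eq_true.1 h.1 a ha) n
  have hmG : ∀ n, comb mG n < 1024 := fun n => by
    have h := okG
    rw [colsOK, Bool.and_eq_true] at h
    exact comb_lt (n := 10) (fun a ha => by simpa using List.all_eq_true.1 h.1 a ha) n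
  have comp2 : ∀ (a b : G) (n m : ℕ), b * X.alpha n * b⁻¹ = X.alpha m →
      a * b * X.alpha n * (a * b)⁻¹ = a * X.alpha m * a⁻¹ := fun a b n m h => by rw [← h]; group
  refine ⟨T, ?_, ?_, ?_, hK.le hT, ?_, ?_, ?_, ?_⟩
  · refine hK.ext (mul_mem hT hT) (one_mem _) fun k hk => ?_
    have h := List.all_eq_true.1 mT_sq k (List.mem_range.2 hk)
    rw [comp2 T T _ _ (aT _ (hp k hk)), aT _ (hmT _), beq_iff_eq.1 h]
    simp
  · intro e
    obtain ⟨k, hk, hne⟩ := mT_ne
    have h := aT _ (hp k hk)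
    rw [e] at h
    exact hne (X.alpha_inj (hmT _) (hp k hk) (by simpa using h.symm))
  · have e : g * T = X.κ gA * g := hK.ext (mul_mem hg hT) (mul_mem hA hg) fun k hk => by
      have h := List.all_eq_true.1 mG_conj k (List.mem_range.2 hk)
      rw [comp2 g T _ _ (aT _ (hp k hk)), aG _ (hmT _), comp2 _ g _ _ (aG _ (hp k hk)), beq_iff_eq.1 h]
      exact (conj_gen X false (hmG _)).symm
    refine IsConj.trans (isConj_inS X hF (by have := jc_spec.1; omega) jc_spec.2.1) (isConj_iff.2 ⟨g⁻¹ * (X.κ gC)⁻¹, ?_⟩)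
    have e2 : gC * gA = fel ⟨jc, jc_spec.1⟩ * gC := cd_inj (by
      rw [cd_mul, cd_mul, cd_gC, cd_gA, cd_fel]; exact gC_conj)
    rw [← κ_fel X ⟨jc, jc_spec.1⟩]
    calc g⁻¹ * (X.κ gC)⁻¹ * X.κ (fel ⟨jc, jc_spec.1⟩) * (g⁻¹ * (X.κ gC)⁻¹)⁻¹
        = g⁻¹ * ((X.κ gC)⁻¹ * X.κ (fel ⟨jc, jc_spec.1⟩ * gC)) * g := by rw [map_mul]; group
      _ = g⁻¹ * (X.κ gA * g) := by rw [← e2, map_mul]; group
      _ = T := by rw [← e]; group
  · intro p hp'
    have h1 : X.κ (ev p.1) * T = T * X.κ (ev p.1) :=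
      hK.ext (mul_mem (ev_mem X hA hB _) hT) (mul_mem hT (ev_mem X hA hB _)) fun k hk => by
        have h := List.all_eq_true.1 (List.all_eq_true.1 mT_comm p hp') k (List.mem_range.2 hk)
        rw [comp2 _ T _ _ (aT _ (hp k hk)), conj_ev X _ (hmT _), comp2 T _ _ _ (conj_ev X p.1 (hp k hk)),
          aT _ (evM_lt _ (hp k hk)), beq_iff_eq.1 h]
    set j : Fin 16 := ⟨p.2 % 16, Nat.mod_lt _ (by norm_num)⟩
    have h2 : X.κ (fel j) * T = T * X.κ (fel j) := by
      have hj : 64 * (j : ℕ) < 1024 := by have := j.2; omega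
      have h := aT _ hj
      rw [beq_iff_eq.1 (List.all_eq_true.1 mT_fix _ (List.mem_range.2 j.2)), mul_inv_eq_iff_eq_mul] at h
      rw [κ_fel]
      exact h.symm
    rw [wel, map_mul, mul_assoc, h2, ← mul_assoc, h1, mul_assoc]
  · refine hK.ext (pow_mem (mul_mem (ev_mem X hA hB _) hT) 3) (one_mem _) fun k hk => ?_
    have h := List.all_eq_true.1 mT_r1 k (List.mem_range.2 hk)
    have hstep : ∀ n < 1024, X.κ (ev wdY.1) * T * X.alpha n * (X.κ (ev wdY.1) * T)⁻¹ =
        X.alpha (evM wdY.1 (comb mT n)) := fun n hn => by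
      rw [comp2 _ T _ _ (aT _ hn), conj_ev X _ (hmT _)]
    rw [pow_three, comp2 _ _ _ _ (comp2 _ _ _ _ (hstep _ (hp k hk)) ▸ hstep _ (evM_lt _ (hmT _))),
      hstep _ (evM_lt _ (hmT _)), beq_iff_eq.1 h]
    simp
  · obtain ⟨-, -, hf, hw, -⟩ := jc_spec
    rw [wel, hw, ev, one_mul, κ_fel]
    exact isConj_inS X hF (by omega) hf
  · have hsq : T * T = 1 := hK.ext (mul_mem hT hT) (one_mem _) fun k hk => by
      have h := List.all_eq_true.1 mT_sq k (List.mem_range.2 hk)
      rw [comp2 T T _ _ (aT _ (hp k hk)), aT _ (hmT _), beq_iff_eq.1 h]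
      simp
    intro n hn
    rw [← aT n hn, inv_eq_of_mul_eq_one_right hsq]

end CfsgLib.J4Type.Sym
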