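import Cfsg.Agent.J4Type.SymTen
import Cfsg.Agent.J4Type.SymFive
import Cfsg.Agent.S5567
import Cfsg.Agent.S5573

/-!
The translation is centralised by the stabiliser of the trio: the relators of the presentation of the fourth
Janko group which involve the third generator, except the last.
-/

set_option autoImplicit false
set_option maxRecDepth 100000
set_option linter.style.haveILetI false
set_option linter.unusedSectionVars false

namespace CfsgLib.J4Type.Sym

open Cfsg CfsgLib.Golay CfsgLib.Golay.SylowCert CfsgLib.J4Eleven CfsgLib.J4Local CfsgLib.J4Local.M22Elem CfsgLib.J4Ten Subgroup MulAction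

/-- The code of a product of powers of the two elements permuting the trio. -/
def sixC (k l : ℕ) : ℕ := (List.replicate k (encL dL) ++ List.replicate l (welC wdF)).foldr comp oneCode

/-- The first duad fixed by the element of order seven. -/
def duadA : ℕ := synD 3 4

/-- The second duad. -/
def duadB : ℕ := act (encL dL) duadA

theorem trio_spec :
    (comp (encL dL) (comp (encL dL) (encL dL)) = oneCode ∧ encL dL ≠ oneCode) ∧
    (comp (welC wdF) (welC wdF) = oneCode ∧ welC wdF ≠ oneCode ∧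
      comp (welC wdF) (comp (encL dL) (welC wdF)) = comp (encL dL) (encL dL)) ∧
    (comp (encL dL) (welC wdS) = comp (welC wdS) (encL dL) ∧
      comp (welC wdF) (welC wdS) = comp (welC wdS) (welC wdF) ∧ welC wdS ≠ oneCode ∧
      (List.replicate 7 (welC wdS)).foldr comp oneCode = oneCode) ∧
    comp (encL dL) (welC wdQ1) = comp (welC wdQ0) (encL dL) ∧
    (act (welC wdS) duadA = duadA ∧ duadB ≠ duadA ∧ isDuad duadA = true) := by decide +kernel

theorem six_spec : ∀ k : Fin 3, ∀ l : Fin 2, comp (sixC k l) (welC wdQ0) = comp (welC wdQ0) (sixC k l) →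
    k = 0 ∧ l = 0 := by decide +kernel

theorem act_spec : ((List.range 2048).all fun e => e == 0 || act (welC wdQ0) e != e || act (welC wdS) e != e) =
    true := by decide +kernel

theorem cd_sigma (k : Fin 3) (l : Fin 2) : cd (dM ^ (k : ℕ) * wel wdF ^ (l : ℕ)) = sixC k l := by
  have h1 : ∀ (σ : ↥M24) (n : ℕ) (τ : ↥M24) (c : List ℕ), cd τ = c.foldr comp oneCode →
      cd (σ ^ n * τ) = (List.replicate n (cd σ) ++ c).foldr comp oneCode := by
    intro σ n τ c hc
    induction n with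
    | zero => simpa using hc
    | succ n ih => rw [pow_succ', mul_assoc, cd_mul, ih, List.replicate_succ, List.cons_append, List.foldr_cons]
  have h2 := h1 (wel wdF) (l : ℕ) 1 [] cd_one
  rw [mul_one, List.append_nil] at h2
  rw [h1 dM (k : ℕ) _ _ h2, cd_dM, cd_wel, sixC]

theorem m24_facts :
    dM * dM * dM = 1 ∧ dM ≠ 1 ∧ wel wdF * wel wdF = 1 ∧ wel wdF ≠ 1 ∧
      wel wdF * dM * wel wdF = dM * dM ∧ dM * wel wdS = wel wdS * dM ∧
      wel wdF * wel wdS = wel wdS * wel wdF ∧ orderOf (wel wdS) = 7 ∧ dM * wel wdQ1 = wel wdQ0 * dM := by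
  obtain ⟨⟨h1, h2⟩, ⟨h3, h4, h5⟩, ⟨h6, h7, h8, h9⟩, h10, -⟩ := trio_spec
  refine ⟨cd_inj ?_, fun e => h2 ?_, cd_inj ?_, fun e => h4 ?_, cd_inj ?_, cd_inj ?_, cd_inj ?_, ?_, cd_inj ?_⟩
  · rw [mul_assoc, cd_mul, cd_mul, cd_dM, cd_one, h1]
  · rw [← cd_dM, e, cd_one]
  · rw [cd_mul, cd_wel, cd_one, h3]
  · rw [← cd_wel, e, cd_one]
  · rw [mul_assoc, cd_mul, cd_mul, cd_mul, cd_dM, cd_wel, h5]
  · rw [cd_mul, cd_mul, cd_dM, cd_wel, h6]
  · simp only [cd_mul, cd_wel, h7]
  · haveI : Fact (Nat.Prime 7) := ⟨by norm_num⟩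
    refine orderOf_eq_prime (cd_inj ?_) fun e => h8 (by rw [← cd_wel, e, cd_one])
    have key : ∀ n, cd (wel wdS ^ n) = (List.replicate n (welC wdS)).foldr comp oneCode := by
      intro n
      induction n with
      | zero => exact cd_one
      | succ n ih => rw [pow_succ', cd_mul, ih, cd_wel, List.replicate_succ, List.foldr_cons]
    rw [key, h9, cd_one]
  · rw [cd_mul, cd_mul, cd_dM, cd_wel, cd_wel, h10]

variable {G : Type*} [Group G] [Finite G] {z : G} {V : Subgroup G} (X : Ctx z V)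

/-- An element of the group generated by the duads and the elements permuting the trio commuting with the
group fixing each octad is trivial. -/
theorem eq_one_of_comm {i j : Fin 2} {k : Fin 3} {l : Fin 2}
    (hq : X.κ (wel wdQ0) * wordFS (X.nu duadA) (X.κ dM) (X.κ (wel wdF)) i j k l =
      wordFS (X.nu duadA) (X.κ dM) (X.κ (wel wdF)) i j k l * X.κ (wel wdQ0))
    (hs : X.κ (wel wdS) * wordFS (X.nu duadA) (X.κ dM) (X.κ (wel wdF)) i j k l =
      wordFS (X.nu duadA) (X.κ dM) (X.κ (wel wdF)) i j k l * X.κ (wel wdS)) :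
    wordFS (X.nu duadA) (X.κ dM) (X.κ (wel wdF)) i j k l = 1 := by
  have hA : duadA < 2048 := synD_lt _ _
  have hB : duadB < 2048 := act_lt _ _
  have hv : X.κ dM * X.nu duadA * (X.κ dM)⁻¹ = X.nu duadB := by
    rw [X.conj_κ dM hA, show code ((dM : ↥M24) : Equiv.Perm GolayPt) = encL dL from cd_dM]
    rfl
  obtain ⟨e, he, hword⟩ : ∃ e < 2048, wordFS (X.nu duadA) (X.κ dM) (X.κ (wel wdF)) i j k l =
      X.elem e (dM ^ (k : ℕ) * wel wdF ^ (l : ℕ)) := by
    have hp : ∀ (a : ℕ) (i : Fin 2), X.nu a ^ (i : ℕ) = X.nu ((i : ℕ) * a) := fun a i => by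
      fin_cases i <;> simp [X.nu_zero]
    have hl : ∀ (a : ℕ) (i : Fin 2), a < 2048 → (i : ℕ) * a < 2 ^ 11 := fun a i ha => by
      fin_cases i <;> simp <;> omega
    refine ⟨((i : ℕ) * duadA) ^^^ ((j : ℕ) * duadB), Nat.xor_lt_two_pow (hl _ _ hA) (hl _ _ hB), ?_⟩
    rw [wordFS, hv, hp, hp, Ctx.elem, X.nu_xor, map_mul, map_pow, map_pow]
    simp only [mul_assoc]
  rw [hword] at hq hs ⊢
  have key : ∀ p : List Bool × ℕ, X.κ (wel p) * X.elem e (dM ^ (k : ℕ) * wel wdF ^ (l : ℕ)) =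
      X.elem e (dM ^ (k : ℕ) * wel wdF ^ (l : ℕ)) * X.κ (wel p) →
      act (welC p) e = e ∧
        wel p * (dM ^ (k : ℕ) * wel wdF ^ (l : ℕ)) = dM ^ (k : ℕ) * wel wdF ^ (l : ℕ) * wel p := by
    intro p h
    rw [show X.κ (wel p) = X.elem 0 (wel p) by rw [Ctx.elem, X.nu_zero, one_mul], X.elem_mul he,
      X.elem_mul (by norm_num), act_zero, Nat.xor_zero, Nat.zero_xor] at h
    obtain ⟨h1, h2⟩ := X.elem_inj (act_lt _ _) he h
    rw [show code ((wel p : ↥M24) : Equiv.Perm GolayPt) = welC p from cd_wel p] at h1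
    exact ⟨h1, h2⟩
  obtain ⟨q1, q2⟩ := key _ hq
  obtain ⟨s1, -⟩ := key _ hs
  have h0 := List.all_eq_true.1 act_spec e (List.mem_range.2 he)
  simp only [q1, s1, bne_self_eq_false, Bool.or_false, beq_iff_eq] at h0
  obtain ⟨hk, hl⟩ := six_spec k l (by
    have := congrArg cd q2
    rw [cd_mul, cd_mul (dM ^ (k : ℕ) * _), cd_sigma, cd_wel] at this
    exact this.symm)
  simp [hk, hl, h0, X.elem_one]

/-- The centraliser of the element of order seven modulo that element is the symmetric group of degree five. -/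
theorem exists_rho [IsSimpleGroup G] (hG : ¬ IsMulCommutative G) (hJ : Cfsg.IsOfJankoFourTypeAt z) {T : G}
    (hT : TenT X T) :
    ∃ (H : Subgroup G) (ρ : H →* Equiv.Perm (Fin 5)), Function.Injective ρ ∧ Function.Surjective ρ ∧
      ∀ (x : G) (m : ℕ), Nat.Coprime 7 m → x ^ m = 1 → X.κ (wel wdS) * x = x * X.κ (wel wdS) → x ∈ H := by
  have s7 := m24_facts.2.2.2.2.2.2.2.1
  obtain ⟨c, hc⟩ := isConj_iff.1 hT.conj_z
  have hTs : X.κ (wel wdS) * T = T * X.κ (wel wdS) := hT.comm wdS (by simp [commWords])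
  set s := X.κ (wel wdS)
  let ψ : G →* G := (MulAut.conj c⁻¹).toMonoidHom
  have hψi : Function.Injective ψ := (MulAut.conj c⁻¹).injective
  have hψT : ψ T = z := by
    show c⁻¹ * T * c⁻¹⁻¹ = z
    rw [← hc]
    group
  have hord : orderOf (ψ s) = 7 := by
    rw [orderOf_injective ψ hψi, orderOf_injective X.κ X.κ_injective, s7]
  obtain ⟨-, ⟨I, ⟨hS1, hI1, hcom, hdis, hsup⟩, ⟨e⟩⟩, -, -⟩ := Cfsg.Agent.S5573.result hG z hJ (zpowers (ψ s))
    (by rw [Nat.card_zpowers, hord]) (by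
      rw [zpowers_le, mem_centralizer_singleton_iff, ← hψT, ← map_mul, ← map_mul, hTs])
  have hIN : I ≤ normalizer ((zpowers (ψ s) : Subgroup G) : Set G) := hI1.trans (centralizer_le_normalizer _)
  have inI : ∀ (x : G) (m : ℕ), Nat.Coprime 7 m → x ^ m = 1 → s * x = x * s → ψ x ∈ I := by
    intro x m hm hx hsx
    have hmem : ψ x ∈ ((zpowers (ψ s) ⊔ I : Subgroup G) : Set G) := by
      rw [hsup]
      exact mem_centralizer_iff.2 fun y hy => by
        obtain ⟨i, rfl⟩ := mem_zpowers_iff.1 hy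
        have hcc : Commute (ψ s) (ψ x) := by rw [Commute, SemiconjBy, ← map_mul, ← map_mul, hsx]
        exact (hcc.zpow_left i).eq
    rw [Subgroup.coe_mul_of_right_le_normalizer_left (zpowers (ψ s)) I hIN] at hmem
    obtain ⟨a, ha, b, hb, hab⟩ := hmem
    have hab' : Commute a b := hcom a ha b hb
    have hpow : a ^ m * b ^ m = 1 := by
      rw [← hab'.mul_pow, show a * b = ψ x from hab, ← map_pow, hx, map_one]
    have ha1 : a ^ m = 1 := by
      rw [← Subgroup.mem_bot, ← hdis]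
      refine Subgroup.mem_inf.2 ⟨pow_mem ha m, ?_⟩
      rw [eq_inv_of_mul_eq_one_left hpow]
      exact inv_mem (pow_mem hb m)
    have ha7 : a ^ 7 = 1 := by
      obtain ⟨i, rfl⟩ := mem_zpowers_iff.1 ha
      rw [← zpow_natCast, ← zpow_mul, mul_comm, zpow_mul, zpow_natCast, ← hord, pow_orderOf_eq_one, one_zpow]
    have ha0 : a = 1 := by
      have h := Nat.dvd_gcd (orderOf_dvd_of_pow_eq_one ha7) (orderOf_dvd_of_pow_eq_one ha1)
      rw [hm.gcd_eq_one, Nat.dvd_one, orderOf_eq_one_iff] at h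
      exact h
    rw [← show a * b = ψ x from hab, ha0, one_mul]
    exact hb
  set H : Subgroup G := I.comap ψ
  let ρ : H →* Equiv.Perm (Fin 5) :=
    e.toMonoidHom.comp ((ψ.comp H.subtype).codRestrict I fun x => x.2)
  have hρi : Function.Injective ρ := fun a b h => Subtype.ext (hψi (congrArg Subtype.val (e.injective h)))
  have hρs : Function.Surjective ρ := by
    intro g
    obtain ⟨y, rfl⟩ := e.surjective g
    have hy : ψ (c * (y : G) * c⁻¹) = y := by
      show c⁻¹ * (c * (y : G) * c⁻¹) * c⁻¹⁻¹ = y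
      group
    exact ⟨⟨c * y * c⁻¹, by show ψ _ ∈ I; rw [hy]; exact y.2⟩, congrArg e (Subtype.ext hy)⟩
  exact ⟨H, ρ, hρi, hρs, inI⟩

/-- The element permuting the trio centralises the translation. -/
theorem comm_dM [IsSimpleGroup G] (hG : ¬ IsMulCommutative G) (hJ : Cfsg.IsOfJankoFourTypeAt z) {T : G}
    (hT : TenT X T) : X.κ dM * T = T * X.κ dM := by
  obtain ⟨d3, d1, f2, f1, fdf, ds, fs, s7, dq⟩ := m24_facts
  obtain ⟨-, -, -, -, hAs, hAB, hAd⟩ := trio_spec
  set d := X.κ dM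
  set f := X.κ (wel wdF)
  set s := X.κ (wel wdS)
  set v := X.nu duadA
  have hA : duadA < 2048 := synD_lt _ _
  have hTs : s * T = T * s := hT.comm wdS (by simp [commWords])
  have hTf : f * T = T * f := hT.comm wdF (by simp [commWords])
  have hTq0 : X.κ (wel wdQ0) * T = T * X.κ (wel wdQ0) := hT.comm wdQ0 (by simp [commWords])
  have hTq1 : X.κ (wel wdQ1) * T = T * X.κ (wel wdQ1) := hT.comm wdQ1 (by simp [commWords])
  have hsv : s * v = v * s := by
    have h : X.κ (wel wdS) * v * (X.κ (wel wdS))⁻¹ = v := by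
      rw [X.conj_κ _ hA, show code ((wel wdS : ↥M24) : Equiv.Perm GolayPt) = welC wdS from cd_wel _, hAs]
    exact mul_inv_eq_iff_eq_mul.1 h
  obtain ⟨H, ρ, hρi, hρs, inI⟩ := exists_rho X hG hJ hT
  have hd : d ∈ H := inI d 3 (by norm_num) (by rw [← map_pow, pow_three, ← mul_assoc, d3, map_one])
    (by rw [← map_mul, ← map_mul, ds])
  have hf : f ∈ H := inI f 2 (by norm_num) (by rw [← map_pow, pow_two, f2, map_one])
    (by rw [← map_mul, ← map_mul, fs])
  have hv : v ∈ H := inI v 2 (by norm_num) (by rw [pow_two, X.nu_sq]) hsv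
  have hTH : T ∈ H := inI T 2 (by norm_num) (by rw [pow_two, hT.sq]) hTs
  have hnz : ¬ IsConj z v := (mem_nS.1 ((X.nu_mem_nS hA).2 hAd)).2.2
  have hv1 : v ≠ 1 := (mem_nS.1 ((X.nu_mem_nS hA).2 hAd)).2.1
  have hdv : d * v * d⁻¹ = X.nu duadB := by
    rw [X.conj_κ dM hA, show code ((dM : ↥M24) : Equiv.Perm GolayPt) = encL dL from cd_dM]
    rfl
  have notconj : ∀ (x : G) (hx : x ∈ H), IsConj z x → ∀ g, g * ρ ⟨x, hx⟩ * g⁻¹ ≠ ρ ⟨v, hv⟩ := by
    intro x hx hz g hg
    obtain ⟨y, rfl⟩ := hρs g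
    rw [← map_inv, ← map_mul, ← map_mul] at hg
    exact hnz (hz.trans (isConj_iff.2 ⟨y, congrArg Subtype.val (hρi hg)⟩))
  have hword : ∀ i j k l, ρ (wordFS ⟨v, hv⟩ ⟨d, hd⟩ ⟨f, hf⟩ i j k l) =
      wordFS (ρ ⟨v, hv⟩) (ρ ⟨d, hd⟩) (ρ ⟨f, hf⟩) i j k l := fun i j k l => by
    simp only [wordFS, map_mul, map_pow, map_inv]
  have hcoe : ∀ i j k l, ((wordFS ⟨v, hv⟩ ⟨d, hd⟩ ⟨f, hf⟩ i j k l : H) : G) = wordFS v d f i j k l :=
    fun i j k l => by simp only [wordFS, Subgroup.coe_mul, SubgroupClass.coe_pow, Subgroup.coe_inv]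
  have ne1 : ∀ (x : G) (hx : x ∈ H), x ≠ 1 → ρ ⟨x, hx⟩ ≠ 1 := fun x hx h e' => by
    rw [← map_one ρ] at e'
    exact h (congrArg Subtype.val (hρi e'))
  have eqρ : ∀ (a b : H), (a : G) = b → ρ a = ρ b := fun a b h => congrArg ρ (Subtype.ext h)
  have eqρ1 : ∀ (a : H), (a : G) = 1 → ρ a = 1 := fun a h => by rw [← map_one ρ]; exact eqρ _ _ h
  have key := five_key (ρ ⟨d, hd⟩) (by
      rw [← map_mul, ← map_mul]; exact eqρ1 _ (by show d * d * d = 1; rw [← map_mul, ← map_mul, d3, map_one]))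
    (ne1 _ hd fun h => d1 (X.κ_injective (h.trans (map_one _).symm)))
    (ρ ⟨f, hf⟩) (by rw [← map_mul]; exact eqρ1 _ (by show f * f = 1; rw [← map_mul, f2, map_one]))
    (ne1 _ hf fun h => f1 (X.κ_injective (h.trans (map_one _).symm)))
    (by simp only [← map_mul]; exact eqρ _ _ (by show f * d * f = d * d; simp only [d, f, ← map_mul, fdf]))
    (ρ ⟨v, hv⟩) (by rw [← map_mul]; exact eqρ1 _ (X.nu_sq _)) (ne1 _ hv hv1)
    (by
      simp only [← map_inv, ← map_mul]
      refine eqρ _ _ ?_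
      show v * (d * v * d⁻¹) = d * v * d⁻¹ * v
      rw [hdv, ← X.nu_xor, ← X.nu_xor, Nat.xor_comm])
    (by
      rw [← map_inv, ← map_mul, ← map_mul]
      intro h
      have h' : d * v * d⁻¹ = v := congrArg Subtype.val (hρi h)
      rw [hdv] at h'
      exact hAB (X.nu_inj (act_lt _ _) hA h'))
    (notconj f hf hT.conj_f)
    (ρ ⟨T, hTH⟩) (by rw [← map_mul]; exact eqρ1 _ hT.sq) (ne1 _ hTH hT.ne)
    (by rw [← map_mul, ← map_mul]; exact eqρ _ _ hTf.symm)
  rcases key with h | ⟨i, j, k, l, h⟩ | ⟨i, j, k, l, h⟩ | ⟨g, h⟩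
  · rw [← map_inv, ← map_mul, ← map_mul] at h
    exact mul_inv_eq_iff_eq_mul.1 (congrArg Subtype.val (hρi h))
  · exfalso
    rw [← hword] at h
    have e1 : T = wordFS v d f i j k l := (congrArg Subtype.val (hρi h)).trans (hcoe i j k l)
    exact hT.ne (e1.trans (eq_one_of_comm X (e1 ▸ hTq0) (e1 ▸ hTs)))
  · exfalso
    rw [← map_inv, ← map_mul, ← map_mul, ← map_mul, ← map_mul, ← hword] at h
    have e1 : T * (d * T * d⁻¹) * T = wordFS v d f i j k l := (congrArg Subtype.val (hρi h)).trans (hcoe i j k l)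
    have h1 : Commute (X.κ (wel wdQ0)) (d * T * d⁻¹) := by
      have e2 : X.κ (wel wdQ0) = d * X.κ (wel wdQ1) * d⁻¹ := by
        rw [← map_mul, dq, map_mul, mul_inv_cancel_right]
      rw [Commute, SemiconjBy, e2, J4Eleven.conj_mul, J4Eleven.conj_mul, hTq1]
    have h2 : Commute s (d * T * d⁻¹) := by
      have hds : Commute s d := by rw [Commute, SemiconjBy, ← map_mul, ← map_mul, ds]
      exact (hds.mul_right hTs).mul_right hds.inv_right
    have h3 : Commute (X.κ (wel wdQ0)) (T * (d * T * d⁻¹) * T) := (Commute.mul_right hTq0 h1).mul_right hTq0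
    have h4 : Commute s (T * (d * T * d⁻¹) * T) := (Commute.mul_right hTs h2).mul_right hTs
    have e3 := e1.trans (eq_one_of_comm X (e1 ▸ h3) (e1 ▸ h4))
    refine hT.ne ?_
    have e4 : d * T * d⁻¹ = 1 := by
      calc d * T * d⁻¹ = T⁻¹ * (T * (d * T * d⁻¹) * T) * T⁻¹ := by group
        _ = T⁻¹ * T⁻¹ := by rw [e3, mul_one]
        _ = 1 := by rw [← mul_inv_rev, hT.sq, inv_one]
    exact conj_eq_one_iff.1 e4
  · exact absurd h (notconj T hTH hT.conj_z g)

/-- The complement moved so that an octad of the trio becomes the standard one. -/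
noncomputable def kap : ↥M24 →* G := X.κ.comp (MulAut.conj g0).toMonoidHom

theorem kap_apply (σ : ↥M24) : kap X σ = X.κ (g0 * σ * g0⁻¹) := rfl

theorem code_gX : cd gX = encL [22, 2, 1, 21, 13, 6, 5, 12, 9, 8, 11, 10, 7, 4, 20, 17, 23, 15, 19, 18, 14, 3, 0, 16] :=
  congrArg encL CfsgLib.Coset.J4.toList_Xp

theorem code_gY : cd gY = encL [0, 22, 2, 1, 21, 13, 6, 5, 12, 9, 8, 11, 10, 7, 4, 20, 17, 23, 15, 19, 18, 14, 3, 16] :=
  congrArg encL CfsgLib.Coset.J4.toList_Yp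

/-- The element moving the third generator in the first long relator. -/
noncomputable def gA1 : ↥M24 := gY * gX * gY⁻¹ * gX * gY * gX * gY⁻¹ * gX

theorem gY_inv : gY⁻¹ = gY * gY := by
  refine inv_eq_of_mul_eq_one_right ?_
  rw [← pow_three]
  exact relators.2.1

theorem words_eq : g0 * gX * g0⁻¹ = wel wdX * dM ∧ g0 * gW * g0⁻¹ = wel wdW * (dM * dM) ∧
    g0 * gA1 * gY * gA1⁻¹ * g0⁻¹ = ev wdY.1 := by
  refine ⟨mul_inv_eq_of_eq_mul (cd_inj ?_), mul_inv_eq_of_eq_mul (cd_inj ?_), ?_⟩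
  · simp only [cd_mul, cd_g0, code_gX, cd_wel, cd_dM]
    decide +kernel
  · simp only [gW, gY_inv, pow_succ, pow_zero, one_mul, cd_mul, cd_g0, code_gX, code_gY, cd_wel, cd_dM]
    decide +kernel
  · rw [mul_inv_eq_iff_eq_mul, mul_inv_eq_iff_eq_mul]
    refine cd_inj ?_
    simp only [gA1, gY_inv, cd_mul, cd_g0, code_gX, code_gY, cd_ev]
    decide +kernel

theorem relator_of_conj {H : Type*} [Group H] {W A Y T : H} (hW : W = A * Y * A⁻¹) (h : (W * T) ^ 3 = 1) :
    (Y * (A⁻¹ * T * A)) ^ 3 = 1 := by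
  subst hW
  calc (Y * (A⁻¹ * T * A)) ^ 3 = A⁻¹ * (A * Y * A⁻¹ * T) ^ 3 * A := by
        simp only [pow_three, mul_assoc, mul_inv_cancel_left, inv_mul_cancel_left]
    _ = 1 := by rw [h, mul_one, inv_mul_cancel]

/-- The relators with the third generator apart from the last one. -/
theorem trio_relators [IsSimpleGroup G] (hG : ¬ IsMulCommutative G) (hJ : Cfsg.IsOfJankoFourTypeAt z) {T : G}
    (hT : TenT X T) :
    T ^ 2 = 1 ∧ T⁻¹ * (kap X gW)⁻¹ * T * kap X gW = 1 ∧ T⁻¹ * (kap X gX)⁻¹ * T * kap X gX = 1 ∧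
      (kap X gY * ((kap X gA1)⁻¹ * T * kap X gA1)) ^ 3 = 1 := by
  obtain ⟨hX, hW, hY⟩ := words_eq
  have hd : Commute (X.κ dM) T := comm_dM X hG hJ hT
  have cX : Commute (kap X gX) T := by
    rw [kap_apply, hX, map_mul]
    exact Commute.mul_left (hT.comm wdX (by simp [commWords])) hd
  have cW : Commute (kap X gW) T := by
    rw [kap_apply, hW, map_mul, map_mul]
    exact Commute.mul_left (hT.comm wdW (by simp [commWords])) (hd.mul_left hd)
  refine ⟨by rw [pow_two]; exact hT.sq, ?_, ?_, ?_⟩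
  · calc T⁻¹ * (kap X gW)⁻¹ * T * kap X gW = (kap X gW * T)⁻¹ * (T * kap X gW) := by group
      _ = 1 := by rw [cW.eq, inv_mul_cancel]
  · calc T⁻¹ * (kap X gX)⁻¹ * T * kap X gX = (kap X gX * T)⁻¹ * (T * kap X gX) := by group
      _ = 1 := by rw [cX.eq, inv_mul_cancel]
  · refine relator_of_conj ?_ hT.r1
    rw [kap_apply, kap_apply, ← map_inv, ← map_mul, ← map_mul, ← hY]
    refine congrArg X.κ ?_
    simp only [mul_assoc, mul_inv_rev, inv_inv, inv_mul_cancel_left]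

/-- A complement and a translation in a simple group of Janko-four type. -/
theorem exists_trio {G : Type*} [Group G] [Finite G] [IsSimpleGroup G] (hG : ¬ IsMulCommutative G) {z : G}
    {P : Subgroup G} (hJ : Cfsg.IsOfJankoFourTypeWith z P) :
    ∃ X : Ctx z (CfsgLib.J4Local.vZero hJ subA), X.Fused ∧ ∃ T, TenT X T ∧
      X.κ dM * T = T * X.κ dM := by
  have hX := CfsgLib.J4Eleven.hexad.first
  obtain ⟨-, K, h1, h2, h3, -⟩ := Cfsg.Agent.S5567.result hG ⟨z, P, hJ⟩ _
    (CfsgLib.J4Local.elementary_vZero hJ hX) (CfsgLib.J4Local.card_vZero hJ hX)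
  obtain ⟨X0, hF0, -⟩ := exists_std hJ hG ⟨K, h1, h2, h3⟩
  obtain ⟨X, hF, K', hK, hA, hB⟩ := exists_sym X0 hF0
  obtain ⟨T, hT⟩ := exists_tenT X hF hK hA hB
  exact ⟨X, hF, T, hT, comm_dM X hG ⟨P, hJ⟩ hT⟩

/-- All relators but the last, in a simple group of Janko-four type. -/
theorem exists_relators {G : Type*} [Group G] [Finite G] [IsSimpleGroup G] (hG : ¬ IsMulCommutative G) {z : G}
    (hJ : Cfsg.IsOfJankoFourTypeAt z) :
    ∃ (k : ↥M24 →* G) (T : G), Function.Injective k ∧ T ≠ 1 ∧ IsConj z T ∧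
      T ^ 2 = 1 ∧ T⁻¹ * (k gW)⁻¹ * T * k gW = 1 ∧ T⁻¹ * (k gX)⁻¹ * T * k gX = 1 ∧
        (k gY * ((k gA1)⁻¹ * T * k gA1)) ^ 3 = 1 := by
  obtain ⟨P, hP⟩ := hJ
  obtain ⟨X, -, T, hT, -⟩ := exists_trio hG hP
  exact ⟨kap X, T, X.κ_injective.comp (MulAut.conj g0).injective, hT.ne, hT.conj_z,
    trio_relators X hG ⟨P, hP⟩ hT⟩

end CfsgLib.J4Type.Sym
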